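import Cfsg.Agent.H650.Q5.HomU_m3
import Cfsg.Agent.S0245
import Cfsg.Agent.H772.G2.Asm5_mg_m3
import Cfsg.Agent.H270.GT.Five_m3
import Cfsg.Agent.SporRec.LyFive
import Cfsg.Agent.SporRec.LyG2.G14
import Cfsg.Agent.SporRec.LyG2.LyEmb
import Cfsg.Agent.SporRec.LyFiveFinal
import Cfsg.Agent.TypeM.FactsLy
import Cfsg.Agent.H805.PU.Main_m3
import Cfsg.Agent.Lib.FinFast
import Cfsg.Agent.H659.PU.Over_m3
import Cfsg.Agent.H802.FusBasic
import Cfsg.Agent.FastGrp
import Cfsg.Agent.Prune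
set_option linter.all false

section
prune_inst 0x7ff0bcfb8ff83ddfdfff7e77fe9dddfdfdf87fffbcdff9cbffe8e1ff0fdf4b06c9c523ad8fe850ff1ef6421410e87b43f9ffdeffe26bd87ffffd5ff41ffbff8ffdf7b508519488340fbc0ff703f07f8e7f3fffffffffffffffffffffffffffbeffbfffffffff

-- part: H24/Q5/Final
section
prune_inst 0xc0000200000000000000000200000020000000000020000000000000000001000d000100000000000800000000000020000000400200000000000400000100000080000020000000000086000000000000000000000000000000000000000000000000000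
set_option linter.all false
open scoped Cfsg.Agent.FastGrp

-- part: H35/Q5/M1
section
/-!
# S5211, block q = 5, (M1): elements of order 5 and centralizers (helper35)
-/

set_option autoImplicit false
set_option maxRecDepth 100000

namespace Cfsg.Agent.H35.Q5

open Matrix Cfsg.Agent.H24.Q5

/-- the matrices commuting with `mA` -/
def hm (a b c d : ZMod 5) : M5 := !![a, -3 * b, 3 * b + c, b + c + d; 0, a, -2 * b, -b - 2 * c; 0, 0, a, b; 0, 0, 0, a]

theorem comm_entries {g : M5} (h : g * mA = mA * g) (i j : Fin 4) : (g * mA) i j = (mA * g) i j := by rw [h]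

theorem eq_hm {g : M5} (h : g * mA = mA * g) : g = hm (g 3 3) (g 2 3) (2 * (g 1 3 + g 2 3))
    (g 0 3 - g 2 3 - 2 * (g 1 3 + g 2 3)) := by
  have E := comm_entries h
  have f5 : (5 : ZMod 5) = 0 := by decide
  have E20 := E 2 0
  have E10 := E 1 0
  have E00 := E 0 0
  have E21 := E 2 1
  have E11 := E 1 1
  have E01 := E 0 1
  have E22 := E 2 2
  have E12 := E 1 2
  have E02 := E 0 2
  have E23 := E 2 3
  have E13 := E 1 3
  have E03 := E 0 3
  simp only [Matrix.mul_apply, Fin.sum_univ_four, mA, _root_.Fin.isValue, _root_.Matrix.of_apply, _root_.Matrix.cons_val', _root_.Matrix.cons_val_zero, _root_.Matrix.cons_val_fin_one, _root_.mul_one, _root_.Matrix.cons_val_one, _root_.MulZeroClass.mul_zero, _root_.add_zero, _root_.Matrix.cons_val, _root_.MulZeroClass.zero_mul, _root_.one_mul, _root_.zero_add, _root_.left_eq_add, _root_.neg_mul, _root_.mul_neg] at E20 E10 E00 E21 E11 E01 E22 E12 E02 E23 E13 E03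
  have k20 : g 2 0 = 0 := by linear_combination 3 * E10 - 3 * E20 - g 2 0 * f5
  have k10 : g 1 0 = 0 := by linear_combination 2 * E00 + 6 * k20 + 2 * E20 - g 1 0 * f5
  have k31 : g 3 1 = 0 := by linear_combination -E21 - 3 * k20
  have k21 : g 2 1 = 0 := by linear_combination 3 * E11 + 9 * k10 - 3 * k31 - g 2 1 * f5
  have k11 : g 1 1 = g 0 0 := by linear_combination 2 * E01 + 6 * k21 + 2 * k31 - (g 1 1 - g 0 0) * f5
  have k32 : g 3 2 = 0 := by linear_combination -E22 + 3 * k20 - 2 * k21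
  have k22 : g 2 2 = g 1 1 := by linear_combination 3 * E12 - 9 * k10 - 3 * k32 - (g 2 2 - g 1 1) * f5
  have k33 : g 2 2 = g 3 3 := by linear_combination E23 - k20 + k21
  have k12 : g 1 2 = -2 * g 2 3 := by linear_combination E13 - k10 + k33 - k22
  have k01 : g 0 1 = -3 * g 2 3 := by
    linear_combination -3 * E02 - 9 * k11 - 9 * k22 + 9 * k12 - 3 * k32 - (g 0 1 + 3 * g 2 3) * f5
  have k02 : g 0 2 = 3 * g 2 3 + 2 * (g 1 3 + g 2 3) := by
    linear_combination E03 + k01 + k11 + k22 - k33 - (g 1 3 + g 2 3) * f5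
  refine Matrix.ext fun i j => ?_
  fin_cases i <;> fin_cases j
  · exact (k11.symm.trans k22.symm).trans k33
  · exact k01
  · exact k02
  · show g 0 3 = g 2 3 + 2 * (g 1 3 + g 2 3) + (g 0 3 - g 2 3 - 2 * (g 1 3 + g 2 3))
    ring
  · exact k10
  · exact k22.symm.trans k33
  · exact k12
  · show g 1 3 = -g 2 3 - 2 * (2 * (g 1 3 + g 2 3))
    linear_combination (g 1 3 + g 2 3) * f5
  · exact k20
  · exact k21
  · exact k33
  · rfl
  · exact E20
  · exact k31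
  · exact k32
  · rfl

/-- the powers of `mA` -/
def pw (k : ZMod 5) : M5 := hm 1 k (3 * k * (k - 1)) (k * (k - 1) * (k - 2))

/-- `exp (b N ^ 3)` -/
def zz (b : ZMod 5) : M5 := !![1, 0, 0, b; 0, 1, 0, 0; 0, 0, 1, 0; 0, 0, 0, 1]

theorem pw_eq : ∀ k : ZMod 5, mA ^ k.val = pw k := by decide +kernel

theorem pow_ne : ∀ k : ZMod 5, k ≠ 0 → (mA ^ k.val - 1) ^ 3 ≠ 0 := by decide +kernel

private noncomputable def _root_.Cfsg.Agent.LsF.f4f11bc_0 : {f // @Cfsg.Agent.H35.Q5.zz = f} := ⟨_, by first | (delta Cfsg.Agent.H35.Q5.zz; rewrite [Cfsg.Agent.LsF.mof_pat, Cfsg.Agent.LsF.vecCons_eq]; exact rfl) | exact rfl⟩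
theorem zz_pow : ∀ b : ZMod 5, zz b ^ 5 = 1 := by (refine of_decide_eq_true ?_; (try (rewrite [Cfsg.Agent.LsF.mpowF_pat, Cfsg.Agent.LsF.f4f11bc_0.2, Cfsg.Agent.LsF.zadd_pat, Cfsg.Agent.LsF.zmul_pat, Cfsg.Agent.LsF.zdecEq_eq, Cfsg.Agent.LsF.finFintype_eq, Cfsg.Agent.LsF.zFintype_eq, Cfsg.Agent.LsF.dForall_eq, Cfsg.Agent.LsF.dMat_eq, Cfsg.Agent.LsF.instMOne_eq, Cfsg.Agent.LsF.dFinEq_eq, Cfsg.Agent.LsF.decide_eq])); decide +kernel)

theorem zz_nil : ∀ b : ZMod 5, (zz b - 1) ^ 3 = 0 := by (refine of_decide_eq_true ?_; (try (rewrite [Cfsg.Agent.LsF.mpowF_pat, Cfsg.Agent.LsF.msub_pat, Cfsg.Agent.LsF.f4f11bc_0.2, Cfsg.Agent.LsF.zadd_pat, Cfsg.Agent.LsF.zmul_pat, Cfsg.Agent.LsF.zsub_pat, Cfsg.Agent.LsF.zdecEq_eq, Cfsg.Agent.LsF.finFintype_eq, Cfsg.Agent.LsF.zFintype_eq, Cfsg.Agent.LsF.dForall_eq, Cfsg.Agent.LsF.dMat_eq, Cfsg.Agent.LsF.instMOne_eq, Cfsg.Agent.LsF.dFinEq_eq, Cfsg.Agent.LsF.decide_eq])); decide +kernel)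

theorem zz_one : ∀ b : ZMod 5, zz b = 1 → b = 0 := by decide +kernel

private noncomputable def _root_.Cfsg.Agent.LsF.f4f11bc_1 : {f // @Cfsg.Agent.H35.Q5.hm = f} := ⟨_, by first | (delta Cfsg.Agent.H35.Q5.hm; rewrite [Cfsg.Agent.LsF.mof_pat, Cfsg.Agent.LsF.zadd_pat, Cfsg.Agent.LsF.zmul_pat, Cfsg.Agent.LsF.zsub_pat, Cfsg.Agent.LsF.zneg_pat, Cfsg.Agent.LsF.vecCons_eq]; exact rfl) | exact rfl⟩
private noncomputable def _root_.Cfsg.Agent.LsF.f4f11bc_2 : {f // @Cfsg.Agent.H35.Q5.pw = f} := ⟨_, by first | (delta Cfsg.Agent.H35.Q5.pw; rewrite [Cfsg.Agent.LsF.f4f11bc_1.2, Cfsg.Agent.LsF.zmul_pat, Cfsg.Agent.LsF.zsub_pat]; exact rfl) | exact rfl⟩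
theorem key : ∀ a b c d : ZMod 5, a * a = 1 → a * b + 2 * a * c - b * b = 0 →
    ∃ e, hm a b c d * hm a b c d * pw (-2 * a * b) = zz e ∧
      (e = 0 → hm a b c d = pw (a * b) ∨ hm a b c d = -pw (a * b)) := by (refine of_decide_eq_true ?_; (try (rewrite [Cfsg.Agent.LsF.mmulF_pat, Cfsg.Agent.LsF.mneg_pat, Cfsg.Agent.LsF.f4f11bc_1.2, Cfsg.Agent.LsF.f4f11bc_2.2, Cfsg.Agent.LsF.f4f11bc_0.2, Cfsg.Agent.LsF.zadd_pat, Cfsg.Agent.LsF.zmul_pat, Cfsg.Agent.LsF.zsub_pat, Cfsg.Agent.LsF.zneg_pat, Cfsg.Agent.LsF.zdecEq_eq, Cfsg.Agent.LsF.finFintype_eq, Cfsg.Agent.LsF.zFintype_eq, Cfsg.Agent.LsF.dForall_eq, Cfsg.Agent.LsF.dExists_eq, Cfsg.Agent.LsF.dMat_eq, Cfsg.Agent.LsF.zACM_pat, Cfsg.Agent.LsF.dAnd_eq, Cfsg.Agent.LsF.dOr_eq, Cfsg.Agent.LsF.dImp_eq, Cfsg.Agent.LsF.dAllP_eq, Cfsg.Agent.LsF.decide_eq])); decide +kernel)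

theorem gA_coe : (gA : M5) = mA := rfl

theorem gA_pow_coe (k : ℕ) : ((gA ^ k : M5ˣ) : M5) = mA ^ k := by rw [Units.val_pow_eq_pow_val, gA_coe]

theorem gA_five : gA ^ 5 = 1 := Units.ext (by rw [gA_pow_coe, mA5]; rfl)

theorem gA_ne : gA ≠ 1 := by
  intro h
  have h1 : mA = 1 := congrArg Units.val h
  revert h1
  decide +kernel

theorem gA_mod (k : ℕ) : gA ^ k = gA ^ ((k : ZMod 5).val) := by
  rw [ZMod.val_natCast]
  conv_lhs => rw [← Nat.div_add_mod k 5, pow_add, pow_mul, gA_five, one_pow, one_mul]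

/-- a diagonal matrix conjugating `mA` to `mA ^ 2` resp. `mA ^ 3` -/
def Dg (r : ZMod 5) : M5 := !![r ^ 3, 0, 0, 0; 0, r ^ 2, 0, 0; 0, 0, r, 0; 0, 0, 0, 1]

theorem Dg_inv : ∀ r : ZMod 5, r ≠ 0 → Dg r * Dg (r ^ 3) = 1 ∧ Dg (r ^ 3) * Dg r = 1 := by decide +kernel

theorem Dg_conj : ∀ r : ZMod 5, r ≠ 0 → Dg (r ^ 3) * pw r = mA * Dg (r ^ 3) := by decide +kernel

theorem sq_ne : ∀ r x : ZMod 5, r = 2 ∨ r = 3 → r ^ 3 * x * x ≠ 1 := by decide +kernel

/-! ### the order -/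

/-- the change of coordinates to the standard symplectic form -/
def Qm : Matrix (Fin 2 ⊕ Fin 2) (Fin 4) (ZMod 5) := Matrix.of fun i j => match i with
  | Sum.inl 0 => if j = 3 then 1 else 0
  | Sum.inl 1 => if j = 2 then 3 else 0
  | Sum.inr 0 => if j = 0 then 1 else 0
  | Sum.inr 1 => if j = 1 then 1 else 0

def Qi : Matrix (Fin 4) (Fin 2 ⊕ Fin 2) (ZMod 5) := Matrix.of fun j i => match i with
  | Sum.inl 0 => if j = 3 then 1 else 0
  | Sum.inl 1 => if j = 2 then 2 else 0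
  | Sum.inr 0 => if j = 0 then 1 else 0
  | Sum.inr 1 => if j = 1 then 1 else 0

theorem Qi_Qm : Qi * Qm = 1 := by decide +kernel

theorem Qm_Qi : Qm * Qi = 1 := by decide +kernel

theorem Qm_form : Qmᵀ * J (Fin 2) (ZMod 5) * Qm = Om := by decide +kernel

theorem Qi_form : Qiᵀ * Om * Qi = J (Fin 2) (ZMod 5) := by
  rw [← Qm_form]
  calc Qiᵀ * (Qmᵀ * J (Fin 2) (ZMod 5) * Qm) * Qi = (Qm * Qi)ᵀ * J (Fin 2) (ZMod 5) * (Qm * Qi) := by
        rw [Matrix.transpose_mul]; simp only [Matrix.mul_assoc]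
    _ = _ := by rw [Qm_Qi, Matrix.transpose_one, Matrix.one_mul, Matrix.mul_one]

/-- the equations of an isometry commuting with `mA` -/
theorem iso_eqs {a b c d : ZMod 5} (h : (hm a b c d)ᵀ * Om * hm a b c d = Om) :
    a * a = 1 ∧ a * b + 2 * a * c - b * b = 0 := by
  have f5 : (5 : ZMod 5) = 0 := by decide
  have h03 := congrFun (congrFun h 0) 3
  have h23 := congrFun (congrFun h 2) 3
  simp only [Matrix.mul_apply, Fin.sum_univ_four, hm, Om, Matrix.transpose_apply, _root_.neg_mul, _root_.Fin.isValue, _root_.Matrix.of_apply, _root_.Matrix.cons_val', _root_.Matrix.cons_val_zero, _root_.Matrix.cons_val_fin_one, _root_.Matrix.cons_val_one, _root_.MulZeroClass.zero_mul, _root_.add_zero, _root_.Matrix.cons_val, _root_.MulZeroClass.mul_zero, _root_.mul_one, _root_.zero_add, _root_.neg_zero, _root_.mul_neg] at h03 h23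
  constructor
  · linear_combination h03
  · linear_combination h23 - (a * b + a * c - b * b) * f5

theorem iso_D {r a b c d : ZMod 5} (h : (Dg r * hm a b c d)ᵀ * Om * (Dg r * hm a b c d) = Om) :
    r ^ 3 * a * a = 1 := by
  have h03 := congrFun (congrFun h 0) 3
  simp only [Matrix.mul_apply, Fin.sum_univ_four, hm, Om, Dg, Matrix.transpose_apply, _root_.neg_mul, _root_.Matrix.cons_mul, _root_.Nat.succ_eq_add_one, _root_.Nat.reduceAdd, _root_.Matrix.vecMul_cons, _root_.Matrix.head_cons, _root_.Matrix.smul_cons, _root_.smul_eq_mul, _root_.mul_neg, _root_.Matrix.smul_empty, _root_.Matrix.tail_cons, _root_.zero_smul, _root_.Matrix.empty_vecMul, _root_.add_zero, _root_.MulZeroClass.mul_zero, _root_.zero_add, _root_.one_smul, _root_.Matrix.empty_mul, _root_.Equiv.symm_apply_apply, _root_.Fin.isValue, _root_.Matrix.of_apply, _root_.Matrix.cons_val', _root_.Matrix.cons_val_zero, _root_.Matrix.cons_val_fin_one, _root_.Matrix.cons_val_one,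 _root_.MulZeroClass.zero_mul, _root_.Matrix.cons_val, _root_.mul_one] at h03
  linear_combination h03

section

variable {L : Subgroup M5ˣ} (hL : Hyp L)

include hL

theorem card_sylow (P : Sylow 5 L) : Nat.card P ∣ 5 := by
  have : Fact (Nat.Prime 5) := ⟨by norm_num⟩
  obtain ⟨n, hn⟩ := IsPGroup.iff_card.1 P.2
  have h1 : Nat.card P ∣ Nat.card L := Subgroup.card_subgroup_dvd_card _
  rw [hn] at h1 ⊢
  have h2 : n ≤ 1 := by
    by_contra h
    exact hL.card ((pow_dvd_pow 5 (show 2 ≤ n by omega)).trans h1)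
  exact (pow_dvd_pow 5 h2).trans (by norm_num)

/-- elements of order 5 are conjugate to powers of `gA` -/
theorem conj_gA {g : M5ˣ} (hg : g ∈ L) (h5 : g ^ 5 = 1) :
    ∃ x ∈ L, ∃ k : ℕ, x * gA ^ k * x⁻¹ = g := by
  have : Fact (Nat.Prime 5) := ⟨by norm_num⟩
  let a : L := ⟨gA, hL.memA⟩
  let b : L := ⟨g, hg⟩
  have ha : orderOf a = 5 := orderOf_eq_prime (Subtype.ext gA_five) (fun h => gA_ne (congrArg Subtype.val h))
  have hap : IsPGroup 5 (Subgroup.zpowers a) := IsPGroup.of_card (n := 1) (by rw [Nat.card_zpowers, ha, pow_one])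
  have hbp : IsPGroup 5 (Subgroup.zpowers b) := by
    intro x
    obtain ⟨i, hi⟩ := x.2
    refine ⟨1, Subtype.ext ?_⟩
    rw [pow_one, SubgroupClass.coe_pow, ← hi, ← zpow_natCast, ← _root_.zpow_mul, mul_comm, _root_.zpow_mul]
    have : b ^ ((5 : ℕ) : ℤ) = 1 := by rw [zpow_natCast]; exact Subtype.ext h5
    rw [this, _root_.one_zpow]
    rfl
  obtain ⟨P, hP⟩ := hap.exists_le_sylow
  obtain ⟨Q, hQ⟩ := hbp.exists_le_sylow
  have hPa : Subgroup.zpowers a = P := by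
    apply Subgroup.eq_of_le_of_card_ge hP
    rw [Nat.card_zpowers, ha]
    exact Nat.le_of_dvd (by norm_num) (card_sylow hL P)
  obtain ⟨x, hx⟩ := MulAction.exists_smul_eq L P Q
  have hb : b ∈ (Q : Subgroup L) := hQ (Subgroup.mem_zpowers b)
  rw [← hx, Sylow.coe_subgroup_smul, ← hPa] at hb
  obtain ⟨y, hy, hyb⟩ := hb
  obtain ⟨k, hk⟩ := (mem_powers_iff_mem_zpowers.2 hy)
  refine ⟨x, x.2, k, ?_⟩
  have h1 := congrArg (fun t : L => (t : M5ˣ)) hyb
  rw [← hk] at h1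
  exact h1

theorem nil_ne {g : M5ˣ} (hg : g ∈ L) (h5 : g ^ 5 = 1) (h1 : g ≠ 1) : ((g : M5) - 1) ^ 3 ≠ 0 := by
  obtain ⟨x, -, k, hk⟩ := conj_gA hL hg h5
  rw [gA_mod] at hk
  have hk0 : (k : ZMod 5) ≠ 0 := by
    intro h
    rw [h, ZMod.val_zero, pow_zero, mul_one, mul_inv_cancel] at hk
    exact h1 hk.symm
  intro h
  apply pow_ne _ hk0
  have h2 : (g : M5) - 1 = (x : M5) * (mA ^ (k : ZMod 5).val - 1) * ((x⁻¹ : M5ˣ) : M5) := by
    rw [mul_sub, sub_mul, mul_one, ← Units.val_mul, mul_inv_cancel, Units.val_one, ← gA_pow_coe, ← Units.val_mul,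
      ← Units.val_mul, hk]
  have h3 : ∀ n : ℕ, ((g : M5) - 1) ^ n = (x : M5) * (mA ^ (k : ZMod 5).val - 1) ^ n * ((x⁻¹ : M5ˣ) : M5) := by
    intro n
    induction n with
    | zero => rw [pow_zero, pow_zero, mul_one, ← Units.val_mul, mul_inv_cancel, Units.val_one]
    | succ n ih =>
      rw [pow_succ, ih, h2, pow_succ]
      have h4 : ((x⁻¹ : M5ˣ) : M5) * (x : M5) = 1 := by rw [← Units.val_mul, inv_mul_cancel, Units.val_one]
      calc (x : M5) * (mA ^ (k : ZMod 5).val - 1) ^ n * ((x⁻¹ : M5ˣ) : M5) *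
            ((x : M5) * (mA ^ (k : ZMod 5).val - 1) * ((x⁻¹ : M5ˣ) : M5))
          = (x : M5) * (mA ^ (k : ZMod 5).val - 1) ^ n * (((x⁻¹ : M5ˣ) : M5) * (x : M5)) *
            (mA ^ (k : ZMod 5).val - 1) * ((x⁻¹ : M5ˣ) : M5) := by simp only [mul_assoc]
        _ = _ := by rw [h4, mul_one]; simp only [mul_assoc]
  rw [h3] at h
  have h4 : ((x⁻¹ : M5ˣ) : M5) * (x : M5) = 1 := by rw [← Units.val_mul, inv_mul_cancel, Units.val_one]
  have h5 := congrArg (fun t => ((x⁻¹ : M5ˣ) : M5) * t * (x : M5)) h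
  simp only [mul_zero, zero_mul] at h5
  calc (mA ^ (k : ZMod 5).val - 1) ^ 3 = (((x⁻¹ : M5ˣ) : M5) * (x : M5)) * (mA ^ (k : ZMod 5).val - 1) ^ 3 *
        (((x⁻¹ : M5ˣ) : M5) * (x : M5)) := by rw [h4, one_mul, mul_one]
    _ = ((x⁻¹ : M5ˣ) : M5) * ((x : M5) * (mA ^ (k : ZMod 5).val - 1) ^ 3 * ((x⁻¹ : M5ˣ) : M5)) * (x : M5) := by
      simp only [mul_assoc]
    _ = 0 := h5

theorem comm_gA {g : M5ˣ} (hg : g ∈ L) (h : g * gA = gA * g) : ∃ k : ℕ, g = gA ^ k ∨ g = - gA ^ k := by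
  have h1 : (g : M5) * mA = mA * g := by
    have := congrArg Units.val h
    rwa [Units.val_mul, Units.val_mul, gA_coe] at this
  have h2 := eq_hm h1
  set a := (g : M5) 3 3
  set b := (g : M5) 2 3
  set c := 2 * ((g : M5) 1 3 + b)
  set d := (g : M5) 0 3 - b - c
  have h3 := hL.iso g hg
  rw [h2] at h3
  obtain ⟨e1, e2⟩ := iso_eqs h3
  obtain ⟨e, h4, h5⟩ := key a b c d e1 e2
  rw [← h2, ← pw_eq] at h4
  -- the element
  let z : M5ˣ := g * g * gA ^ (-2 * a * b).val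
  have hz : (z : M5) = zz e := by
    rw [← h4, Units.val_mul, Units.val_mul, gA_pow_coe]
  have hzL : z ∈ L := L.mul_mem (L.mul_mem hg hg) (L.pow_mem hL.memA _)
  have hz5 : z ^ 5 = 1 := Units.ext (by rw [Units.val_pow_eq_pow_val, hz, zz_pow]; rfl)
  have hz1 : z = 1 := by
    by_contra hne
    exact nil_ne hL hzL hz5 hne (by rw [hz, zz_nil])
  have he : e = 0 := zz_one e (by rw [← hz, hz1]; rfl)
  refine ⟨(a * b).val, ?_⟩
  rcases h5 he with h6 | h6
  · left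
    apply Units.ext
    rw [gA_pow_coe, pw_eq, ← h6]
    exact h2
  · right
    apply Units.ext
    rw [Units.val_neg, gA_pow_coe, pw_eq, ← h6]
    exact h2

theorem norm_gA {g : M5ˣ} (hg : g ∈ L) {k : ℕ} (h : g * gA * g⁻¹ = gA ^ k) : gA ^ k = gA ∨ gA ^ k = gA⁻¹ := by
  rw [gA_mod] at h ⊢
  generalize (k : ZMod 5) = r at h ⊢
  have h5 : ∀ r : ZMod 5, r = 0 ∨ r = 1 ∨ r = 4 ∨ r = 2 ∨ r = 3 := by decide
  rcases h5 r with rfl | rfl | rfl | hr
  · exfalso
    rw [ZMod.val_zero, pow_zero] at h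
    apply gA_ne
    have h1 : g * gA = g := by
      have := congrArg (fun t => t * g) h
      simpa only [_root_.mul_eq_left, _root_.inv_mul_cancel_right, _root_.one_mul] using this
    exact mul_eq_left.1 h1
  · left
    have : (1 : ZMod 5).val = 1 := rfl
    rw [this, pow_one]
  · right
    have : (4 : ZMod 5).val = 4 := rfl
    rw [this, eq_inv_iff_mul_eq_one, ← pow_succ]
    exact gA_five
  · exfalso
    have hr0 : r ≠ 0 := by
      rcases hr with rfl | rfl <;> decide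
    have h1 : (g : M5) * mA = pw r * g := by
      have h2 : g * gA = gA ^ r.val * g := by rw [← h, inv_mul_cancel_right]
      have h3 := congrArg Units.val h2
      rwa [Units.val_mul, Units.val_mul, gA_coe, gA_pow_coe, pw_eq] at h3
    have h2 : (Dg (r ^ 3) * g) * mA = mA * (Dg (r ^ 3) * g) := by
      rw [mul_assoc, h1, ← mul_assoc, Dg_conj r hr0, mul_assoc]
    have h3 := eq_hm h2
    have h4 : (g : M5) = Dg r * (Dg (r ^ 3) * g) := by rw [← mul_assoc, (Dg_inv r hr0).1, one_mul]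
    have h6 := hL.iso g hg
    rw [h4, h3] at h6
    exact sq_ne r _ hr (iso_D h6)

/-- `L` embeds in the symplectic group -/
def toSp : L →* symplecticGroup (Fin 2) (ZMod 5) where
  toFun g := ⟨Qm * ((g : M5ˣ) : M5) * Qi, by
    rw [SymplecticGroup.mem_iff']
    calc (Qm * ((g : M5ˣ) : M5) * Qi)ᵀ * J (Fin 2) (ZMod 5) * (Qm * ((g : M5ˣ) : M5) * Qi)
        = Qiᵀ * (((g : M5ˣ) : M5)ᵀ * (Qmᵀ * J (Fin 2) (ZMod 5) * Qm) * ((g : M5ˣ) : M5)) * Qi := by
          rw [Matrix.transpose_mul, Matrix.transpose_mul]; simp only [Matrix.mul_assoc]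
      _ = _ := by rw [Qm_form, hL.iso g g.2, Qi_form]⟩
  map_one' := Subtype.ext (by
    show Qm * (1 : M5) * Qi = 1
    rw [Matrix.mul_one, Qm_Qi])
  map_mul' g h := Subtype.ext (by
    show Qm * (((g : M5ˣ) : M5) * ((h : M5ˣ) : M5)) * Qi =
      (Qm * ((g : M5ˣ) : M5) * Qi) * (Qm * ((h : M5ˣ) : M5) * Qi)
    calc Qm * (((g : M5ˣ) : M5) * ((h : M5ˣ) : M5)) * Qi
        = Qm * ((g : M5ˣ) : M5) * (1 : M5) * (((h : M5ˣ) : M5) * Qi) := by
          rw [Matrix.mul_one]; simp only [Matrix.mul_assoc]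
      _ = _ := by rw [← Qi_Qm]; simp only [Matrix.mul_assoc])

theorem toSp_injective : Function.Injective (toSp hL) := by
  intro g h e
  have h1 : Qm * ((g : M5ˣ) : M5) * Qi = Qm * ((h : M5ˣ) : M5) * Qi := congrArg Subtype.val e
  have h2 : ∀ x : M5, Qi * (Qm * x * Qi) * Qm = x := by
    intro x
    calc Qi * (Qm * x * Qi) * Qm = (Qi * Qm) * x * (Qi * Qm) := by simp only [Matrix.mul_assoc]
      _ = x := by rw [Qi_Qm, Matrix.one_mul, Matrix.mul_one]
  apply Subtype.ext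
  apply Units.ext
  rw [← h2 ((g : M5ˣ) : M5), h1, h2]

theorem card_dvd : Nat.card L ∣ 2 ^ 7 * 3 ^ 2 * 5 * 13 := by
  have : Fact (Nat.Prime 5) := ⟨by norm_num⟩
  have h1 : Nat.card L ∣ Nat.card (symplecticGroup (Fin 2) (ZMod 5)) :=
    Subgroup.card_dvd_of_injective (toSp hL) (toSp_injective hL)
  rw [Cfsg.Agent.S0245.result (ZMod.card 5) 2, Finset.prod_range_succ, Finset.prod_range_one] at h1
  norm_num only [] at h1
  have h25 := hL.card
  -- 9360000 = 2^7 3^2 5^4 13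
  obtain ⟨j, hj⟩ : ∃ j, Nat.card L = (Nat.card L).gcd 5 * j := by
    obtain ⟨j, hj⟩ := Nat.gcd_dvd_left (Nat.card L) 5
    exact ⟨j, hj⟩
  have h5 : (Nat.card L).gcd 5 ∣ 5 := Nat.gcd_dvd_right _ _
  have hj5 : ¬ 5 ∣ j := by
    intro h
    rcases (Nat.dvd_prime (by norm_num)).1 h5 with h6 | h6
    · have h7 : 5 ∣ Nat.card L := by
        rw [hj]
        exact h.mul_left _
      have h8 : 5 ∣ (Nat.card L).gcd 5 := Nat.dvd_gcd h7 dvd_rfl
      rw [h6] at h8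
      omega
    · apply h25
      rw [hj, h6]
      exact Nat.mul_dvd_mul_left 5 h
  have hjc : j.Coprime (5 ^ 4) := Nat.Coprime.pow_right 4 ((Nat.Prime.coprime_iff_not_dvd (by norm_num)).2 hj5).symm
  have h6 : j ∣ 5 ^ 4 * 14976 := by
    refine Dvd.dvd.trans ?_ (show 9360000 ∣ 5 ^ 4 * 14976 by norm_num)
    exact (Dvd.intro_left _ hj.symm).trans h1
  have h7 : j ∣ 14976 := hjc.dvd_of_dvd_mul_left h6
  rw [hj]
  calc (Nat.card L).gcd 5 * j ∣ 5 * 14976 := Nat.mul_dvd_mul h5 h7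
    _ ∣ 2 ^ 7 * 3 ^ 2 * 5 * 13 := by norm_num

end

/-- **(M1)** -/
theorem stM1 : StM1 := fun _ hL =>
  ⟨fun _ hg h5 _ => conj_gA hL hg h5, fun _ hg h5 h1 => nil_ne hL hg h5 h1, fun _ hg h => comm_gA hL hg h,
    fun _ hg _ h => norm_gA hL hg h, card_dvd hL⟩

end Cfsg.Agent.H35.Q5
end

-- part: H117/Q5/StM2
section
/-!
# S5211, block q = 5, statement (M2) (helper117)
-/

set_option autoImplicit false

namespace Cfsg.Agent.H117.Q5

open Matrix Polynomial Cfsg.Agent.H24.Q5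
open scoped Pointwise

theorem mz : ∀ a b : ZMod 5, a * b = 0 → a = 0 ∨ b = 0 := by decide

theorem pz : ∀ a : ZMod 5, a ^ 5 = 0 → a = 0 := by decide

/-! ### truncated logarithm and exponential in characteristic 5 -/

def lg {R : Type*} [Ring R] (x : R) : R := x + (x ^ 2 + x ^ 2) + (x ^ 3 + x ^ 3) + x ^ 4

def ep {R : Type*} [Ring R] (x : R) : R := 1 + x + (x ^ 2 + x ^ 2 + x ^ 2) + x ^ 3 + (x ^ 4 + x ^ 4 + x ^ 4 + x ^ 4)

theorem five_poly : (5 : (ZMod 5)[X]) = 0 := by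
  have : ((5 : ℕ) : (ZMod 5)[X]) = 0 := CharP.cast_eq_zero _ 5
  exact_mod_cast this

theorem ep_lg_poly : ∃ Q : (ZMod 5)[X], ep (lg (X : (ZMod 5)[X])) = 1 + X + X ^ 5 * Q :=
  ⟨80 + 187*X + 396*X^2 + 691*X^3 + 963*X^4 + 1066*X^5 + 934*X^6 + 641*X^7 + 336*X^8 + 128*X^9 + 32*X^10 + 4*X^11, by
    unfold ep lg; linear_combination (X^2 + 3*X^3 + 7*X^4) * five_poly⟩

theorem lg_pow_poly (k : ℕ) (hk : k = 1 ∨ k = 2 ∨ k = 3 ∨ k = 4) :
    ∃ Q : (ZMod 5)[X], lg ((1 + X : (ZMod 5)[X]) ^ k - 1) = k • lg X + X ^ 5 * Q := by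
  rcases hk with rfl | rfl | rfl | rfl
  · exact ⟨0, by unfold lg; rw [one_nsmul]; ring⟩
  · exact ⟨44 + 26*X + 8*X^2 + X^3, by
      unfold lg; rw [nsmul_eq_mul]; push_cast; linear_combination (X^2 + 4*X^3 + 8*X^4) * five_poly⟩
  · exact ⟨552 + 758*X + 720*X^2 + 477*X^3 + 218*X^4 + 66*X^5 + 12*X^6 + X^7, by
      unfold lg; rw [nsmul_eq_mul]; push_cast; linear_combination (3*X^2 + 17*X^3 + 54*X^4) * five_poly⟩
  · exact ⟨2896 + 6216*X + 9872*X^2 + 11882*X^3 + 11000*X^4 + 7876*X^5 + 4344*X^6 + 1818*X^7 + 560*X^8 + 120*X^9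
      + 16*X^10 + X^11, by
      unfold lg; rw [nsmul_eq_mul]; push_cast; linear_combination (6*X^2 + 44*X^3 + 193*X^4) * five_poly⟩

theorem lg_five_poly : ∃ Q : (ZMod 5)[X], (lg (X : (ZMod 5)[X])) ^ 5 = X ^ 5 * Q :=
  ⟨(1 + 2 * X + 2 * X ^ 2 + X ^ 3) ^ 5, by unfold lg; ring⟩

theorem ep_sub_poly : ∃ Q : (ZMod 5)[X], (ep (X : (ZMod 5)[X]) - 1) ^ 3 = X ^ 3 * Q :=
  ⟨(1 + 3 * X + X ^ 2 + 4 * X ^ 3) ^ 3, by unfold ep; ring⟩

theorem sub_pow_poly : ((X : (ZMod 5)[X]) - 1) ^ 5 = X ^ 5 - 1 := by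
  linear_combination (-X ^ 4 + 2 * X ^ 3 - 2 * X ^ 2 + X) * five_poly

theorem aeval_lg (x : M5) (f : (ZMod 5)[X]) : aeval x (lg f) = lg (aeval x f) := by
  simp [lg]

theorem aeval_ep (x : M5) (f : (ZMod 5)[X]) : aeval x (ep f) = ep (aeval x f) := by
  simp [ep]

theorem sub_pow_five {v : M5} (h : v ^ 5 = 1) : (v - 1) ^ 5 = 0 := by
  have h1 := congrArg (aeval v) sub_pow_poly
  simp only [map_pow, map_sub, aeval_X, map_one] at h1
  rw [h1, h, sub_self]

theorem ep_lg {x : M5} (hx : x ^ 5 = 0) : ep (lg x) = 1 + x := by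
  obtain ⟨Q, hQ⟩ := ep_lg_poly
  have h1 := congrArg (aeval x) hQ
  rw [aeval_ep, aeval_lg] at h1
  simp only [map_add, map_mul, map_pow, aeval_X, map_one, hx, zero_mul, add_zero] at h1
  exact h1

theorem lg_pow {x : M5} (hx : x ^ 5 = 0) {k : ℕ} (hk : k = 1 ∨ k = 2 ∨ k = 3 ∨ k = 4) :
    lg ((1 + x) ^ k - 1) = k • lg x := by
  obtain ⟨Q, hQ⟩ := lg_pow_poly k hk
  have h1 := congrArg (aeval x) hQ
  rw [aeval_lg] at h1
  simp only [map_add, map_mul, map_pow, map_sub, map_nsmul, aeval_lg, aeval_X, map_one, hx, zero_mul, add_zero] at h1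
  exact h1

theorem lg_five {x : M5} (hx : x ^ 5 = 0) : (lg x) ^ 5 = 0 := by
  obtain ⟨Q, hQ⟩ := lg_five_poly
  have h1 := congrArg (aeval x) hQ
  simp only [map_mul, map_pow, aeval_lg, aeval_X, hx, zero_mul] at h1
  exact h1

theorem ep_sub {x : M5} (hx : x ^ 3 = 0) : (ep x - 1) ^ 3 = 0 := by
  obtain ⟨Q, hQ⟩ := ep_sub_poly
  have h1 := congrArg (aeval x) hQ
  simp only [map_mul, map_pow, map_sub, map_one, aeval_ep, aeval_X, hx, zero_mul] at h1
  exact h1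

/-! ### weights -/

def dd : Fin 4 → ZMod 5 := ![3, 1, 2, 4]

theorem mh2_diag : mh2 = Matrix.diagonal dd := by decide +kernel

theorem semi_lg {a x y : M5} (h : a * x = y * a) : a * lg x = lg y * a := by
  have h1 : SemiconjBy a x y := h
  have h2 := ((h1.add_right ((h1.pow_right 2).add_right (h1.pow_right 2))).add_right
    ((h1.pow_right 3).add_right (h1.pow_right 3))).add_right (h1.pow_right 4)
  exact h2

/-- the weight equation -/
theorem weight {v : M5ˣ} (h5 : v ^ 5 = 1) {k : ℕ} (hk : k = 1 ∨ k = 2 ∨ k = 3 ∨ k = 4)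
    (hc : gh2 * v * gh2⁻¹ = v ^ k) (i j : Fin 4) :
    (dd i - k * dd j) * (lg ((v : M5) - 1)) i j = 0 := by
  have h5' : (v : M5) ^ 5 = 1 := by
    have := congrArg (fun x : M5ˣ => (x : M5)) h5
    simpa using this
  have h1 : gh2 * v = v ^ k * gh2 := by rw [← hc]; group
  have h2 : mh2 * (v : M5) = (v : M5) ^ k * mh2 := by
    have := congrArg (fun x : M5ˣ => (x : M5)) h1
    simp only [Units.val_mul, Units.val_pow_eq_pow_val] at this
    exact this
  have h3 : mh2 * ((v : M5) - 1) = ((1 + ((v : M5) - 1)) ^ k - 1) * mh2 := by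
    rw [mul_sub, sub_mul, mul_one, one_mul, h2, add_sub_cancel]
  have h4 := semi_lg h3
  rw [lg_pow (sub_pow_five h5') hk, mh2_diag] at h4
  have h6 := congrFun (congrFun h4 i) j
  rw [Matrix.diagonal_mul, Matrix.mul_diagonal, Matrix.smul_apply, nsmul_eq_mul] at h6
  linear_combination h6

theorem Om_lg {v : M5ˣ} (h5 : v ^ 5 = 1) (hiso : (v : M5)ᵀ * Om * (v : M5) = Om) :
    Om * lg ((v : M5) - 1) = (4 • lg ((v : M5) - 1))ᵀ * Om := by
  have h5' : (v : M5) ^ 5 = 1 := by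
    have := congrArg (fun x : M5ˣ => (x : M5)) h5
    simpa using this
  -- `Om * v = (v ^ 4)ᵀ * Om`
  have h1 : Om * (v : M5) = ((v : M5) ^ 4)ᵀ * Om := by
    calc Om * (v : M5) = (((v : M5) ^ 4)ᵀ * (v : M5)ᵀ) * (Om * (v : M5)) := by
          rw [← Matrix.transpose_mul, ← pow_succ', h5', Matrix.transpose_one, one_mul]
      _ = ((v : M5) ^ 4)ᵀ * ((v : M5)ᵀ * Om * (v : M5)) := by simp only [mul_assoc]
      _ = _ := by rw [hiso]
  have h3 : Om * ((v : M5) - 1) = (((1 + ((v : M5) - 1)) ^ 4 - 1)ᵀ) * Om := by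
    rw [mul_sub, Matrix.transpose_sub, sub_mul, mul_one, Matrix.transpose_one, one_mul, h1, add_sub_cancel]
  have h4 := semi_lg h3
  have h6 : lg (((1 + ((v : M5) - 1)) ^ 4 - 1)ᵀ) = (lg ((1 + ((v : M5) - 1)) ^ 4 - 1))ᵀ := by
    unfold lg
    simp only [Matrix.transpose_add, Matrix.transpose_pow]
  rw [h6, lg_pow (sub_pow_five h5') (Or.inr (Or.inr (Or.inr rfl)))] at h4
  exact h4

/-! ### the shape of `n = lg (v - 1)` -/

structure Good (v : M5ˣ) (k : ℕ) : Prop where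
  five : v ^ 5 = 1
  conj : gh2 * v * gh2⁻¹ = v ^ k
  iso : (v : M5)ᵀ * Om * (v : M5) = Om
  cube : ((v : M5) - 1) ^ 3 ≠ 0

theorem Good.five' {v : M5ˣ} {k : ℕ} (h : Good v k) : (v : M5) ^ 5 = 1 := by
  have := congrArg (fun x : M5ˣ => (x : M5)) h.five
  simpa using this

theorem Good.eq_ep {v : M5ˣ} {k : ℕ} (h : Good v k) : (v : M5) = ep (lg ((v : M5) - 1)) := by
  rw [ep_lg (sub_pow_five h.five'), add_sub_cancel]

theorem Good.cube' {v : M5ˣ} {k : ℕ} (h : Good v k) : (lg ((v : M5) - 1)) ^ 3 ≠ 0 := by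
  intro h1
  have h2 := ep_sub h1
  rw [← h.eq_ep] at h2
  exact h.cube h2

theorem Good.lg5 {v : M5ˣ} {k : ℕ} (h : Good v k) : (lg ((v : M5) - 1)) ^ 5 = 0 :=
  lg_five (sub_pow_five h.five')

theorem ne_zero_one : ∀ i j : Fin 4, i ≠ j → dd i - (1 : ℕ) * dd j ≠ 0 := by decide +kernel

theorem not_one {v : M5ˣ} (h : Good v 1) : False := by
  have hw := weight h.five (Or.inl rfl) h.conj
  have h5 := h.lg5
  have h3 := h.cube'
  generalize lg ((v : M5) - 1) = n at hw h5 h3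
  have h0 : ∀ i j, i ≠ j → n i j = 0 := fun i j hij => (mz _ _ (hw i j)).resolve_left (ne_zero_one i j hij)
  have hd : n = Matrix.diagonal (fun i => n i i) := by
    ext i j
    by_cases hij : i = j
    · subst hij; rw [Matrix.diagonal_apply_eq]
    · rw [Matrix.diagonal_apply_ne _ hij, h0 i j hij]
  rw [hd, Matrix.diagonal_pow] at h5
  have h6 : ∀ i, n i i = 0 := by
    intro i
    have h7 := congrFun (congrFun h5 i) i
    rw [Matrix.diagonal_apply_eq, Pi.pow_apply, Matrix.zero_apply] at h7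
    exact pz _ h7
  have h7 : n = 0 := by
    rw [hd]
    ext i j
    by_cases hij : i = j
    · subst hij; rw [Matrix.diagonal_apply_eq, h6]; rfl
    · rw [Matrix.diagonal_apply_ne _ hij]; rfl
  apply h3
  rw [h7]
  simp

theorem four_shape {v : M5ˣ} (h : Good v 4) : False := by
  have hw := weight h.five (Or.inr (Or.inr (Or.inr rfl))) h.conj
  have h5 := h.lg5
  have h3 := h.cube'
  generalize lg ((v : M5) - 1) = n at hw h5 h3
  have h0 : ∀ i j : Fin 4, dd i - (4 : ℕ) * dd j ≠ 0 → n i j = 0 := fun i j hij =>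
    (mz _ _ (hw i j)).resolve_left hij
  obtain ⟨a, b, c, d, e⟩ : ∃ a b c d : ZMod 5, n = !![0, 0, a, 0; 0, 0, 0, b; c, 0, 0, 0; 0, d, 0, 0] := by
    refine ⟨n 0 2, n 1 3, n 2 0, n 3 1, ?_⟩
    ext i j
    fin_cases i <;> fin_cases j
    all_goals first | exact h0 _ _ (by decide +kernel) | rfl
  have e2 : n ^ 2 = !![a * c, 0, 0, 0; 0, b * d, 0, 0; 0, 0, c * a, 0; 0, 0, 0, d * b] := by
    rw [pow_two, e]
    ext i j
    (revert i j; simp only [Matrix.mul_apply, Fin.sum_univ_four, _root_.Fin.forall_fin_succ, _root_.Matrix.of_apply, _root_.Matrix.cons_val', _root_.Matrix.cons_val_fin_one, Fin.isValue, _root_.Matrix.cons_val_zero, _root_.Matrix.cons_val_one, _root_.Matrix.cons_val, _root_.MulZeroClass.mul_zero, _root_.add_zero, _root_.zero_add, _root_.Matrix.cons_val_succ, _root_.forall_const, _root_.MulZeroClass.zero_mul, _root_.and_self, _root_.implies_true])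
  have h5' : n ^ 2 * n ^ 2 * n = 0 := by rw [← pow_add, ← pow_succ]; exact h5
  rw [e2, e] at h5'
  have h6 := congrFun (congrFun h5' 0) 2
  have h7 := congrFun (congrFun h5' 1) 3
  have hac : a * c = 0 := by
    have : a * c * (a * c) * a = 0 := by simpa [Matrix.mul_apply, Fin.sum_univ_four] using h6
    rcases mz _ _ this with h8 | h8
    · rcases mz _ _ h8 with h8 | h8 <;> exact h8
    · rw [h8, zero_mul]
  have hbd : b * d = 0 := by
    have : b * d * (b * d) * b = 0 := by simpa [Matrix.mul_apply, Fin.sum_univ_four] using h7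
    rcases mz _ _ this with h8 | h8
    · rcases mz _ _ h8 with h8 | h8 <;> exact h8
    · rw [h8, zero_mul]
  apply h3
  rw [pow_succ, e2, mul_comm c a, mul_comm d b, hac, hbd]
  ext i j
  (revert i j; simp only [Matrix.mul_apply, Fin.sum_univ_four, _root_.Fin.forall_fin_succ, _root_.Matrix.of_apply, _root_.Matrix.cons_val', _root_.Matrix.cons_val_fin_one, Fin.isValue, _root_.Matrix.cons_val_zero, _root_.Matrix.cons_val_one, _root_.Matrix.cons_val, _root_.Matrix.zero_apply, _root_.Fin.succ_zero_eq_one, _root_.Fin.succ_one_eq_two, Fin.reduceSucc, _root_.IsEmpty.forall_iff, _root_.and_true, _root_.MulZeroClass.zero_mul, _root_.add_zero, _root_.and_self, _root_.Matrix.cons_val_succ, _root_.implies_true])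

theorem key3 : ∀ a b c d : ZMod 5, 3 * c = 4 * a → a * b * (c * d * a) = 0 →
    ¬ (a * b * c = 0 ∧ b * c * d = 0 ∧ c * d * a = 0 ∧ d * a * b = 0) →
    c = 3 * a ∧ a ≠ 0 ∧ ((b = 0 ∧ d ≠ 0) ∨ (b ≠ 0 ∧ d = 0)) := by decide +kernel

/-- shape for `k = 3` -/
theorem three_shape {v : M5ˣ} (h : Good v 3) : ∃ a b c d : ZMod 5,
    lg ((v : M5) - 1) = !![0, a, 0, 0; 0, 0, b, 0; 0, 0, 0, c; d, 0, 0, 0] ∧ c = 3 * a ∧ a ≠ 0 ∧
      ((b = 0 ∧ d ≠ 0) ∨ (b ≠ 0 ∧ d = 0)) := by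
  have hw := weight h.five (Or.inr (Or.inr (Or.inl rfl))) h.conj
  have h5 := h.lg5
  have h3 := h.cube'
  have hO := Om_lg h.five h.iso
  generalize lg ((v : M5) - 1) = n at hw h5 h3 hO
  have h0 : ∀ i j : Fin 4, dd i - (3 : ℕ) * dd j ≠ 0 → n i j = 0 := fun i j hij =>
    (mz _ _ (hw i j)).resolve_left hij
  obtain ⟨a, b, c, d, e⟩ : ∃ a b c d : ZMod 5, n = !![0, a, 0, 0; 0, 0, b, 0; 0, 0, 0, c; d, 0, 0, 0] := by
    refine ⟨n 0 1, n 1 2, n 2 3, n 3 0, ?_⟩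
    ext i j
    fin_cases i <;> fin_cases j
    all_goals first | exact h0 _ _ (by decide +kernel) | rfl
  have e2 : n ^ 2 = !![0, 0, a * b, 0; 0, 0, 0, b * c; c * d, 0, 0, 0; 0, d * a, 0, 0] := by
    rw [pow_two, e]
    ext i j
    (revert i j; simp only [Matrix.mul_apply, Fin.sum_univ_four, _root_.Fin.forall_fin_succ, _root_.Matrix.of_apply, _root_.Matrix.cons_val', _root_.Matrix.cons_val_fin_one, Fin.isValue, _root_.Matrix.cons_val_zero, _root_.Matrix.cons_val_one, _root_.Matrix.cons_val, _root_.MulZeroClass.mul_zero, _root_.add_zero, _root_.zero_add, _root_.Matrix.cons_val_succ, _root_.forall_const, _root_.MulZeroClass.zero_mul, _root_.and_self, _root_.implies_true])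
  have e3 : n ^ 3 = !![0, 0, 0, a * b * c; b * c * d, 0, 0, 0; 0, c * d * a, 0, 0; 0, 0, d * a * b, 0] := by
    rw [pow_succ, e2, e]
    ext i j
    (revert i j; simp only [Matrix.mul_apply, Fin.sum_univ_four, _root_.Fin.forall_fin_succ, _root_.Matrix.of_apply, _root_.Matrix.cons_val', _root_.Matrix.cons_val_fin_one, Fin.isValue, _root_.Matrix.cons_val_zero, _root_.Matrix.cons_val_one, _root_.Matrix.cons_val, _root_.MulZeroClass.mul_zero, _root_.add_zero, _root_.zero_add, _root_.Matrix.cons_val_succ, _root_.forall_const, _root_.MulZeroClass.zero_mul, _root_.and_self, _root_.implies_true])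
  have hO' := congrFun (congrFun hO 1) 3
  rw [e] at hO'
  have h5' : n ^ 2 * n ^ 3 = 0 := by rw [← pow_add]; exact h5
  rw [e2, e3] at h5'
  have h6 := congrFun (congrFun h5' 0) 1
  have h6' : a * b * (c * d * a) = 0 := by simpa only [Matrix.mul_apply, Fin.sum_univ_four, _root_.mul_eq_zero, _root_.Fin.isValue, _root_.Matrix.of_apply, _root_.Matrix.cons_val', _root_.Matrix.cons_val_fin_one, _root_.Matrix.cons_val_zero, _root_.Matrix.cons_val_one, _root_.MulZeroClass.mul_zero, _root_.add_zero, _root_.Matrix.cons_val, _root_.zero_add, _root_.Matrix.zero_apply] using h6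
  have hO2 : 3 * c = 4 * a := by simpa only [Om, Matrix.mul_apply, Fin.sum_univ_four, _root_.Fin.isValue, _root_.Matrix.of_apply, _root_.Matrix.cons_val', _root_.Matrix.cons_val_fin_one, _root_.Matrix.cons_val_one, _root_.Matrix.cons_val_zero, _root_.Matrix.cons_val, _root_.MulZeroClass.mul_zero, _root_.add_zero, _root_.zero_add, _root_.Matrix.smul_of, _root_.Matrix.smul_cons, _root_.nsmul_zero, _root_.nsmul_eq_mul, _root_.Nat.cast_ofNat, _root_.Matrix.smul_empty, _root_.Matrix.transpose_apply, _root_.mul_one] using hO'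
  refine ⟨a, b, c, d, e, ?_⟩
  have h7 : ¬ (a * b * c = 0 ∧ b * c * d = 0 ∧ c * d * a = 0 ∧ d * a * b = 0) := by
    rintro ⟨q1, q2, q3, q4⟩
    apply h3
    rw [e3, q1, q2, q3, q4]
    ext i j
    fin_cases i <;> fin_cases j <;> rfl
  exact key3 a b c d hO2 h6' h7

theorem key2 : ∀ a b c d : ZMod 5, d = 4 * b * 3 → a * d * (c * b * a) = 0 →
    ¬ (a * d * c = 0 ∧ b * a * d = 0 ∧ c * b * a = 0 ∧ d * c * b = 0) →
    d = 2 * b ∧ b ≠ 0 ∧ ((a = 0 ∧ c ≠ 0) ∨ (a ≠ 0 ∧ c = 0)) := by decide +kernel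

/-- shape for `k = 2` -/
theorem two_shape {v : M5ˣ} (h : Good v 2) : ∃ a b c d : ZMod 5,
    lg ((v : M5) - 1) = !![0, 0, 0, a; b, 0, 0, 0; 0, c, 0, 0; 0, 0, d, 0] ∧ d = 2 * b ∧ b ≠ 0 ∧
      ((a = 0 ∧ c ≠ 0) ∨ (a ≠ 0 ∧ c = 0)) := by
  have hw := weight h.five (Or.inr (Or.inl rfl)) h.conj
  have h5 := h.lg5
  have h3 := h.cube'
  have hO := Om_lg h.five h.iso
  generalize lg ((v : M5) - 1) = n at hw h5 h3 hO
  have h0 : ∀ i j : Fin 4, dd i - (2 : ℕ) * dd j ≠ 0 → n i j = 0 := fun i j hij =>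
    (mz _ _ (hw i j)).resolve_left hij
  obtain ⟨a, b, c, d, e⟩ : ∃ a b c d : ZMod 5, n = !![0, 0, 0, a; b, 0, 0, 0; 0, c, 0, 0; 0, 0, d, 0] := by
    refine ⟨n 0 3, n 1 0, n 2 1, n 3 2, ?_⟩
    ext i j
    fin_cases i <;> fin_cases j
    all_goals first | exact h0 _ _ (by decide +kernel) | rfl
  have e2 : n ^ 2 = !![0, 0, a * d, 0; 0, 0, 0, b * a; c * b, 0, 0, 0; 0, d * c, 0, 0] := by
    rw [pow_two, e]
    ext i j
    (revert i j; simp only [Matrix.mul_apply, Fin.sum_univ_four, _root_.Fin.forall_fin_succ, _root_.Matrix.of_apply, _root_.Matrix.cons_val', _root_.Matrix.cons_val_fin_one, Fin.isValue, _root_.Matrix.cons_val_zero, _root_.Matrix.cons_val_one, _root_.Matrix.cons_val, _root_.MulZeroClass.mul_zero, _root_.zero_add, _root_.add_zero, _root_.Matrix.cons_val_succ, _root_.forall_const, _root_.MulZeroClass.zero_mul, _root_.and_self, _root_.implies_true])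
  have e3 : n ^ 3 = !![0, a * d * c, 0, 0; 0, 0, b * a * d, 0; 0, 0, 0, c * b * a; d * c * b, 0, 0, 0] := by
    rw [pow_succ, e2, e]
    ext i j
    (revert i j; simp only [Matrix.mul_apply, Fin.sum_univ_four, _root_.Fin.forall_fin_succ, _root_.Matrix.of_apply, _root_.Matrix.cons_val', _root_.Matrix.cons_val_fin_one, Fin.isValue, _root_.Matrix.cons_val_zero, _root_.Matrix.cons_val_one, _root_.Matrix.cons_val, _root_.MulZeroClass.mul_zero, _root_.zero_add, _root_.add_zero, _root_.Matrix.cons_val_succ, _root_.forall_const, _root_.MulZeroClass.zero_mul, _root_.and_self, _root_.implies_true])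
  have hO' := congrFun (congrFun hO 0) 2
  rw [e] at hO'
  have h5' : n ^ 2 * n ^ 3 = 0 := by rw [← pow_add]; exact h5
  rw [e2, e3] at h5'
  have h6 := congrFun (congrFun h5' 0) 3
  have h6' : a * d * (c * b * a) = 0 := by simpa only [Matrix.mul_apply, Fin.sum_univ_four, _root_.mul_eq_zero, _root_.Fin.isValue, _root_.Matrix.of_apply, _root_.Matrix.cons_val', _root_.Matrix.cons_val_fin_one, _root_.Matrix.cons_val_zero, _root_.Matrix.cons_val, _root_.MulZeroClass.mul_zero, _root_.Matrix.cons_val_one, _root_.add_zero, _root_.zero_add, _root_.Matrix.zero_apply] using h6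
  have hO2 : d = 4 * b * 3 := by simpa [Om, Matrix.mul_apply, Fin.sum_univ_four] using hO'
  refine ⟨a, b, c, d, e, ?_⟩
  have h7 : ¬ (a * d * c = 0 ∧ b * a * d = 0 ∧ c * b * a = 0 ∧ d * c * b = 0) := by
    rintro ⟨q1, q2, q3, q4⟩
    apply h3
    rw [e3, q1, q2, q3, q4]
    ext i j
    fin_cases i <;> fin_cases j <;> rfl
  exact key2 a b c d hO2 h6' h7

/-! ### scaling: a power of `v` is one of 16 matrices -/

theorem lg_of_pow {v : M5ˣ} {k : ℕ} (h : Good v k) {j : ℕ} (hj : j = 1 ∨ j = 2 ∨ j = 3 ∨ j = 4) :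
    (v : M5) ^ j = ep (j • lg ((v : M5) - 1)) := by
  have hx := sub_pow_five h.five'
  have h1 := lg_pow hx hj
  rw [add_sub_cancel] at h1
  have h2 : ((v : M5) ^ j - 1) ^ 5 = 0 := by
    apply sub_pow_five
    rw [← pow_mul, mul_comm, pow_mul, h.five', one_pow]
  rw [← h1, ep_lg h2, add_sub_cancel]

/-- the representatives -/
def rep3 (t : Fin 8) : M5 :=
  match t with
  | 0 => !![1, 1, 0, 0; 0, 1, 0, 0; 4, 3, 1, 3; 1, 3, 0, 1]
  | 1 => !![1, 1, 0, 0; 0, 1, 0, 0; 3, 1, 1, 3; 2, 1, 0, 1]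
  | 2 => !![1, 1, 0, 0; 0, 1, 0, 0; 2, 4, 1, 3; 3, 4, 0, 1]
  | 3 => !![1, 1, 0, 0; 0, 1, 0, 0; 1, 2, 1, 3; 4, 2, 0, 1]
  | 4 => !![1, 1, 3, 3; 0, 1, 1, 4; 0, 0, 1, 3; 0, 0, 0, 1]
  | 5 => !![1, 1, 1, 1; 0, 1, 2, 3; 0, 0, 1, 3; 0, 0, 0, 1]
  | 6 => !![1, 1, 4, 4; 0, 1, 3, 2; 0, 0, 1, 3; 0, 0, 0, 1]
  | 7 => !![1, 1, 2, 2; 0, 1, 4, 1; 0, 0, 1, 3; 0, 0, 0, 1]

def rep2 (t : Fin 8) : M5 :=
  match t with
  | 0 => !![1, 0, 0, 0; 1, 1, 0, 0; 3, 1, 1, 0; 2, 1, 2, 1]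
  | 1 => !![1, 0, 0, 0; 1, 1, 0, 0; 1, 2, 1, 0; 4, 2, 2, 1]
  | 2 => !![1, 0, 0, 0; 1, 1, 0, 0; 4, 3, 1, 0; 1, 3, 2, 1]
  | 3 => !![1, 0, 0, 0; 1, 1, 0, 0; 2, 4, 1, 0; 3, 4, 2, 1]
  | 4 => !![1, 0, 1, 1; 1, 1, 2, 3; 0, 0, 1, 0; 0, 0, 2, 1]
  | 5 => !![1, 0, 2, 2; 1, 1, 4, 1; 0, 0, 1, 0; 0, 0, 2, 1]
  | 6 => !![1, 0, 3, 3; 1, 1, 1, 4; 0, 0, 1, 0; 0, 0, 2, 1]
  | 7 => !![1, 0, 4, 4; 1, 1, 3, 2; 0, 0, 1, 0; 0, 0, 2, 1]

theorem scale : ∀ a : ZMod 5, a ≠ 0 → ∃ j : Fin 4, ((j : ℕ) + 1 : ℕ) * a = 1 := by decide +kernel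

theorem ep3 : (∀ t : ZMod 5, t ≠ 0 → ∃ i : Fin 8, ep (!![0, 1, 0, 0; 0, 0, 0, 0; 0, 0, 0, 3; t, 0, 0, 0] : M5) = rep3 i) ∧
    (∀ t : ZMod 5, t ≠ 0 → ∃ i : Fin 8, ep (!![0, 1, 0, 0; 0, 0, t, 0; 0, 0, 0, 3; 0, 0, 0, 0] : M5) = rep3 i) := by
  unfold ep
  decide +kernel

theorem ep2 : (∀ t : ZMod 5, t ≠ 0 → ∃ i : Fin 8, ep (!![0, 0, 0, 0; 1, 0, 0, 0; 0, t, 0, 0; 0, 0, 2, 0] : M5) = rep2 i) ∧
    (∀ t : ZMod 5, t ≠ 0 → ∃ i : Fin 8, ep (!![0, 0, 0, t; 1, 0, 0, 0; 0, 0, 0, 0; 0, 0, 2, 0] : M5) = rep2 i) := by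
  unfold ep
  decide +kernel

theorem mul_ne : ∀ (x j a : ZMod 5), j * a = 1 → x ≠ 0 → j * x ≠ 0 := by decide +kernel

theorem reps_three {v : M5ˣ} (h : Good v 3) : ∃ j : ℕ, ∃ i : Fin 8, (v : M5) ^ j = rep3 i := by
  obtain ⟨a, b, c, d, e, hc, ha, hbd⟩ := three_shape h
  obtain ⟨j, hj⟩ := scale a ha
  have hj' : (j : ℕ) + 1 = 1 ∨ (j : ℕ) + 1 = 2 ∨ (j : ℕ) + 1 = 3 ∨ (j : ℕ) + 1 = 4 := by omega
  have h1 := lg_of_pow h hj'
  rw [e] at h1
  have hc' : (((j : ℕ) + 1 : ℕ) : ZMod 5) * c = 3 := by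
    rw [hc]
    linear_combination 3 * hj
  have h2 : (((j : ℕ) + 1) • !![0, a, 0, 0; 0, 0, b, 0; 0, 0, 0, c; d, 0, 0, 0] : M5) =
      !![0, 1, 0, 0; 0, 0, (((j : ℕ) + 1 : ℕ) : ZMod 5) * b, 0; 0, 0, 0, 3; (((j : ℕ) + 1 : ℕ) : ZMod 5) * d, 0, 0, 0] := by
    ext r s
    rw [Matrix.smul_apply, nsmul_eq_mul]
    fin_cases r <;> fin_cases s <;>
      first
        | exact mul_zero _
        | exact hj
        | exact hc'
        | rfl
  rw [h2] at h1
  rcases hbd with ⟨hb, hd⟩ | ⟨hb, hd⟩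
  · rw [hb, mul_zero] at h1
    obtain ⟨i, hi⟩ := ep3.1 _ (mul_ne d _ a hj hd)
    exact ⟨_, i, h1.trans hi⟩
  · rw [hd, mul_zero] at h1
    obtain ⟨i, hi⟩ := ep3.2 _ (mul_ne b _ a hj hb)
    exact ⟨_, i, h1.trans hi⟩

theorem reps_two {v : M5ˣ} (h : Good v 2) : ∃ j : ℕ, ∃ i : Fin 8, (v : M5) ^ j = rep2 i := by
  obtain ⟨a, b, c, d, e, hd, hb, hac⟩ := two_shape h
  obtain ⟨j, hj⟩ := scale b hb
  have hj' : (j : ℕ) + 1 = 1 ∨ (j : ℕ) + 1 = 2 ∨ (j : ℕ) + 1 = 3 ∨ (j : ℕ) + 1 = 4 := by omega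
  have h1 := lg_of_pow h hj'
  rw [e] at h1
  have hd' : (((j : ℕ) + 1 : ℕ) : ZMod 5) * d = 2 := by
    rw [hd]
    linear_combination 2 * hj
  have h2 : (((j : ℕ) + 1) • !![0, 0, 0, a; b, 0, 0, 0; 0, c, 0, 0; 0, 0, d, 0] : M5) =
      !![0, 0, 0, (((j : ℕ) + 1 : ℕ) : ZMod 5) * a; 1, 0, 0, 0; 0, (((j : ℕ) + 1 : ℕ) : ZMod 5) * c, 0, 0; 0, 0, 2, 0] := by
    ext r s
    rw [Matrix.smul_apply, nsmul_eq_mul]
    fin_cases r <;> fin_cases s <;>
      first
        | exact mul_zero _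
        | exact hj
        | exact hd'
        | rfl
  rw [h2] at h1
  rcases hac with ⟨ha, hc⟩ | ⟨ha, hc⟩
  · rw [ha, mul_zero] at h1
    obtain ⟨i, hi⟩ := ep2.1 _ (mul_ne c _ b hj hc)
    exact ⟨_, i, h1.trans hi⟩
  · rw [hc, mul_zero] at h1
    obtain ⟨i, hi⟩ := ep2.2 _ (mul_ne a _ b hj ha)
    exact ⟨_, i, h1.trans hi⟩

/-! ### the Sylow part -/

section

theorem gA5 : gA ^ 5 = 1 := Units.ext (by rw [Units.val_pow_eq_pow_val]; exact mA5)

theorem gA_ne : gA ≠ 1 := by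
  intro h
  have h1 : mA = 1 := congrArg (fun x : M5ˣ => (x : M5)) h
  revert h1
  decide +kernel

theorem gA_conj : gh2 * gA * gh2⁻¹ = gA ^ 3 := by
  rw [mul_inv_eq_iff_eq_mul]
  refine Units.ext ?_
  rw [Units.val_mul, Units.val_mul, Units.val_pow_eq_pow_val]
  change mh2 * mA = mA ^ 3 * mh2
  decide +kernel

theorem gh24 : gh2 ^ 4 = 1 := Units.ext (by rw [Units.val_pow_eq_pow_val]; exact mh24)

theorem inv_mem_conj {L : Subgroup M5ˣ} (h : Hyp L) {g : M5ˣ} (hg : g ∈ L) : gh2⁻¹ * g * gh2 ∈ L := by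
  have h1 := h.h2 _ (h.h2 _ (h.h2 _ hg))
  have h2 : gh2⁻¹ = gh2 ^ 3 := by
    rw [inv_eq_iff_mul_eq_one, ← pow_succ', gh24]
  have h3 : gh2 = (gh2 ^ 3)⁻¹ := by rw [← h2, inv_inv]
  have h4 : gh2⁻¹ * g * gh2 = gh2 * (gh2 * (gh2 * g * gh2⁻¹) * gh2⁻¹) * gh2⁻¹ := by
    calc gh2⁻¹ * g * gh2 = gh2 ^ 3 * g * (gh2 ^ 3)⁻¹ := by rw [← h2, inv_inv]
      _ = _ := by simp only [pow_succ, pow_zero, one_mul, _root_.mul_inv_rev, mul_assoc]
  rw [h4]
  exact h1

/-- conjugation by `gh2` -/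
def phi (L : Subgroup M5ˣ) (h : Hyp L) : MulAut L where
  toFun g := ⟨gh2 * g * gh2⁻¹, h.h2 g g.2⟩
  invFun g := ⟨gh2⁻¹ * g * gh2, inv_mem_conj h g.2⟩
  left_inv g := Subtype.ext (by simp [mul_assoc])
  right_inv g := Subtype.ext (by simp only [mul_assoc, _root_.mul_inv_cancel_left, _root_.mul_inv_cancel, _root_.mul_one])
  map_mul' a b := Subtype.ext (by simp only [mul_assoc, _root_.Subgroup.coe_mul, _root_.MulMemClass.mk_mul_mk, _root_.inv_mul_cancel_left])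

theorem phi_pow (L : Subgroup M5ˣ) (h : Hyp L) (n : ℕ) (g : L) :
    (((phi L h) ^ n) g : M5ˣ) = gh2 ^ n * g * (gh2 ^ n)⁻¹ := by
  induction n with
  | zero => simp
  | succ n ih =>
    rw [pow_succ', MulAut.mul_apply]
    change gh2 * (((phi L h) ^ n) g : M5ˣ) * gh2⁻¹ = _
    rw [ih, pow_succ' gh2 n]
    group

theorem phi4 (L : Subgroup M5ˣ) (h : Hyp L) : (phi L h) ^ 4 = 1 := by
  ext g
  have := phi_pow L h 4 g
  rw [gh24] at this
  rw [this]
  simp

theorem div117 : ∀ n ∈ Nat.divisors 117, n % 5 = 1 → n = 1 := by decide +kernel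

theorem col_zero : ∀ k ∈ Finset.range 5, (mA ^ k) 1 0 = 0 ∧ (mA ^ k) 2 0 = 0 ∧ (mA ^ k) 3 0 = 0 := by
  decide +kernel

seal _root_.Finset.sum _root_.dotProduct in
theorem exists_v {L : Subgroup M5ˣ} (h : Hyp L) (hd : Nat.card L ∣ 2 ^ 7 * 3 ^ 2 * 5 * 13) :
    ∃ v ∈ L, v ^ 5 = 1 ∧ v ≠ 1 ∧ (∃ k : ℕ, gh2 * v * gh2⁻¹ = v ^ k) ∧ gA ∉ Subgroup.zpowers v := by
  classical
  have hp5 : Fact (Nat.Prime 5) := ⟨by norm_num⟩
  have hfin : Finite M5ˣ := inferInstance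
  set a : L := ⟨gA, h.memA⟩ with ha
  have ha5 : a ^ 5 = 1 := Subtype.ext gA5
  have ha1 : a ≠ 1 := fun h1 => gA_ne (congrArg Subtype.val h1)
  have hao : orderOf a = 5 := orderOf_eq_prime ha5 ha1
  have hgAo : orderOf gA = 5 := orderOf_eq_prime gA5 gA_ne
  have h5d : 5 ∣ Nat.card L := by
    have := orderOf_dvd_natCard a
    rwa [hao] at this
  have hcard0 : Nat.card L ≠ 0 := Nat.card_pos.ne'
  have hfac : (Nat.card L).factorization 5 = 1 := by
    apply le_antisymm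
    · by_contra hne
      push Not at hne
      have h1 : 5 ^ 2 ∣ Nat.card L := (Nat.Prime.pow_dvd_iff_le_factorization (by norm_num) hcard0).2 hne
      exact h.card (by simpa only [_root_.Nat.card_eq_fintype_card, _root_.Nat.reducePow] using h1)
    · exact (Nat.Prime.pow_dvd_iff_le_factorization (by norm_num) hcard0).1 (by simpa only [_root_.pow_one, _root_.Nat.card_eq_fintype_card] using h5d)
  have hSc : ∀ P : Sylow 5 L, Nat.card P = 5 := by
    intro P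
    rw [P.card_eq_multiplicity, hfac, pow_one]
  let T : Sylow 5 L := Sylow.ofCard (Subgroup.zpowers a) (by rw [Nat.card_zpowers, hao, hfac, pow_one])
  have hT : (T : Subgroup L) = Subgroup.zpowers a := rfl
  have hidx : (T : Subgroup L).index * 5 = Nat.card L := by
    have := (T : Subgroup L).index_mul_card
    rwa [show Nat.card (T : Subgroup L) = 5 from hSc T] at this
  have hn5 : Nat.card (Sylow 5 L) ∣ (T : Subgroup L).index := T.card_dvd_index
  have hmod : Nat.card (Sylow 5 L) ≡ 1 [MOD 5] := card_sylow_modEq_one 5 L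
  have hidx2 : (T : Subgroup L).index ∣ 2 ^ 7 * 117 := by
    have h1 : (T : Subgroup L).index * 5 ∣ (2 ^ 7 * 117) * 5 := by
      rw [hidx]
      refine hd.trans (dvd_of_eq (by norm_num))
    exact Nat.dvd_of_mul_dvd_mul_right (by norm_num) h1
  -- evenness
  have heven : 2 ∣ Nat.card (Sylow 5 L) := by
    by_contra hodd
    have hcop : Nat.Coprime (Nat.card (Sylow 5 L)) (2 ^ 7) :=
      Nat.Coprime.pow_right _ ((Nat.Prime.coprime_iff_not_dvd Nat.prime_two).2 hodd).symm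
    have h117 : Nat.card (Sylow 5 L) ∣ 117 := hcop.dvd_of_dvd_mul_left (hn5.trans hidx2)
    have hone : Nat.card (Sylow 5 L) = 1 :=
      div117 _ (Nat.mem_divisors.2 ⟨h117, by norm_num⟩) hmod
    obtain ⟨hsub, -⟩ := Nat.card_eq_one_iff_unique.1 hone
    apply h.irr1
    intro g hg
    have hLz : L ≤ Subgroup.zpowers gA := by
      refine h.gen.trans ((Subgroup.closure_le _).2 ?_)
      rintro x ⟨hxL, hx5⟩
      by_cases hx1 : x = 1
      · rw [hx1]; exact Subgroup.one_mem _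
      have hx1' : (⟨x, hxL⟩ : L) ≠ 1 := fun h1 => hx1 (congrArg Subtype.val h1)
      have hxo : orderOf (⟨x, hxL⟩ : L) = 5 := orderOf_eq_prime (Subtype.ext hx5) hx1'
      have hpg : IsPGroup 5 (Subgroup.zpowers (⟨x, hxL⟩ : L)) :=
        IsPGroup.of_card (n := 1) (by rw [Nat.card_zpowers, hxo, pow_one])
      obtain ⟨Q, hQ⟩ := hpg.exists_le_sylow
      have hQT : Q = T := Subsingleton.elim _ _
      have h1 : (⟨x, hxL⟩ : L) ∈ Subgroup.zpowers a := by
        rw [← hT, ← hQT]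
        exact hQ (Subgroup.mem_zpowers _)
      obtain ⟨k, hk⟩ := Subgroup.mem_zpowers_iff.1 h1
      refine Subgroup.mem_zpowers_iff.2 ⟨k, ?_⟩
      have := congrArg Subtype.val hk
      simpa [ha] using this
    have h1 := hLz hg
    rw [(isOfFinOrder_of_finite gA).mem_zpowers_iff_mem_range_orderOf, hgAo, Finset.mem_image] at h1
    obtain ⟨k, hk, rfl⟩ := h1
    rw [Units.val_pow_eq_pow_val]
    exact col_zero k hk
  -- the action
  have hP2 : IsPGroup 2 (Subgroup.zpowers (phi L h)) := by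
    rintro ⟨x, hx⟩
    obtain ⟨z, rfl⟩ := Subgroup.mem_zpowers_iff.1 hx
    refine ⟨2, Subtype.ext ?_⟩
    change ((phi L h) ^ z) ^ (2 ^ 2) = 1
    rw [← zpow_natCast, ← _root_.zpow_mul, mul_comm, _root_.zpow_mul, zpow_natCast]
    norm_num
    rw [phi4, _root_.one_zpow]
  have hTfix : phi L h • T = T := by
    apply Sylow.ext
    rw [Sylow.pointwise_smul_def]
    refine Subgroup.eq_of_le_of_card_ge ?_ ?_
    · rw [hT]
      intro x hx
      rw [Subgroup.mem_pointwise_smul_iff_inv_smul_mem] at hx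
      obtain ⟨k, hk⟩ := Subgroup.mem_zpowers_iff.1 hx
      have h1 : x = (phi L h) (a ^ k) := by
        rw [hk]
        change x = (phi L h) ((phi L h)⁻¹ x)
        rw [← MulAut.mul_apply, mul_inv_cancel, MulAut.one_apply]
      rw [h1, map_zpow]
      have h2 : (phi L h) a = a ^ 3 := Subtype.ext gA_conj
      rw [h2]
      exact Subgroup.zpow_mem _ (Subgroup.pow_mem _ (Subgroup.mem_zpowers _) _) _
    · have h1 := hSc (phi L h • T)
      have h2 := hSc T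
      rw [show Nat.card (T : Subgroup L) = 5 from h2,
        show Nat.card ((phi L h) • (T : Subgroup L) : Subgroup L) = 5 from h1]
  have hTmem : T ∈ MulAction.fixedPoints (Subgroup.zpowers (phi L h)) (Sylow 5 L) := by
    rintro ⟨x, hx⟩
    have h1 : Subgroup.zpowers (phi L h) ≤ MulAction.stabilizer (MulAut L) T := by
      rw [Subgroup.zpowers_le, MulAction.mem_stabilizer_iff]
      exact hTfix
    exact MulAction.mem_stabilizer_iff.1 (h1 hx)
  obtain ⟨P, hPfix, hPT⟩ := hP2.exists_fixed_point_of_prime_dvd_card_of_fixed_point (Sylow 5 L) heven hTmem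
  have hPphi : phi L h • P = P := hPfix ⟨phi L h, Subgroup.mem_zpowers _⟩
  -- a generator
  have hPc : Nat.card (P : Subgroup L) = 5 := hSc P
  have hcyc : IsCyclic (P : Subgroup L) := isCyclic_of_prime_card hPc
  obtain ⟨v, hv⟩ := hcyc.exists_generator
  have hvo : orderOf v = 5 := by
    rw [orderOf_eq_card_of_forall_mem_zpowers hv]
    exact hPc
  have hzv : ∀ x : L, x ∈ P → ∃ k : ℕ, x = (v : L) ^ k := by
    intro x hx
    have h1 := hv ⟨x, hx⟩
    rw [(isOfFinOrder_of_finite v).mem_zpowers_iff_mem_range_orderOf, Finset.mem_image] at h1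
    obtain ⟨k, -, hk⟩ := h1
    refine ⟨k, ?_⟩
    have := congrArg (fun y : (P : Subgroup L) => (y : L)) hk
    simpa using this.symm
  refine ⟨((v : L) : M5ˣ), (v : L).2, ?_, ?_, ?_, ?_⟩
  · have h1 : v ^ 5 = 1 := by
      have := pow_orderOf_eq_one v
      rwa [hvo] at this
    have := congrArg (fun y : (P : Subgroup L) => ((y : L) : M5ˣ)) h1
    simpa only [_root_.SubmonoidClass.coe_pow, _root_.OneMemClass.coe_one] using this
  · intro h1
    have h2 : v = 1 := Subtype.ext (Subtype.ext h1)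
    rw [h2, orderOf_one] at hvo
    omega
  · have h1 : (phi L h) (v : L) ∈ (P : Subgroup L) := by
      have h0 : (phi L h) (v : L) ∈ ((phi L h • P : Sylow 5 L) : Subgroup L) := by
        rw [Sylow.pointwise_smul_def]
        exact Subgroup.smul_mem_pointwise_smul _ _ _ v.2
      rwa [hPphi] at h0
    obtain ⟨k, hk⟩ := hzv _ h1
    refine ⟨k, ?_⟩
    have := congrArg (fun y : L => (y : M5ˣ)) hk
    simpa only [phi, _root_.MulEquiv.coe_mk, _root_.Equiv.coe_fn_mk, _root_.SubmonoidClass.coe_pow] using this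
  · intro h1
    obtain ⟨k, hk⟩ := Subgroup.mem_zpowers_iff.1 h1
    have h2 : a ∈ (P : Subgroup L) := by
      have h3 : a = (v : L) ^ k := Subtype.ext (by
        change gA = (((v : L) ^ k : L) : M5ˣ)
        rw [← hk]; simp)
      rw [h3]
      exact Subgroup.zpow_mem _ v.2 k
    apply hPT
    apply Sylow.ext
    refine Subgroup.eq_of_le_of_card_ge ?_ ?_
    · rw [hT, Subgroup.zpowers_le]; exact h2
    · rw [show Nat.card (T : Subgroup L) = 5 from hSc T, hPc]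

end

/-! ### the final step -/

theorem bad {L : Subgroup M5ˣ} (h : Hyp L) (hS : ∀ g ∈ L, g ^ 5 = 1 → g ≠ 1 → ((g : M5) - 1) ^ 3 ≠ 0) {w : M5ˣ}
    (hw : w ∈ L) (j e : ℕ) {W G : M5} (hW : (w : M5) = W) (hG : (mA * W ^ j) ^ e = G) (hG5 : G ^ 5 = 1) (hG1 : G ≠ 1)
    (hG3 : (G - 1) ^ 3 = 0) : False := by
  have hmem : (gA * w ^ j) ^ e ∈ L := L.pow_mem (L.mul_mem h.memA (L.pow_mem hw j)) e
  have hval : (((gA * w ^ j) ^ e : M5ˣ) : M5) = G := by
    rw [Units.val_pow_eq_pow_val, Units.val_mul, Units.val_pow_eq_pow_val, hW]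
    exact hG
  refine hS _ hmem ?_ ?_ ?_
  · refine Units.ext ?_
    rw [Units.val_pow_eq_pow_val, hval, hG5]
    rfl
  · intro h1
    rw [h1] at hval
    exact hG1 hval.symm
  · rw [hval]
    exact hG3

theorem stM2 (h1 : StM1) : StM2 := by
  intro L h
  obtain ⟨-, hS, -, -, hd⟩ := h1 L h
  obtain ⟨v, hv, hv5, hv1, ⟨k, hk⟩, hvA⟩ := exists_v h hd
  have hk5 : v ^ k = v ^ (k % 5) := by
    conv_lhs => rw [← Nat.div_add_mod k 5, pow_add, pow_mul, hv5, one_pow, one_mul]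
  rw [hk5] at hk
  have hgood : ∀ k', gh2 * v * gh2⁻¹ = v ^ k' → Good v k' := fun k' hk' =>
    ⟨hv5, hk', h.iso v hv, hS v hv hv5 hv1⟩
  have hlt : k % 5 < 5 := Nat.mod_lt _ (by norm_num)
  generalize k % 5 = m at hk hlt
  rcases (show m = 0 ∨ m = 1 ∨ m = 2 ∨ m = 3 ∨ m = 4 by omega) with rfl | rfl | rfl | rfl | rfl
  · exfalso
    rw [pow_zero, mul_inv_eq_one] at hk
    exact hv1 (mul_eq_left.1 hk)
  · exact (not_one (hgood 1 hk)).elim
  · obtain ⟨j, i, hj⟩ := reps_two (hgood 2 hk)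
    have hw : v ^ j ∈ L := L.pow_mem hv j
    rw [← Units.val_pow_eq_pow_val] at hj
    fin_cases i
    · exact (bad h hS hw 2 2 (G := !![0, 1, 1, 3; 1, 3, 2, 2; 4, 3, 4, 3; 3, 2, 2, 2]) hj (by decide +kernel) (by decide +kernel) (by decide +kernel)
        (by decide +kernel)).elim
    · left
      rwa [show gS = v ^ j from Units.ext hj.symm]
    · exact (bad h hS hw 2 1 (G := !![1, 2, 2, 1; 2, 2, 4, 4; 4, 3, 0, 1; 3, 2, 4, 1]) hj (by decide +kernel) (by decide +kernel) (by decide +kernel)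
        (by decide +kernel)).elim
    · right; right; right; left
      rwa [show gB = v ^ j from Units.ext hj.symm]
    · exact (bad h hS hw 1 3 (G := !![1, 0, 2, 2; 0, 1, 2, 4; 0, 0, 1, 0; 0, 0, 0, 1]) hj (by decide +kernel) (by decide +kernel) (by decide +kernel)
        (by decide +kernel)).elim
    · right; right; right; right
      have h2 : gP = (v ^ j) ^ 3 := Units.ext (by
        rw [Units.val_pow_eq_pow_val, hj]
        change mP = rep2 5 ^ 3
        decide +kernel)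
      rw [h2]
      exact L.pow_mem hw 3
    · exact (bad h hS hw 3 2 (G := !![0, 1, 0, 1; 4, 2, 2, 0; 0, 0, 0, 3; 0, 0, 3, 2]) hj (by decide +kernel) (by decide +kernel) (by decide +kernel)
        (by decide +kernel)).elim
    · exact (bad h hS hw 1 3 (G := !![1, 0, 1, 1; 0, 1, 1, 2; 0, 0, 1, 0; 0, 0, 0, 1]) hj (by decide +kernel) (by decide +kernel) (by decide +kernel)
        (by decide +kernel)).elim
  · obtain ⟨j, i, hj⟩ := reps_three (hgood 3 hk)
    have hw : v ^ j ∈ L := L.pow_mem hv j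
    rw [← Units.val_pow_eq_pow_val] at hj
    fin_cases i
    · exact (bad h hS hw 3 2 (G := !![0, 0, 4, 4; 0, 0, 4, 3; 2, 4, 2, 0; 4, 1, 0, 2]) hj (by decide +kernel) (by decide +kernel) (by decide +kernel)
        (by decide +kernel)).elim
    · exact (bad h hS hw 1 6 (G := !![1, 2, 2, 3; 0, 2, 1, 4; 0, 4, 0, 1; 0, 0, 0, 1]) hj (by decide +kernel) (by decide +kernel) (by decide +kernel)
        (by decide +kernel)).elim
    · right; left
      rwa [show gR = v ^ j from Units.ext hj.symm]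
    · right; right; left
      rwa [show gC = v ^ j from Units.ext hj.symm]
    · exact (bad h hS hw 2 1 (G := !![1, 4, 4, 0; 0, 1, 0, 3; 0, 0, 1, 2; 0, 0, 0, 1]) hj (by decide +kernel) (by decide +kernel) (by decide +kernel)
        (by decide +kernel)).elim
    · exact (bad h hS hw 1 1 (G := !![1, 3, 3, 2; 0, 1, 0, 1; 0, 0, 1, 4; 0, 0, 0, 1]) hj (by decide +kernel) (by decide +kernel) (by decide +kernel)
        (by decide +kernel)).elim
    · exact (bad h hS hw 3 1 (G := !![1, 0, 2, 2; 0, 1, 2, 4; 0, 0, 1, 0; 0, 0, 0, 1]) hj (by decide +kernel) (by decide +kernel) (by decide +kernel)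
        (by decide +kernel)).elim
    · exfalso
      apply hvA
      have h2 : gA = (v ^ j) ^ 2 := Units.ext (by
        rw [Units.val_pow_eq_pow_val, hj]
        change mA = rep3 7 ^ 2
        decide +kernel)
      rw [h2]
      exact Subgroup.pow_mem _ (Subgroup.pow_mem _ (Subgroup.mem_zpowers v) j) 2
  · exact (four_shape (hgood 4 hk)).elim

end Cfsg.Agent.H117.Q5
end

-- part: H117/Q5/StM2s
section
/-!
# S5211, block q = 5: the strong form of (M2) (helper117)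
-/

set_option autoImplicit false

namespace Cfsg.Agent.H117.Q5

open Matrix Cfsg.Agent.H24.Q5

theorem inv5 : ∀ m : Fin 5, m ≠ 0 → ∃ t : Fin 5, ((m : ℕ) * t) % 5 = 1 := by decide

/-- a `gh2`-invariant subgroup of order 5 of `L` is one of six -/
theorem stM2s (h1 : StM1) : ∀ L : Subgroup M5ˣ, Hyp L → ∀ x ∈ L, x ^ 5 = 1 → x ≠ 1 →
    (∃ k : ℕ, gh2 * x * gh2⁻¹ = x ^ k) →
    ∃ j : ℕ, x = gA ^ j ∨ x ^ j = gS ∨ x ^ j = gR ∨ x ^ j = gC ∨ x ^ j = gB ∨ x ^ j = gP := by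
  rintro L h v hv hv5 hv1 ⟨k, hk⟩
  obtain ⟨-, hS, -, -, -⟩ := h1 L h
  have hk5 : v ^ k = v ^ (k % 5) := by
    conv_lhs => rw [← Nat.div_add_mod k 5, pow_add, pow_mul, hv5, one_pow, one_mul]
  rw [hk5] at hk
  have hgood : ∀ k', gh2 * v * gh2⁻¹ = v ^ k' → Good v k' := fun k' hk' =>
    ⟨hv5, hk', h.iso v hv, hS v hv hv5 hv1⟩
  have hlt : k % 5 < 5 := Nat.mod_lt _ (by norm_num)
  generalize k % 5 = m at hk hlt
  rcases (show m = 0 ∨ m = 1 ∨ m = 2 ∨ m = 3 ∨ m = 4 by omega) with rfl | rfl | rfl | rfl | rfl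
  · exfalso
    rw [pow_zero, mul_inv_eq_one] at hk
    exact hv1 (mul_eq_left.1 hk)
  · exact (not_one (hgood 1 hk)).elim
  · obtain ⟨j, i, hj⟩ := reps_two (hgood 2 hk)
    have hw : v ^ j ∈ L := L.pow_mem hv j
    rw [← Units.val_pow_eq_pow_val] at hj
    fin_cases i
    · exact (bad h hS hw 2 2 (G := !![0, 1, 1, 3; 1, 3, 2, 2; 4, 3, 4, 3; 3, 2, 2, 2]) hj (by decide +kernel) (by decide +kernel) (by decide +kernel)
        (by decide +kernel)).elim
    · exact ⟨j, Or.inr (Or.inl (Units.ext hj))⟩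
    · exact (bad h hS hw 2 1 (G := !![1, 2, 2, 1; 2, 2, 4, 4; 4, 3, 0, 1; 3, 2, 4, 1]) hj (by decide +kernel) (by decide +kernel) (by decide +kernel)
        (by decide +kernel)).elim
    · exact ⟨j, Or.inr (Or.inr (Or.inr (Or.inr (Or.inl (Units.ext hj)))))⟩
    · exact (bad h hS hw 1 3 (G := !![1, 0, 2, 2; 0, 1, 2, 4; 0, 0, 1, 0; 0, 0, 0, 1]) hj (by decide +kernel) (by decide +kernel) (by decide +kernel)
        (by decide +kernel)).elim
    · have h2 : (v ^ j) ^ 3 = gP := Units.ext (by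
        rw [Units.val_pow_eq_pow_val, hj]
        change rep2 5 ^ 3 = mP
        decide +kernel)
      refine ⟨j * 3, Or.inr (Or.inr (Or.inr (Or.inr (Or.inr ?_))))⟩
      rw [pow_mul, h2]
    · exact (bad h hS hw 3 2 (G := !![0, 1, 0, 1; 4, 2, 2, 0; 0, 0, 0, 3; 0, 0, 3, 2]) hj (by decide +kernel) (by decide +kernel) (by decide +kernel)
        (by decide +kernel)).elim
    · exact (bad h hS hw 1 3 (G := !![1, 0, 1, 1; 0, 1, 1, 2; 0, 0, 1, 0; 0, 0, 0, 1]) hj (by decide +kernel) (by decide +kernel) (by decide +kernel)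
        (by decide +kernel)).elim
  · obtain ⟨j, i, hj⟩ := reps_three (hgood 3 hk)
    have hw : v ^ j ∈ L := L.pow_mem hv j
    rw [← Units.val_pow_eq_pow_val] at hj
    fin_cases i
    · exact (bad h hS hw 3 2 (G := !![0, 0, 4, 4; 0, 0, 4, 3; 2, 4, 2, 0; 4, 1, 0, 2]) hj (by decide +kernel) (by decide +kernel) (by decide +kernel)
        (by decide +kernel)).elim
    · exact (bad h hS hw 1 6 (G := !![1, 2, 2, 3; 0, 2, 1, 4; 0, 4, 0, 1; 0, 0, 0, 1]) hj (by decide +kernel) (by decide +kernel) (by decide +kernel)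
        (by decide +kernel)).elim
    · exact ⟨j, Or.inr (Or.inr (Or.inl (Units.ext hj)))⟩
    · exact ⟨j, Or.inr (Or.inr (Or.inr (Or.inl (Units.ext hj))))⟩
    · exact (bad h hS hw 2 1 (G := !![1, 4, 4, 0; 0, 1, 0, 3; 0, 0, 1, 2; 0, 0, 0, 1]) hj (by decide +kernel) (by decide +kernel) (by decide +kernel)
        (by decide +kernel)).elim
    · exact (bad h hS hw 1 1 (G := !![1, 3, 3, 2; 0, 1, 0, 1; 0, 0, 1, 4; 0, 0, 0, 1]) hj (by decide +kernel) (by decide +kernel) (by decide +kernel)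
        (by decide +kernel)).elim
    · exact (bad h hS hw 3 1 (G := !![1, 0, 2, 2; 0, 1, 2, 4; 0, 0, 1, 0; 0, 0, 0, 1]) hj (by decide +kernel) (by decide +kernel) (by decide +kernel)
        (by decide +kernel)).elim
    · have h2 : v ^ (j * 2) = gA := Units.ext (by
        rw [pow_mul, Units.val_pow_eq_pow_val, hj]
        change rep3 7 ^ 2 = mA
        decide +kernel)
      have h3 : (j * 2) % 5 ≠ 0 := by
        intro h3
        apply gA_ne
        rw [← h2]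
        obtain ⟨c, hc⟩ := Nat.dvd_of_mod_eq_zero h3
        rw [hc, pow_mul, hv5, one_pow]
      have hl : (j * 2) % 5 < 5 := Nat.mod_lt _ (by norm_num)
      obtain ⟨t, ht⟩ := inv5 ⟨(j * 2) % 5, hl⟩ (fun h4 => h3 (congrArg Fin.val h4))
      refine ⟨t, Or.inl ?_⟩
      rw [← h2, ← pow_mul]
      have h4 : (j * 2 * (t : ℕ)) % 5 = 1 := by
        rw [Nat.mul_mod]
        simpa only [Nat.mul_mod, _root_.Nat.reduceMod, _root_.dvd_refl, _root_.Nat.mod_mod_of_dvd] using ht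
      conv_rhs => rw [← Nat.div_add_mod (j * 2 * (t : ℕ)) 5, pow_add, pow_mul, hv5, one_pow, one_mul, h4, pow_one]
  · exact (four_shape (hgood 4 hk)).elim

end Cfsg.Agent.H117.Q5
end

-- part: H473/Q5/M6
section
/-!
# S5211, block q = 5, M6 (helper473): orders of the explicit matrix groups
-/

set_option autoImplicit false

namespace Cfsg.Agent.H473.Q5

open Matrix Cfsg.Agent.H24.Q5

/-! ### vectors coded by numbers `< 625` -/

/-- the vector of a code -/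
def dec (c : ℕ) : Fin 4 → ZMod 5 := ![(c : ZMod 5), ((c / 5 : ℕ) : ZMod 5), ((c / 25 : ℕ) : ZMod 5), ((c / 125 : ℕ) : ZMod 5)]

theorem dec_inj {c d : ℕ} (hc : c < 625) (hd : d < 625) (h : dec c = dec d) : c = d := by
  have h0 := congrFun h 0
  have h1 := congrFun h 1
  have h2 := congrFun h 2
  have h3 := congrFun h 3
  simp only [dec, Matrix.cons_val] at h0 h1 h2 h3
  rw [ZMod.natCast_eq_natCast_iff'] at h0 h1 h2 h3
  (solve | lia | omega)

/-- matrix times vector on codes -/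
def stp (a00 a01 a02 a03 a10 a11 a12 a13 a20 a21 a22 a23 a30 a31 a32 a33 : ℕ) (n : ℕ) : ℕ :=
  (a00 * (n % 5) + a01 * (n / 5 % 5) + a02 * (n / 25 % 5) + a03 * (n / 125 % 5)) % 5 +
  5 * ((a10 * (n % 5) + a11 * (n / 5 % 5) + a12 * (n / 25 % 5) + a13 * (n / 125 % 5)) % 5) +
  25 * ((a20 * (n % 5) + a21 * (n / 5 % 5) + a22 * (n / 25 % 5) + a23 * (n / 125 % 5)) % 5) +
  125 * ((a30 * (n % 5) + a31 * (n / 5 % 5) + a32 * (n / 25 % 5) + a33 * (n / 125 % 5)) % 5)

theorem dec_stp (a00 a01 a02 a03 a10 a11 a12 a13 a20 a21 a22 a23 a30 a31 a32 a33 : ℕ) (n : ℕ) :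
    dec (stp a00 a01 a02 a03 a10 a11 a12 a13 a20 a21 a22 a23 a30 a31 a32 a33 n) =
      (!![(a00 : ZMod 5), a01, a02, a03; a10, a11, a12, a13; a20, a21, a22, a23; a30, a31, a32, a33] : M5) *ᵥ
        dec n := by
  have key : ∀ x y z w : ℕ, dec (x % 5 + 5 * (y % 5) + 25 * (z % 5) + 125 * (w % 5)) =
      ![(x : ZMod 5), (y : ZMod 5), (z : ZMod 5), (w : ZMod 5)] := by
    intro x y z w
    have h0 : ((x % 5 + 5 * (y % 5) + 25 * (z % 5) + 125 * (w % 5) : ℕ) : ZMod 5) = (x : ZMod 5) := by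
      rw [ZMod.natCast_eq_natCast_iff']
      (solve | lia | omega)
    have h1 : (((x % 5 + 5 * (y % 5) + 25 * (z % 5) + 125 * (w % 5)) / 5 : ℕ) : ZMod 5) = (y : ZMod 5) := by
      rw [ZMod.natCast_eq_natCast_iff']
      (clear * -; solve | lia | omega)
    have h2 : (((x % 5 + 5 * (y % 5) + 25 * (z % 5) + 125 * (w % 5)) / 25 : ℕ) : ZMod 5) = (z : ZMod 5) := by
      rw [ZMod.natCast_eq_natCast_iff']
      (clear * -; solve | lia | omega)
    have h3 : (((x % 5 + 5 * (y % 5) + 25 * (z % 5) + 125 * (w % 5)) / 125 : ℕ) : ZMod 5) = (w : ZMod 5) := by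
      rw [ZMod.natCast_eq_natCast_iff']
      (clear * -; solve | lia | omega)
    unfold dec
    rw [h0, h1, h2, h3]
  unfold stp
  rw [key]
  funext i
  (revert i; simp only [dec, Matrix.mulVec, dotProduct, Fin.sum_univ_four, _root_.Fin.forall_fin_succ, _root_.Nat.succ_eq_add_one, Nat.reduceAdd, _root_.Nat.cast_add, _root_.Nat.cast_mul, _root_.ZMod.natCast_mod, _root_.Matrix.of_apply, _root_.Matrix.cons_val', _root_.Matrix.cons_val_fin_one, Fin.isValue, _root_.Matrix.cons_val_zero, _root_.Matrix.cons_val_one, _root_.Matrix.cons_val, _root_.Matrix.cons_val_succ, _root_.implies_true, _root_.and_self])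

/-! ### search -/

/-- put a code on the stack if it is new -/
def push (a : ℕ) (s : List ℕ × ℕ) : List ℕ × ℕ :=
  bif Nat.testBit s.2 a then s else (a :: s.1, s.2 ||| (1 <<< a))

/-- depth first search -/
def dfs (f g : ℕ → ℕ) : ℕ → List ℕ → ℕ → ℕ
  | 0, _, m => m
  | _ + 1, [], m => m
  | n + 1, c :: l, m =>
    let s := push (g c) (push (f c) (l, m))
    dfs f g n s.1 s.2

theorem push_inv {Q : ℕ → Prop} {a : ℕ} (ha : Q a) {s : List ℕ × ℕ} (h1 : ∀ c ∈ s.1, Q c)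
    (h2 : ∀ c, Nat.testBit s.2 c = true → Q c) :
    (∀ c ∈ (push a s).1, Q c) ∧ (∀ c, Nat.testBit (push a s).2 c = true → Q c) := by
  unfold push
  cases h : Nat.testBit s.2 a with
  | true => exact ⟨h1, h2⟩
  | false =>
    refine ⟨fun c hc => ?_, fun c hc => ?_⟩
    · rcases List.mem_cons.mp hc with rfl | hc
      · exact ha
      · exact h1 c hc
    · simp only [cond_false, Nat.testBit_or, Bool.or_eq_true, Nat.one_shiftLeft, Nat.testBit_two_pow,
        decide_eq_true_eq] at hc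
      rcases hc with hc | hc
      · exact h2 c hc
      · rw [← hc]
        exact ha

theorem dfs_inv {Q : ℕ → Prop} {f g : ℕ → ℕ} (hf : ∀ c, Q c → Q (f c)) (hg : ∀ c, Q c → Q (g c)) :
    ∀ (n : ℕ) (l : List ℕ) (m : ℕ), (∀ c ∈ l, Q c) → (∀ c, Nat.testBit m c = true → Q c) →
      ∀ c, Nat.testBit (dfs f g n l m) c = true → Q c := by
  intro n
  induction n with
  | zero => intro l m _ hm c hc; exact hm c hc
  | succ n ih =>
    intro l m hl hm c hc
    cases l with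
    | nil => exact hm c hc
    | cons a l =>
      have ha := hl a (by simp)
      obtain ⟨h1, h2⟩ := push_inv (hf a ha) (s := (l, m)) (fun c hc => hl c (by simp [hc])) hm
      obtain ⟨h3, h4⟩ := push_inv (hg a ha) h1 h2
      exact ih _ _ h3 h4 c hc

/-- the first basis vector -/
def e0 : Fin 4 → ZMod 5 := dec 1

theorem mA_e0 : mA *ᵥ e0 = e0 := by decide +kernel

theorem mA_ne : mA ≠ 1 := by decide +kernel

theorem gA_pow_inj {k l : ℕ} (hk : k < 5) (hl : l < 5) (h : gA ^ k = gA ^ l) : k = l := by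
  have h5 : orderOf gA = 5 := by
    have h0 : Fact (Nat.Prime 5) := ⟨by norm_num⟩
    refine orderOf_eq_prime (Units.ext ?_) ?_
    · rw [Units.val_pow_eq_pow_val]
      exact mA5
    · intro h
      have h1 : mA = 1 := congrArg Units.val h
      exact mA_ne h1
  exact pow_injOn_Iio_orderOf (by rw [h5]; exact hk) (by rw [h5]; exact hl) h

/-- lower bound by an orbit -/
theorem card_le {L : Subgroup M5ˣ} (hA : gA ∈ L) (S : Finset ℕ) (hS : ∀ c ∈ S, c < 625)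
    (h : ∀ c ∈ S, ∃ g ∈ L, (g : M5) *ᵥ e0 = dec c) : S.card * 5 ≤ Nat.card L := by
  choose! g hg hge using h
  have hAe : ∀ k : ℕ, ((gA ^ k : M5ˣ) : M5) *ᵥ e0 = e0 := by
    intro k
    induction k with
    | zero => simp
    | succ k ih =>
      rw [pow_succ', Units.val_mul, ← Matrix.mulVec_mulVec, ih]
      exact mA_e0
  have h1 : Nat.card (S × Fin 5) = S.card * 5 := by
    rw [Nat.card_prod, Nat.card_eq_fintype_card, Nat.card_eq_fintype_card, Fintype.card_coe, Fintype.card_fin]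
  rw [← h1]
  refine Nat.card_le_card_of_injective
    (fun p : S × Fin 5 => (⟨g p.1 * gA ^ (p.2 : ℕ), L.mul_mem (hg p.1 p.1.2) (L.pow_mem hA _)⟩ : L)) ?_
  rintro ⟨⟨c, hc⟩, k⟩ ⟨⟨d, hd⟩, l⟩ hp
  have h2 : g c * gA ^ (k : ℕ) = g d * gA ^ (l : ℕ) := congrArg Subtype.val hp
  have h3 : dec c = dec d := by
    have h4 := congrArg (fun u : M5ˣ => (u : M5) *ᵥ e0) h2
    simp only [Units.val_mul] at h4
    rw [← Matrix.mulVec_mulVec, ← Matrix.mulVec_mulVec, hAe, hAe, hge c hc, hge d hd] at h4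
    exact h4
  have h5 : c = d := dec_inj (hS c hc) (hS d hd) h3
  subst h5
  have h6 := gA_pow_inj k.2 l.2 (mul_left_cancel h2)
  have h7 : k = l := Fin.ext h6
  subst h7
  rfl

/-- the code action of `mA` -/
def sA : ℕ → ℕ := stp 1 2 3 1 0 1 3 4 0 0 1 1 0 0 0 1
def sS : ℕ → ℕ := stp 1 0 0 0 1 1 0 0 1 2 1 0 4 2 2 1
def sR : ℕ → ℕ := stp 1 1 0 0 0 1 0 0 2 4 1 3 3 4 0 1
def sC : ℕ → ℕ := stp 1 1 0 0 0 1 0 0 1 2 1 3 4 2 0 1
def sB : ℕ → ℕ := stp 1 0 0 0 1 1 0 0 2 4 1 0 3 4 2 1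
def sP : ℕ → ℕ := stp 1 0 3 1 3 1 3 4 0 0 1 0 0 0 1 1

theorem dec_sA (n : ℕ) : dec (sA n) = mA *ᵥ dec n := by
  unfold sA
  rw [dec_stp]
  congr 1
theorem dec_sS (n : ℕ) : dec (sS n) = mS *ᵥ dec n := by
  unfold sS
  rw [dec_stp]
  congr 1
theorem dec_sR (n : ℕ) : dec (sR n) = mR *ᵥ dec n := by
  unfold sR
  rw [dec_stp]
  congr 1
theorem dec_sC (n : ℕ) : dec (sC n) = mC *ᵥ dec n := by
  unfold sC
  rw [dec_stp]
  congr 1
theorem dec_sB (n : ℕ) : dec (sB n) = mB *ᵥ dec n := by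
  unfold sB
  rw [dec_stp]
  congr 1
theorem dec_sP (n : ℕ) : dec (sP n) = mP *ᵥ dec n := by
  unfold sP
  rw [dec_stp]
  congr 1

/-- lower bound from the search -/
theorem card_le_dfs {L : Subgroup M5ˣ} (hA : gA ∈ L) {g : M5ˣ} (hg : g ∈ L) {f : ℕ → ℕ}
    (hf : ∀ n, dec (f n) = (g : M5) *ᵥ dec n) {n m N : ℕ} (h1 : dfs sA f n [1] 2 = m)
    (h2 : ((Finset.range 625).filter fun c => Nat.testBit m c = true).card = N) : N * 5 ≤ Nat.card L := by
  subst h2
  refine card_le hA _ (fun c hc => Finset.mem_range.mp (Finset.mem_filter.mp hc).1) fun c hc => ?_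
  have h3 := (Finset.mem_filter.mp hc).2
  rw [← h1] at h3
  refine dfs_inv (Q := fun c => ∃ g ∈ L, (g : M5) *ᵥ e0 = dec c) ?_ ?_ n [1] 2 ?_ ?_ c h3
  · rintro c ⟨x, hx, hxc⟩
    refine ⟨gA * x, L.mul_mem hA hx, ?_⟩
    rw [Units.val_mul, ← Matrix.mulVec_mulVec, hxc, dec_sA]
    rfl
  · rintro c ⟨x, hx, hxc⟩
    refine ⟨g * x, L.mul_mem hg hx, ?_⟩
    rw [Units.val_mul, ← Matrix.mulVec_mulVec, hxc, hf]
  · intro c hc
    rw [List.mem_singleton] at hc
    subst hc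
    exact ⟨1, L.one_mem, by rw [Units.val_one, Matrix.one_mulVec]; rfl⟩
  · intro c hc
    have h4 : c = 1 := by
      have h5 : (2 : ℕ) = 2 ^ 1 := rfl
      rw [h5, Nat.testBit_two_pow] at hc
      exact (of_decide_eq_true hc).symm
    subst h4
    exact ⟨1, L.one_mem, by rw [Units.val_one, Matrix.one_mulVec]; rfl⟩

theorem card_LS : 120 ≤ Nat.card LS :=
  card_le_dfs (N := 24) (f := sS) (n := 625) (Subgroup.subset_closure (by simp))
    (Subgroup.subset_closure (by simp) : gS ∈ LS) dec_sS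
    (m := 2125070660744094819062311973503205973118002017914041451075311207683014679619904126768657406400112175634302892406234534655422967881425794481799682162309890998228191939823713152957153310)
    (by decide +kernel) (by decide +kernel)

theorem card_LR : 160 ≤ Nat.card LR :=
  card_le_dfs (N := 32) (f := sR) (n := 625) (Subgroup.subset_closure (by simp))
    (Subgroup.subset_closure (by simp) : gR ∈ LR) dec_sR
    (m := 8498207885315604039476478292254506214169952270403831909913374899968505684201171638379523055976882780306396502297736351808983320266478015062904577119432380140335889888274008359517028370)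
    (by decide +kernel) (by decide +kernel)

theorem card_LC : 720 ≤ Nat.card LC :=
  card_le_dfs (N := 144) (f := sC) (n := 625) (Subgroup.subset_closure (by simp))
    (Subgroup.subset_closure (by simp) : gC ∈ LC) dec_sC
    (m := 23441144295490027925387077815464299302251982207264747318391037528349463445557117736824431591135972952594344526708664674912931356668797762951253966558704142389687258671464315393018953726)
    (by decide +kernel) (by decide +kernel)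

theorem card_LB : 1920 ≤ Nat.card LB :=
  card_le_dfs (N := 384) (f := sB) (n := 625) (Subgroup.subset_closure (by simp))
    (Subgroup.subset_closure (by simp) : gB ∈ LB) dec_sB
    (m := 54966367021200435681728541697880230836486898283375476875972283774720794254687331047677591544093477596438237577925794480617384146412388069847749948636876698626313033818793381012306550325246)
    (by decide +kernel) (by decide +kernel)

theorem card_LP : 120 ≤ Nat.card LP :=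
  card_le_dfs (N := 24) (f := sP) (n := 625) (Subgroup.subset_closure (by simp))
    (Subgroup.subset_closure (by simp) : gP ∈ LP) dec_sP (m := 33554430)
    (by decide +kernel) (by decide +kernel)

/-! ### words -/

theorem neg_LS : -1 ∈ LS := by
  have hA : gA ∈ LS := Subgroup.subset_closure (by simp)
  have hB : gS ∈ LS := Subgroup.subset_closure (by simp)
  have h : (-1 : M5ˣ) = gA * gS ^ 2 * gA * gS ^ 2 := by
    refine Units.ext ?_
    show (-1 : M5) = mA * mS ^ 2 * mA * mS ^ 2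
    decide +kernel
  rw [h]
  exact LS.mul_mem (LS.mul_mem (LS.mul_mem hA (LS.pow_mem hB 2)) hA) (LS.pow_mem hB 2)

theorem neg_LR : -1 ∈ LR := by
  have hA : gA ∈ LR := Subgroup.subset_closure (by simp)
  have hB : gR ∈ LR := Subgroup.subset_closure (by simp)
  have h : (-1 : M5ˣ) = gA * gR ^ 3 * gA * gR ^ 3 := by
    refine Units.ext ?_
    show (-1 : M5) = mA * mR ^ 3 * mA * mR ^ 3
    decide +kernel
  rw [h]
  exact LR.mul_mem (LR.mul_mem (LR.mul_mem hA (LR.pow_mem hB 3)) hA) (LR.pow_mem hB 3)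

theorem neg_LC : -1 ∈ LC := by
  have hA : gA ∈ LC := Subgroup.subset_closure (by simp)
  have hB : gC ∈ LC := Subgroup.subset_closure (by simp)
  have h : (-1 : M5ˣ) = (gA * gC ^ 2) ^ 3 := by
    refine Units.ext ?_
    show (-1 : M5) = (mA * mC ^ 2) ^ 3
    decide +kernel
  rw [h]
  exact LC.pow_mem (LC.mul_mem hA (LC.pow_mem hB 2)) 3

theorem neg_LB : -1 ∈ LB := by
  have hA : gA ∈ LB := Subgroup.subset_closure (by simp)
  have hB : gB ∈ LB := Subgroup.subset_closure (by simp)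
  have h : (-1 : M5ˣ) = (gA * gB * (gA * gB ^ 3)) ^ 2 := by
    refine Units.ext ?_
    show (-1 : M5) = (mA * mB * (mA * mB ^ 3)) ^ 2
    decide +kernel
  rw [h]
  exact LB.pow_mem (LB.mul_mem (LB.mul_mem hA hB) (LB.mul_mem hA (LB.pow_mem hB 3))) 2

theorem neg_LP : -1 ∈ LP := by
  have hA : gA ∈ LP := Subgroup.subset_closure (by simp)
  have hB : gP ∈ LP := Subgroup.subset_closure (by simp)
  have h : (-1 : M5ˣ) = (gA * gP ^ 3) ^ 2 := by
    refine Units.ext ?_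
    show (-1 : M5) = (mA * mP ^ 3) ^ 2
    decide +kernel
  rw [h]
  exact LP.pow_mem (LP.mul_mem hA (LP.pow_mem hB 3)) 2

theorem h1_LS : gh1 ∈ LS := by
  have hA : gA ∈ LS := Subgroup.subset_closure (by simp)
  have hB : gS ∈ LS := Subgroup.subset_closure (by simp)
  have h : gh1 = gA * gS ^ 4 * (gA ^ 2 * gS ^ 2) := by
    refine Units.ext ?_
    show mh1 = mA * mS ^ 4 * (mA ^ 2 * mS ^ 2)
    decide +kernel
  rw [h]
  exact LS.mul_mem (LS.mul_mem hA (LS.pow_mem hB 4)) (LS.mul_mem (LS.pow_mem hA 2) (LS.pow_mem hB 2))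

theorem h1_LC : gh1 ∈ LC := by
  have hA : gA ∈ LC := Subgroup.subset_closure (by simp)
  have hB : gC ∈ LC := Subgroup.subset_closure (by simp)
  have h : gh1 = gA * gC ^ 2 * (gA ^ 2 * gC) * (gA ^ 3 * gC ^ 2) := by
    refine Units.ext ?_
    show mh1 = mA * mC ^ 2 * (mA ^ 2 * mC) * (mA ^ 3 * mC ^ 2)
    decide +kernel
  rw [h]
  exact LC.mul_mem (LC.mul_mem (LC.mul_mem hA (LC.pow_mem hB 2)) (LC.mul_mem (LC.pow_mem hA 2) hB))
    (LC.mul_mem (LC.pow_mem hA 3) (LC.pow_mem hB 2))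

theorem h1_LB : gh1 ∈ LB := by
  have hA : gA ∈ LB := Subgroup.subset_closure (by simp)
  have hB : gB ∈ LB := Subgroup.subset_closure (by simp)
  have h : gh1 = gA * gB * (gA * gB ^ 2) * (gA ^ 3 * gB ^ 2) * (gA ^ 3 * gB ^ 4) := by
    refine Units.ext ?_
    show mh1 = mA * mB * (mA * mB ^ 2) * (mA ^ 3 * mB ^ 2) * (mA ^ 3 * mB ^ 4)
    decide +kernel
  rw [h]
  exact LB.mul_mem (LB.mul_mem (LB.mul_mem (LB.mul_mem hA hB) (LB.mul_mem hA (LB.pow_mem hB 2)))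
    (LB.mul_mem (LB.pow_mem hA 3) (LB.pow_mem hB 2))) (LB.mul_mem (LB.pow_mem hA 3) (LB.pow_mem hB 4))

/-- the shape of the elements of `LP` -/
def Sh (g : M5) : Prop := g 2 0 = 0 ∧ g 3 0 = 0 ∧ g 2 1 = 0 ∧ g 3 1 = 0

theorem Sh.mul {g h : M5} (hg : Sh g) (hh : Sh h) : Sh (g * h) := by
  obtain ⟨a, b, c, d⟩ := hg
  obtain ⟨a', b', c', d'⟩ := hh
  unfold Sh
  simp only [Matrix.mul_apply, Fin.sum_univ_four, a, b, c, d, a', b', c', d']
  simp

theorem Sh.pow {g : M5} (hg : Sh g) (n : ℕ) : Sh (g ^ n) := by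
  induction n with
  | zero =>
    rw [pow_zero]
    unfold Sh
    decide +kernel
  | succ n ih =>
    rw [pow_succ]
    exact ih.mul hg

theorem sh_LP {g : M5ˣ} (hg : g ∈ LP) : Sh (g : M5) := by
  refine Subgroup.closure_induction (p := fun (g : M5ˣ) _ => Sh (g : M5)) ?_ ?_ ?_ ?_ hg
  · rintro x (rfl | rfl)
    · show Sh mA
      unfold Sh
      decide +kernel
    · show Sh mP
      unfold Sh
      decide +kernel
  · show Sh (1 : M5)
    unfold Sh
    decide +kernel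
  · intro x y _ _ hx hy
    rw [Units.val_mul]
    exact hx.mul hy
  · intro x _ hx
    obtain ⟨n, hn, h⟩ := (isOfFinOrder_of_finite x).exists_pow_eq_one
    have h1 : x⁻¹ = x ^ (n - 1) := by
      rw [inv_eq_iff_mul_eq_one, ← pow_succ', Nat.sub_add_cancel hn, h]
    rw [h1, Units.val_pow_eq_pow_val]
    exact hx.pow _

/-- (M6) -/
theorem stM6 : StM6 :=
  ⟨⟨card_LS, card_LR, card_LC, card_LB, card_LP⟩, ⟨neg_LS, neg_LR, neg_LC, neg_LB, neg_LP⟩, h1_LS, h1_LC, h1_LB,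
    fun _ hg => sh_LP hg⟩

end Cfsg.Agent.H473.Q5
end

-- part: H353/GT/LbFive
section
/-!
# S5211, `q = 5`: `StLb5`

The same argument as in `Lb5.lean` with the three torus elements `(1,-1)`, `(-1,-1)`, `(2,1)` only.
-/

set_option autoImplicit false

namespace Cfsg.Agent.H353.GT

open Cfsg Cfsg.Agent.H779.G2 Cfsg.Agent.H756.PU Cfsg.Agent.H103.GT
seal Cfsg.Agent.H779.G2.GU.instMul Cfsg.Agent.H779.G2.GU.instInv
open Cfsg.Agent.H904.GT (LbH)

universe u

variable {K : Type u} [Field K]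

theorem TorQ.unique {T T' : MulAut (Qb K)} {s t : K} (h : TorQ T s t) (h' : TorQ T' s t) : T = T' := by
  refine MulEquiv.ext fun x => Subtype.ext ?_
  have hb : ((T x : Qb K) : GU K).b = 0 := (T x).2
  have hb' : ((T' x : Qb K) : GU K).b = 0 := (T' x).2
  ext
  · rw [h.a, h'.a]
  · rw [hb, hb']
  · rw [h.c, h'.c]
  · rw [h.d, h'.d]
  · rw [h.e, h'.e]
  · rw [h.f, h'.f]

theorem TorQ.mul {T T' : MulAut (Qb K)} {s t s' t' : K} (h : TorQ T s t) (h' : TorQ T' s' t') :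
    TorQ (T * T') (s * s') (t * t') := by
  constructor
  · intro g; rw [MulAut.mul_apply, h.a, h'.a]; ring
  · intro g; rw [MulAut.mul_apply, h.c, h'.c]; ring
  · intro g; rw [MulAut.mul_apply, h.d, h'.d]; ring
  · intro g; rw [MulAut.mul_apply, h.e, h'.e]; ring
  · intro g; rw [MulAut.mul_apply, h.f, h'.f]; ring

/-- `k` commutes with `tor(s,t)` modulo inner automorphisms -/
def PT (k : MulAut (Qb K)) (s t : K) : Prop :=
  ∀ T : MulAut (Qb K), TorQ T s t → ∃ y : Qb K, k * T = MulAut.conj y * T * k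

theorem torQ_x1 {T : MulAut (Qb K)} {s t : K} (hT : TorQ T s t) (a : K) :
    T ⟨x1 a, x1_mem a⟩ = ⟨x1 (s * a), x1_mem _⟩ := by
  have hb : ((T ⟨x1 a, x1_mem a⟩ : Qb K) : GU K).b = 0 := (T _).2
  apply Subtype.ext
  ext
  · rw [hT.a]; simp [x1]
  · rw [hb]; simp [x1]
  · rw [hT.c]; simp [x1]
  · rw [hT.d]; simp [x1]
  · rw [hT.e]; simp [x1]
  · rw [hT.f]; simp [x1]

theorem torQ_x3 {T : MulAut (Qb K)} {s t : K} (hT : TorQ T s t) (a : K) :
    T ⟨x3 a, Z4_le_Qb (x3_mem a)⟩ = ⟨x3 (s * t * a), Z4_le_Qb (x3_mem _)⟩ := by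
  have hb : ((T ⟨x3 a, Z4_le_Qb (x3_mem a)⟩ : Qb K) : GU K).b = 0 := (T _).2
  apply Subtype.ext
  ext
  · rw [hT.a]; simp [x3]
  · rw [hb]; simp [x3]
  · rw [hT.c]; simp [x3]
  · rw [hT.d]; simp [x3]
  · rw [hT.e]; simp [x3]
  · rw [hT.f]; simp [x3]

section main
variable (h2 : (2 : K) ≠ 0) (h3 : (3 : K) ≠ 0)
include h2 h3

theorem step1' {k : MulAut (Qb K)} (hk : TrivAC k) (hA : PT k 1 (-1)) (hB : PT k (-1) (-1)) :
    ∃ y0 : Qb K, ∀ x : Qb K, (((MulAut.conj y0 * k) x : Qb K) : GU K).d = (x : GU K).d := by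
  have hmul : ∀ x y : Qb K, ((k (x * y) : Qb K) : GU K).d - ((x * y : Qb K) : GU K).d =
      (((k x : Qb K) : GU K).d - (x : GU K).d) + (((k y : Qb K) : GU K).d - (y : GU K).d) := by
    intro x y
    have hb : (x : GU K).b = 0 := x.2
    have hb' : ((k x : Qb K) : GU K).b = 0 := (k x).2
    rw [map_mul, Subgroup.coe_mul, Subgroup.coe_mul, GU.mul_d, GU.mul_d, (hk x).2, (hk y).1, hb, hb']
    ring
  have hm1 : (-1 : K) ≠ 0 := neg_ne_zero.2 one_ne_zero
  obtain ⟨-, T1, -, -, hT1⟩ := exists_torQ (K := K) one_ne_zero hm1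
  obtain ⟨-, T2, -, -, hT2⟩ := exists_torQ (K := K) hm1 hm1
  obtain ⟨u, hu⟩ := hA T1 hT1
  obtain ⟨v, hv⟩ := hB T2 hT2
  have hd1 : ∀ a : K, ((k ⟨x1 a, x1_mem a⟩ : Qb K) : GU K).d = (u : GU K).c * a := by
    intro a
    have e1 : T1 ⟨x1 a, x1_mem a⟩ = ⟨x1 a, x1_mem a⟩ := by rw [torQ_x1 hT1]; simp only [one_mul]
    have e2 : k (T1 ⟨x1 a, x1_mem a⟩) = MulAut.conj u (T1 (k ⟨x1 a, x1_mem a⟩)) := by
      have := congrArg (fun γ : MulAut (Qb K) => γ ⟨x1 a, x1_mem a⟩) hu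
      exact this
    have e3 := congrArg (fun x : Qb K => (x : GU K).d) e2
    simp only [e1] at e3
    rw [cb_d, hT1.d, hT1.c, hT1.a, (hk _).1, (hk _).2] at e3
    simp only [x1] at e3 ⊢
    apply mul_left_cancel₀ h2
    linear_combination e3
  have hd3 : ∀ c : K, ((k ⟨x3 c, Z4_le_Qb (x3_mem c)⟩ : Qb K) : GU K).d = -(v : GU K).a * c := by
    intro a
    have e1 : T2 ⟨x3 a, Z4_le_Qb (x3_mem a)⟩ = ⟨x3 a, Z4_le_Qb (x3_mem a)⟩ := by
      rw [torQ_x3 hT2]; simp only [mul_neg, mul_one, neg_neg, one_mul]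
    have e2 : k (T2 ⟨x3 a, Z4_le_Qb (x3_mem a)⟩) = MulAut.conj v (T2 (k ⟨x3 a, Z4_le_Qb (x3_mem a)⟩)) := by
      have := congrArg (fun γ : MulAut (Qb K) => γ ⟨x3 a, Z4_le_Qb (x3_mem a)⟩) hv
      exact this
    have e3 := congrArg (fun x : Qb K => (x : GU K).d) e2
    simp only [e1] at e3
    rw [cb_d, hT2.d, hT2.c, hT2.a, (hk _).1, (hk _).2] at e3
    simp only [x3] at e3 ⊢
    apply mul_left_cancel₀ h2
    linear_combination e3
  refine ⟨⟨⟨-(v : GU K).a / 2, 0, -(u : GU K).c / 2, 0, 0, 0⟩, rfl⟩, fun x => ?_⟩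
  rw [MulAut.mul_apply, cb_d, (hk x).1, (hk x).2]
  obtain ⟨z, hz, hx⟩ := dec_Qb x
  have h4 := hmul ((⟨x1 (x : GU K).a, x1_mem _⟩ : Qb K) * (⟨x3 (x : GU K).c, Z4_le_Qb (x3_mem _)⟩ : Qb K)) z
  rw [← hx] at h4
  have h5 := hmul (⟨x1 (x : GU K).a, x1_mem _⟩ : Qb K) (⟨x3 (x : GU K).c, Z4_le_Qb (x3_mem _)⟩ : Qb K)
  rw [hd1, hd3] at h5
  rw [map_d h2 h3 hk hz] at h4
  simp only [x1, x3] at h4 h5 ⊢
  field_simp
  linear_combination h4 + h5

omit h2 h3 in
theorem PT.conj {k : MulAut (Qb K)} {s t : K} (h : PT k s t) (y0 : Qb K) : PT (MulAut.conj y0 * k) s t := by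
  intro T hTT
  obtain ⟨y, hy⟩ := h T hTT
  refine ⟨y0 * y * T y0⁻¹, ?_⟩
  have e1 : T * (MulAut.conj y0)⁻¹ = MulAut.conj (T y0⁻¹) * T := by
    refine MulEquiv.ext fun x => ?_
    simp only [MulAut.mul_apply, MulAut.conj_inv_apply, map_mul, map_inv, MulAut.conj_apply, inv_inv]
  have e2 : k = (MulAut.conj y0)⁻¹ * (MulAut.conj y0 * k) := by rw [inv_mul_cancel_left]
  calc MulAut.conj y0 * k * T = MulAut.conj y0 * (k * T) := by rw [mul_assoc]
    _ = MulAut.conj y0 * (MulAut.conj y * T * k) := by rw [hy]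
    _ = MulAut.conj y0 * MulAut.conj y * (T * (MulAut.conj y0)⁻¹) * (MulAut.conj y0 * k) := by group
    _ = MulAut.conj (y0 * y * T y0⁻¹) * T * (MulAut.conj y0 * k) := by rw [e1, map_mul, map_mul]; group

theorem inner_of_comm' {k : MulAut (Qb K)} (hk : TrivAC k) (hA : PT k 1 (-1)) (hB : PT k (-1) (-1)) (hC : PT k 2 1) :
    k ∈ Inn (Qb K) := by
  obtain ⟨y0, hy0⟩ := step1' h2 h3 hk hA hB
  have hA' := hA.conj y0
  have hC' := hC.conj y0
  set k' := MulAut.conj y0 * k with hk'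
  suffices hs : k' ∈ Inn (Qb K) by
    have h1 : k = (MulAut.conj y0)⁻¹ * k' := by rw [hk', inv_mul_cancel_left]
    rw [h1]
    exact (Inn (Qb K)).mul_mem ((Inn (Qb K)).inv_mem ⟨y0, rfl⟩) hs
  have hkk : TrivAC k' := by
    intro e
    rw [hk', MulAut.mul_apply, cb_a, cb_c]
    exact hk e
  clear_value k'
  have hmul_e : ∀ x y : Qb K, ((k' (x * y) : Qb K) : GU K).e - ((x * y : Qb K) : GU K).e =
      (((k' x : Qb K) : GU K).e - (x : GU K).e) + (((k' y : Qb K) : GU K).e - (y : GU K).e) := by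
    intro x y
    have hb : (x : GU K).b = 0 := x.2
    have hb' : ((k' x : Qb K) : GU K).b = 0 := (k' x).2
    rw [map_mul, Subgroup.coe_mul, Subgroup.coe_mul, GU.mul_e, GU.mul_e, (hkk x).2, (hkk y).1, hb, hb', hy0]
    ring
  have hmul_f : ∀ x y : Qb K, ((k' (x * y) : Qb K) : GU K).f - ((x * y : Qb K) : GU K).f =
      (((k' x : Qb K) : GU K).f - (x : GU K).f) + (((k' y : Qb K) : GU K).f - (y : GU K).f) := by
    intro x y
    have hb : (x : GU K).b = 0 := x.2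
    have hb' : ((k' x : Qb K) : GU K).b = 0 := (k' x).2
    have hc : (y : GU K).b = 0 := y.2
    have hc' : ((k' y : Qb K) : GU K).b = 0 := (k' y).2
    rw [map_mul, Subgroup.coe_mul, Subgroup.coe_mul, GU.mul_f, GU.mul_f, (hkk x).2, (hkk y).1, (hkk y).2, hb, hb', hc, hc', hy0]
    ring
  have hZe : ∀ {x : Qb K}, (x : GU K) ∈ Z3 K → ((k' x : Qb K) : GU K).e - (x : GU K).e = 0 := fun {x} hx =>
    hom_Z3 h2 (φ := fun x => ((k' x : Qb K) : GU K).e - (x : GU K).e) hmul_e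
      (fun z hz => by rw [fix_Z2 h2 h3 hkk z hz, sub_self]) hx
  have hZf : ∀ {x : Qb K}, (x : GU K) ∈ Z3 K → ((k' x : Qb K) : GU K).f - (x : GU K).f = 0 := fun {x} hx =>
    hom_Z3 h2 (φ := fun x => ((k' x : Qb K) : GU K).f - (x : GU K).f) hmul_f
      (fun z hz => by rw [fix_Z2 h2 h3 hkk z hz, sub_self]) hx
  -- the torus equations
  have hE : ∀ s t : K, s ≠ 0 → t ≠ 0 → PT k' s t → ∀ T : MulAut (Qb K), TorQ T s t → ∃ η : K, ∀ x : Qb K,
      ((k' (T x) : Qb K) : GU K).e = s ^ 3 * t * ((k' x : Qb K) : GU K).e + 3 * η * (s * (x : GU K).a) ∧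
      ((k' (T x) : Qb K) : GU K).f = s ^ 3 * t ^ 2 * ((k' x : Qb K) : GU K).f + 3 * η * (s * t * (x : GU K).c) := by
    intro s t hs ht hP T hTT
    obtain ⟨y, hy⟩ := hP T hTT
    have hy' : ∀ x, k' (T x) = MulAut.conj y (T (k' x)) := fun x => congrArg (fun γ : MulAut (Qb K) => γ x) hy
    have hd : ∀ x : Qb K, 2 * (y : GU K).c * (s * (x : GU K).a) = 2 * (y : GU K).a * (s * t * (x : GU K).c) := by
      intro x
      have h6 := congrArg (fun x : Qb K => (x : GU K).d) (hy' x)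
      rw [cb_d, hy0, hTT.d, hTT.d, hy0, hTT.a, hTT.c, (hkk x).1, (hkk x).2] at h6
      linear_combination -h6
    have hc0 : (y : GU K).c = 0 := by
      have h6 := hd ⟨x1 1, x1_mem 1⟩
      simp only [x1] at h6
      apply mul_left_cancel₀ (mul_ne_zero h2 hs)
      linear_combination h6
    have ha0 : (y : GU K).a = 0 := by
      have h6 := hd ⟨x3 1, Z4_le_Qb (x3_mem 1)⟩
      simp only [x3] at h6
      apply mul_left_cancel₀ (mul_ne_zero h2 (mul_ne_zero hs ht))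
      linear_combination -h6
    refine ⟨(y : GU K).d, fun x => ⟨?_, ?_⟩⟩
    · rw [hy', cb_e ha0 hc0, hTT.e, hTT.a, (hkk x).1]
    · rw [hy', cb_f ha0 hc0, hTT.f, hTT.c, (hkk x).2]
  have hm1 : (-1 : K) ≠ 0 := neg_ne_zero.2 one_ne_zero
  obtain ⟨-, T1, -, -, hT1⟩ := exists_torQ (K := K) one_ne_zero hm1
  obtain ⟨-, T2, -, -, hT2⟩ := exists_torQ (K := K) h2 one_ne_zero
  obtain ⟨η1, h11⟩ := hE _ _ one_ne_zero hm1 hA' T1 hT1
  obtain ⟨η2, h22⟩ := hE _ _ h2 one_ne_zero hC' T2 hT2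
  -- additivity along the root groups
  have ad1 : ∀ a b : K, (⟨x1 (a + b), x1_mem _⟩ : Qb K) = ⟨x1 a, x1_mem a⟩ * ⟨x1 b, x1_mem b⟩ := by
    intro a b
    apply Subtype.ext
    rw [Subgroup.coe_mul]
    ext <;> simp [x1]
  have ad3 : ∀ a b : K, (⟨x3 (a + b), Z4_le_Qb (x3_mem _)⟩ : Qb K) =
      ⟨x3 a, Z4_le_Qb (x3_mem a)⟩ * ⟨x3 b, Z4_le_Qb (x3_mem b)⟩ := by
    intro a b
    apply Subtype.ext
    rw [Subgroup.coe_mul]
    ext <;> simp [x3]
  have he1 : ∀ a, ((k' ⟨x1 a, x1_mem a⟩ : Qb K) : GU K).e = 3 * (η1 / 2) * a := by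
    intro a
    have h6 := (h11 ⟨x1 a, x1_mem a⟩).1
    rw [torQ_x1 hT1] at h6
    simp only [x1, one_mul] at h6 ⊢
    field_simp
    linear_combination h6
  have hf3 : ∀ a, ((k' ⟨x3 a, Z4_le_Qb (x3_mem a)⟩ : Qb K) : GU K).f = 3 * (η1 / 2) * a := by
    intro a
    have h6 := (h11 ⟨x3 a, Z4_le_Qb (x3_mem a)⟩).2
    rw [torQ_x3 hT1] at h6
    have h7 := hmul_f ⟨x3 a, Z4_le_Qb (x3_mem a)⟩ ⟨x3 (-a), Z4_le_Qb (x3_mem (-a))⟩
    rw [← ad3, show (⟨x3 (a + -a), Z4_le_Qb (x3_mem _)⟩ : Qb K) = 1 from Subtype.ext (by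
      rw [add_neg_cancel]; rfl), map_one] at h7
    simp only [x3, one_mul, neg_mul, Subgroup.coe_one, GU.one_f] at h6 h7 ⊢
    field_simp
    linear_combination -h6 - h7
  have hf1 : ∀ a, ((k' ⟨x1 a, x1_mem a⟩ : Qb K) : GU K).f = 0 := by
    intro a
    have h6 := (h22 ⟨x1 a, x1_mem a⟩).2
    rw [torQ_x1 hT2] at h6
    have h7 := hmul_f ⟨x1 a, x1_mem a⟩ ⟨x1 a, x1_mem a⟩
    rw [← ad1, ← two_mul] at h7
    simp only [x1] at h6 h7 ⊢
    apply mul_left_cancel₀ (mul_ne_zero h2 h3)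
    linear_combination -h6 + h7
  have he3 : ∀ a, ((k' ⟨x3 a, Z4_le_Qb (x3_mem a)⟩ : Qb K) : GU K).e = 0 := by
    intro a
    have h6 := (h22 ⟨x3 a, Z4_le_Qb (x3_mem a)⟩).1
    rw [torQ_x3 hT2] at h6
    have h7 := hmul_e ⟨x3 a, Z4_le_Qb (x3_mem a)⟩ ⟨x3 a, Z4_le_Qb (x3_mem a)⟩
    rw [← ad3, ← two_mul] at h7
    simp only [x3, mul_one] at h6 h7 ⊢
    apply mul_left_cancel₀ (mul_ne_zero h2 h3)
    linear_combination -h6 + h7
  refine ⟨⟨x4 (η1 / 2), Z3_le_Qb (x4_mem _)⟩, MulEquiv.ext fun x => Subtype.ext ?_⟩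
  obtain ⟨z, hz, hx⟩ := dec_Qb x
  have a1 := hmul_e ((⟨x1 (x : GU K).a, x1_mem _⟩ : Qb K) * (⟨x3 (x : GU K).c, Z4_le_Qb (x3_mem _)⟩ : Qb K)) z
  have a2 := hmul_e (⟨x1 (x : GU K).a, x1_mem _⟩ : Qb K) (⟨x3 (x : GU K).c, Z4_le_Qb (x3_mem _)⟩ : Qb K)
  have b1 := hmul_f ((⟨x1 (x : GU K).a, x1_mem _⟩ : Qb K) * (⟨x3 (x : GU K).c, Z4_le_Qb (x3_mem _)⟩ : Qb K)) z
  have b2 := hmul_f (⟨x1 (x : GU K).a, x1_mem _⟩ : Qb K) (⟨x3 (x : GU K).c, Z4_le_Qb (x3_mem _)⟩ : Qb K)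
  rw [← hx, hZe hz] at a1
  rw [← hx, hZf hz] at b1
  rw [he1, he3] at a2
  rw [hf1, hf3] at b2
  have hb : (x : GU K).b = 0 := x.2
  have hb' : ((k' x : Qb K) : GU K).b = 0 := (k' x).2
  have hb'' : ((MulAut.conj (⟨x4 (η1 / 2), Z3_le_Qb (x4_mem _)⟩ : Qb K) x : Qb K) : GU K).b = 0 :=
    (MulAut.conj (⟨x4 (η1 / 2), Z3_le_Qb (x4_mem _)⟩ : Qb K) x).2
  ext
  · rw [cb_a, (hkk x).1]
  · rw [hb', hb'']
  · rw [cb_c, (hkk x).2]
  · rw [cb_d, hy0]; simp only [x4]; ring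
  · rw [cb_e rfl rfl]
    simp only [x1, x3, x4] at a1 a2 ⊢
    linear_combination -a1 - a2
  · rw [cb_f rfl rfl]
    simp only [x1, x3, x4] at b1 b2 ⊢
    linear_combination -b1 - b2

end main

/-- **the Weyl element**, with three torus elements only -/
theorem weyl5' {p n : ℕ} (h : HypG K p n) (h5 : 5 ≤ p) {Γ : Subgroup (MulAut (Qb K))}
    (ker : ∀ γ ∈ Γ, TrivAC γ → γ ∈ Inn (Qb K)) (inn : Inn (Qb K) ≤ Γ)
    (tA : ∀ T : MulAut (Qb K), TorQ T 1 (-1) → T ∈ Γ) (tB : ∀ T : MulAut (Qb K), TorQ T (-1) (-1) → T ∈ Γ)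
    (tC : ∀ T : MulAut (Qb K), TorQ T 2 1 → T ∈ Γ)
    {g : MulAut (Qb K)} (hg : g ∈ Γ)
    (hga : ∀ e : Qb K, ((g e : Qb K) : GU K).a = -(e : GU K).c) (hgc : ∀ e : Qb K, ((g e : Qb K) : GU K).c = (e : GU K).a)
    {w : MulAut (Qb K)} (hw : IsWb w) : w ∈ Γ := by
  have h2 : (2 : K) ≠ 0 := by exact_mod_cast ne_of_le h h5 (m := 2) (by omega) (by omega)
  have h3 : (3 : K) ≠ 0 := by exact_mod_cast ne_of_le h h5 (m := 3) (by omega) (by omega)
  have hm1 : (-1 : K) ≠ 0 := neg_ne_zero.2 one_ne_zero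
  set k := g * w⁻¹ with hk
  have hkac : TrivAC k := by
    intro e
    have e1 : w (w⁻¹ e) = e := MulAut.apply_inv_self _ _ _
    have e2 := hw.a (w⁻¹ e)
    have e3 := hw.c (w⁻¹ e)
    rw [e1] at e2 e3
    refine ⟨?_, ?_⟩
    · show ((g (w⁻¹ e) : Qb K) : GU K).a = _
      rw [hga, e2]
    · show ((g (w⁻¹ e) : Qb K) : GU K).c = _
      rw [hgc, e3]
  have main : ∀ s t : K, s ≠ 0 → t ≠ 0 → (∀ T : MulAut (Qb K), TorQ T s t → T ∈ Γ) →
      (∀ T : MulAut (Qb K), TorQ T (s * t) t⁻¹ → T ∈ Γ) → PT k s t := by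
    intro s t hs ht hΓ hΓ' T hT
    obtain ⟨-, T', -, -, hT'⟩ := exists_torQ (K := K) (mul_ne_zero hs ht) (inv_ne_zero ht)
    have hwT : w * T' = T * w := by
      refine MulEquiv.ext fun x => Subtype.ext ?_
      have hb : ((w (T' x) : Qb K) : GU K).b = 0 := (w (T' x)).2
      have hb' : ((T (w x) : Qb K) : GU K).b = 0 := (T (w x)).2
      rw [MulAut.mul_apply, MulAut.mul_apply]
      ext
      · rw [hw.a, hT'.c, hT.a, hw.a]; field_simp
      · rw [hb, hb']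
      · rw [hw.c, hT'.a, hT.c, hw.c]
      · rw [hw.d, hT'.a, hT'.c, hT'.d, hT.d, hw.d]; field_simp
      · rw [hw.e, hT'.a, hT'.c, hT'.f, hT.e, hw.e]; field_simp
      · rw [hw.f, hT'.a, hT'.c, hT'.e, hT.f, hw.f]; field_simp
    have hT'Γ : T' ∈ Γ := hΓ' T' hT'
    have hTΓ : T ∈ Γ := hΓ T hT
    have hm : k * T * k⁻¹ * T⁻¹ ∈ Γ := by
      have e1 : k * T * k⁻¹ * T⁻¹ = g * T' * g⁻¹ * T⁻¹ := by
        have e2 : T' = w⁻¹ * (T * w) := by rw [← hwT, inv_mul_cancel_left]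
        rw [hk, e2]; group
      rw [e1]
      exact Γ.mul_mem (Γ.mul_mem (Γ.mul_mem hg hT'Γ) (Γ.inv_mem hg)) (Γ.inv_mem hTΓ)
    have hac : TrivAC (k * T * k⁻¹ * T⁻¹) := by
      have e1 : k * T * k⁻¹ * T⁻¹ = k * (T * k⁻¹ * T⁻¹) := by group
      rw [e1]
      exact hkac.mul (TrivAC.conj h2 h3 hkac.inv T)
    obtain ⟨y, hy⟩ := ker _ hm hac
    refine ⟨y, ?_⟩
    rw [hy]; group
  have e1 : (1 : K) * (-1) = -1 := by ring
  have e2 : (-1 : K) * (-1) = 1 := by ring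
  have e3 : (-1 : K)⁻¹ = -1 := by rw [inv_neg, inv_one]
  have hin : k ∈ Inn (Qb K) := by
    apply inner_of_comm' h2 h3 hkac
    · exact main 1 (-1) one_ne_zero hm1 tA (by rw [e1, e3]; exact tB)
    · exact main (-1) (-1) hm1 hm1 tB (by rw [e2, e3]; exact tA)
    · exact main 2 1 h2 one_ne_zero tC (by rw [mul_one, inv_one]; exact tC)
  have e1 : w = k⁻¹ * g := by rw [hk]; group
  rw [e1]
  exact Γ.mul_mem (Γ.inv_mem (inn hin)) hg

theorem hypG5 : HypG (ZMod 5) 5 1 :=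
  ⟨by norm_num, le_rfl, inferInstance, by rw [Nat.card_zmod]; norm_num, ZMod.charP 5⟩

/-- **(Lb5)** -/
theorem stLb5 : Cfsg.Agent.H24.Q5.StLb5 := by
  intro Γ D hp
  refine ⟨(stLb_five hypG5 le_rfl Γ D hp).1, fun hD => ?_⟩
  have hTor := (stLb_five hypG5 le_rfl Γ D hp).1
  have hL : LbH (ZMod 5) 5 1 Γ D :=
    ⟨hypG5, by norm_num, by norm_num, hp, fun γ hγ hac => ker5 hypG5 le_rfl hp.syl hγ hac, stGrp⟩
  obtain ⟨w, hw⟩ := (stGrp hypG5).2.2.2.2.2.1
  refine hL.eq_Gen hw ?_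
  obtain ⟨g, hg, hgw⟩ := hL.exists_g hw
  have hgu : ∀ e : Qb (ZMod 5), Cfsg.Agent.H904.GT.uu ((g e : Qb (ZMod 5)) : GU (ZMod 5)) =
      ((e : GU (ZMod 5)).a, -(e : GU (ZMod 5)).c) := by
    intro e
    rw [← Cfsg.Agent.H904.GT.pi_uu hL.hyp hL.odd g e, hgw, Cfsg.Agent.H904.GT.pi_wb hL.hyp hL.odd hw]
    rfl
  have hm1 : (-1 : ZMod 5) ≠ 0 := by decide
  -- the element `(1,-1)`
  have tA : ∀ T : MulAut (Qb (ZMod 5)), TorQ T 1 (-1) → T ∈ Γ := by
    intro T hT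
    obtain ⟨α, hα⟩ := exists_tor (K := ZMod 5) (RingEquiv.refl _) one_ne_zero hm1
    exact hp.D_res α (hD α hα) T (hT.isR hα)
  have tt : ∀ t : ZMod 5, t ≠ 0 → ∀ T : MulAut (Qb (ZMod 5)), TorQ T t⁻¹ (t ^ 2) → T ∈ Γ := by
    intro t ht T hT
    obtain ⟨α, hα⟩ := exists_tor (K := ZMod 5) (RingEquiv.refl _) (inv_ne_zero ht) (pow_ne_zero 2 ht)
    exact hp.D_res α (hTor t ht α hα) T (hT.isR hα)
  obtain ⟨-, TA, -, -, hTA⟩ := exists_torQ (K := ZMod 5) one_ne_zero hm1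
  refine weyl5' hypG5 le_rfl (fun γ hγ hac => ker5 hypG5 le_rfl hp.syl hγ hac) hL.Inn_le_G tA ?_ ?_ hg
    (fun e => congrArg Prod.snd (hgu e)) (fun e => congrArg Prod.fst (hgu e)) hw
  · intro T hT
    obtain ⟨-, T1, -, -, hT1⟩ := exists_torQ (K := ZMod 5) (s := (-1)⁻¹) (t := (-1) ^ 2) (inv_ne_zero hm1) (by decide)
    have h1 := hT1.mul hTA
    rw [show ((-1 : ZMod 5)⁻¹ * 1 : ZMod 5) = -1 by rw [inv_neg, inv_one, mul_one], show ((-1 : ZMod 5) ^ 2 * (-1) : ZMod 5) = -1 by decide] at h1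
    rw [hT.unique h1]
    exact Γ.mul_mem (tt (-1) (by decide) T1 hT1) (tA TA hTA)
  · intro T hT
    obtain ⟨-, T1, -, -, hT1⟩ := exists_torQ (K := ZMod 5) (s := (3)⁻¹) (t := (3) ^ 2) (inv_ne_zero (by decide)) (by decide)
    have h1 := hT1.mul hTA
    rw [show ((3 : ZMod 5)⁻¹ * 1 : ZMod 5) = 2 by
      rw [mul_one]; exact inv_eq_of_mul_eq_one_right (by decide), show ((3 : ZMod 5) ^ 2 * (-1) : ZMod 5) = 1 by decide] at h1
    rw [hT.unique h1]
    exact Γ.mul_mem (tt 3 (by decide) T1 hT1) (tA TA hTA)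

end Cfsg.Agent.H353.GT
end

-- part: H103/GT/Good5
section
/-!
# S5211, `q = 5`: `StGood` (helper103)

A core-free saturated fusion system over `U5` is, after a twist by an automorphism of `U5`, `Good`.
-/

set_option autoImplicit false

namespace Cfsg.Agent.H103.GT

open Cfsg Cfsg.FusionSystem Cfsg.Agent.H779.G2 Cfsg.Agent.H756.PU Cfsg.Agent.H802 Cfsg.Agent.H759 Cfsg.Agent.H24.Q5
seal Cfsg.Agent.H779.G2.GU.instMul Cfsg.Agent.H779.G2.GU.instInv

universe u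

/-- the inverse of a push along an automorphism -/
theorem push_symm {G0 : Type u} [Group G0] {F F' : FusionSystem (⊤ : Subgroup G0)} {θ ρ : MulAut G0} (hρ : ρ * θ = 1)
    (h1 : Function.Injective ρ.toMonoidHom) (h2 : Function.Injective θ.toMonoidHom) (h : IsPush h1 F' F) :
    IsPush h2 F F' := by
  have key : ∀ (P Q : Subgroup G0) (φ : P →* G0) (ψ : Q →* G0), Q = P →
      (∀ (x : G0) (hx : x ∈ P) (hx' : x ∈ Q), φ ⟨x, hx⟩ = ψ ⟨x, hx'⟩) → (φ ∈ F.Hom P ↔ ψ ∈ F.Hom Q) := by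
    rintro P Q φ ψ rfl he
    have : φ = ψ := MonoidHom.ext fun x => he x x.2 x.2
    rw [this]
  have hap : ∀ x : G0, ρ.toMonoidHom (θ.toMonoidHom x) = x := fun x => by
    show (ρ * θ) x = x
    rw [hρ]; rfl
  refine ⟨(Subgroup.map_top_of_surjective _ θ.surjective).symm, fun P φ => ?_⟩
  rw [← h.hom (P.map θ.toMonoidHom) (cb h2 φ)]
  refine (key P _ φ _ ?_ ?_).symm
  · rw [Subgroup.map_map]
    have : ρ.toMonoidHom.comp θ.toMonoidHom = MonoidHom.id _ := MonoidHom.ext hap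
    rw [this, Subgroup.map_id]
  · intro x hx hx'
    have e1 : (⟨x, hx'⟩ : ↥((P.map θ.toMonoidHom).map ρ.toMonoidHom)) =
        eqv h1 (P.map θ.toMonoidHom) (eqv h2 P ⟨x, hx⟩) := by
      apply Subtype.ext
      rw [coe_eqv, coe_eqv]
      exact (hap x).symm
    rw [e1, cb_eqv, cb_eqv, hap]

/-- twisting, keeping `O_p(F) = 1`, with the automizers -/
theorem twist_full {G0 : Type u} [Group G0] [Finite G0] {p : ℕ} [Fact p.Prime] (F : FusionSystem (⊤ : Subgroup G0))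
    (θ : MulAut G0) (hF : F.IsSaturated p) (hcore : F.core = ⊥) :
    ∃ F' : FusionSystem (⊤ : Subgroup G0), F'.IsSaturated p ∧ F'.core = ⊥ ∧ (F'.IsRealizable p ↔ F.IsRealizable p) ∧
      AF F' = (AF F).map (MulAut.conj θ).toMonoidHom ∧
      (∀ E : Subgroup G0, F.IsEssential p E ↔ F'.IsEssential p (E.map θ.toMonoidHom)) ∧
      ∀ P : Subgroup G0, P.map (θ⁻¹ : MulAut G0).toMonoidHom = P →
        Nat.card (F'.autGroup P) = Nat.card (F.autGroup P) := by
  have hinj : Function.Injective (θ⁻¹ : MulAut G0).toMonoidHom := (θ⁻¹ : MulAut G0).injective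
  have htop : (⊤ : Subgroup G0) = (⊤ : Subgroup G0).map (θ⁻¹ : MulAut G0).toMonoidHom :=
    (Subgroup.map_top_of_surjective _ (θ⁻¹ : MulAut G0).surjective).symm
  obtain ⟨F', hF'⟩ := Cfsg.Agent.H759.exists_pull' (hf := hinj) htop F
  refine ⟨F', hF'.isSaturated_iff.1 hF, ?_, ⟨Cfsg.Agent.H776.Co.isRealizable_push hF', ?_⟩, ?_, fun E => ?_, ?_⟩
  · have h1 := hF'.core_eq
    rw [hcore] at h1
    exact (Subgroup.map_eq_bot_iff_of_injective _ hinj).1 h1.symm
  · have hθ : Function.Injective θ.toMonoidHom := θ.injective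
    exact Cfsg.Agent.H776.Co.isRealizable_push (push_symm (inv_mul_cancel θ) hinj hθ hF')
  · rw [Cfsg.Agent.H805.PU.AF_push hF', Subgroup.map_map]
    have : (MulAut.conj θ).toMonoidHom.comp (MulAut.conj θ⁻¹).toMonoidHom = MonoidHom.id _ := by
      ext x
      simp only [MulAut.conj_apply, mul_assoc, _root_.MulEquiv.toMonoidHom_eq_coe, _root_.map_inv, _root_.MonoidHom.coe_comp, _root_.MonoidHom.coe_coe, _root_.MulAut.coe_inv, _root_.Function.comp_apply, _root_.MulAut.conj_symm_apply, _root_.mul_inv_cancel_left, _root_.mul_inv_cancel, _root_.mul_one, _root_.MonoidHom.id_apply]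
    rw [this, Subgroup.map_id]
  · rw [← Cfsg.Agent.H805.PU.isEssential_iff hF', Subgroup.map_map]
    have : (θ⁻¹ : MulAut G0).toMonoidHom.comp θ.toMonoidHom = MonoidHom.id _ := by
      ext x
      show θ⁻¹ (θ x) = x
      exact MulAut.inv_apply_self _ _ _
    rw [this, Subgroup.map_id]
  · intro P hP
    obtain ⟨e, -⟩ := Cfsg.Agent.H805.PU.exists_autEquiv hF' P
    rw [hP] at e
    exact Nat.card_congr e.toEquiv

/-- (GOOD) -/
theorem stGood_of (H : Pieces.{0}) : StGood := by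
  intro F hF hcore
  have hK : HypG (ZMod 5) 5 1 := ⟨by norm_num, le_rfl, inferInstance, by simp, inferInstance⟩
  have hq2 : 2 < 5 ^ 1 := by norm_num
  have h7 : ¬ ((5 : ℕ) = 7 ∧ 1 = 1) := by norm_num
  have h3 : (5 : ℕ) ≠ 3 := by norm_num
  have h2 : (5 : ℕ) ≠ 2 := by norm_num
  have hfin : Finite (GU (ZMod 5)) := finite_GU hK
  have hS := isP hK
  have hess : ∀ (F : FusionSystem (⊤ : Subgroup U5)), F.IsSaturated 5 → ∀ E, F.IsEssential 5 E →
    E = Qa (ZMod 5) ∨ E = Qb (ZMod 5) := fun F hF E hE => ess_cases H hK hq2 h7 hF hE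
  have hmap : ∀ Q : Subgroup U5, (Q = Qa (ZMod 5) ∨ Q = Qb (ZMod 5)) → ∀ α : MulAut U5, Q.map α.toMonoidHom = Q :=
    fun Q hQ => (H.ti hK hq2 Q hQ).2.2.2.1 h3
  -- both are essential
  have both : ∀ (F : FusionSystem (⊤ : Subgroup U5)), F.IsSaturated 5 → F.core = ⊥ →
      ∀ Q : Subgroup U5, (Q = Qa (ZMod 5) ∨ Q = Qb (ZMod 5)) → F.IsEssential 5 Q := by
    intro F hF hcore Q hQ
    by_contra hne
    obtain ⟨Q', hQ', hu⟩ : ∃ Q' : Subgroup U5, (Q' = Qa (ZMod 5) ∨ Q' = Qb (ZMod 5)) ∧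
        ∀ E, F.IsEssential 5 E → E = Q' ∨ E = Q' := by
      rcases hQ with rfl | rfl
      · exact ⟨_, Or.inr rfl, fun E hE => Or.inl ((hess F hF E hE).resolve_left (by rintro rfl; exact hne hE))⟩
      · exact ⟨_, Or.inl rfl, fun E hE => Or.inl ((hess F hF E hE).resolve_right (by rintro rfl; exact hne hE))⟩
    have hne' : Q' ≠ ⊥ := by
      intro h
      have hx : x6 (1 : ZMod 5) ∈ Q' := by
        rcases hQ' with rfl | rfl
        · exact Z2_le_Qa (Z1_le_Z2 (x6_mem 1))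
        · exact Z2_le_Qb (Z1_le_Z2 (x6_mem 1))
      rw [h] at hx
      have h2 := congrArg GU.f (Subgroup.mem_bot.1 hx)
      simp only [x6, _root_.Cfsg.Agent.H779.G2.GU.one_f, _root_.one_ne_zero] at h2
    refine core_contra hS hF hcore hu hne' ⟨le_rfl, fun γ _ e _ => (γ e).2⟩ ⟨le_rfl, fun γ _ e _ => (γ e).2⟩
      ⟨le_top, fun γ hγ e he => ?_⟩
    have h1 : (MulAut.congr Subgroup.topEquiv γ) (e : U5) ∈
        Q'.map (MulAut.congr Subgroup.topEquiv γ : MulAut U5).toMonoidHom := ⟨_, he, rfl⟩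
    rw [hmap Q' hQ'] at h1
    exact h1
  obtain ⟨D0, hD0, hD0e⟩ := Cfsg.Agent.H805.PU.stCompl F hS hF
  obtain ⟨θ, hθ⟩ := H.pos hK hq2 D0 hD0
  obtain ⟨F', hF', hcore', hR, hAF', hess', hcard⟩ := twist_full F θ hF hcore
  have hAF : AF F' = (MulAut.conj : U5 →* MulAut U5).range ⊔ D0.map (MulAut.conj θ).toMonoidHom := by
    rw [hAF', ← hD0e, Subgroup.map_sup, map_conj_range]
  have hD : D0.map (MulAut.conj θ).toMonoidHom ≤ TT (ZMod 5) := by
    rintro _ ⟨d, hd, rfl⟩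
    exact hθ d hd
  have hDc : (Nat.card (D0.map (MulAut.conj θ).toMonoidHom)).Coprime 5 := by
    have : Nat.card (D0.map (MulAut.conj θ).toMonoidHom) = Nat.card D0 :=
      (Nat.card_congr (D0.equivMapOfInjective _ (MulAut.conj θ).injective).toEquiv).symm
    rwa [this]
  refine ⟨F', D0.map (MulAut.conj θ).toMonoidHom, ⟨hF', hess F' hF', hAF, ?_, ?_, ?_, ?_⟩, hR,
    hcard A5 (hmap _ (Or.inl rfl) _)⟩
  · exact par_of hK hF' (Or.inl rfl) (norm_of_ess hK hF' (both F' hF' hcore' _ (Or.inl rfl))) hD hDc hAF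
  · exact par_of hK hF' (Or.inr rfl) (norm_of_ess hK hF' (both F' hF' hcore' _ (Or.inr rfl))) hD hDc hAF
  · exact not_inv_Z2 H.ti hK hq2 h3 hF' hcore' (hess F' hF')
  · exact not_inv_Z3 H.ti hK hq2 h2 h3 hF' hcore' (hess F' hF')

end Cfsg.Agent.H103.GT
end

-- part: H913/Q5/LocG2
section
/-!
# S5211, block q = 5: the local data of `G₂(5)`
-/

set_option autoImplicit false

namespace Cfsg.Agent.H913.Q5

open Cfsg Cfsg.Agent.H24.Q5 Cfsg.Agent.H779.G2
seal Cfsg.Agent.H779.G2.GU.instMul Cfsg.Agent.H779.G2.GU.instInv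

/-- the hypotheses on the field -/
theorem hyp5 : HypG (ZMod 5) 5 1 where
  pp := by norm_num
  hn := le_rfl
  fin := inferInstance
  card := by rw [Nat.card_zmod, pow_one]
  char := inferInstance

theorem isPGroup_U5 : IsPGroup 5 U5 := IsPGroup.of_card card_U5

/-- the Sylow 5-subgroup -/
noncomputable def T0 : Sylow 5 (Cfsg.Lie.G2 (ZMod 5)) :=
  IsPGroup.toSylow (P := (GT.emb : U5 →* Cfsg.Lie.G2 (ZMod 5)).range)
    (isPGroup_U5.of_surjective (GT.emb : U5 →* Cfsg.Lie.G2 (ZMod 5)).rangeRestrict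
      (MonoidHom.rangeRestrict_surjective _)) (GT.not_dvd_index hyp5)

/-- the isomorphism with `U5` -/
noncomputable def e0 : (T0 : Subgroup (Cfsg.Lie.G2 (ZMod 5))) ≃* U5 :=
  (MonoidHom.ofInjective (f := (GT.emb : U5 →* Cfsg.Lie.G2 (ZMod 5))) GT.emb_injective).symm

theorem coe_e0_symm (u : U5) : ((e0.symm u : (T0 : Subgroup (Cfsg.Lie.G2 (ZMod 5)))) : Cfsg.Lie.G2 (ZMod 5)) = GT.emb u :=
  rfl

theorem eq_emb (x : (T0 : Subgroup (Cfsg.Lie.G2 (ZMod 5)))) : (x : Cfsg.Lie.G2 (ZMod 5)) = GT.emb (e0 x) := by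
  rw [← coe_e0_symm, e0.symm_apply_apply]

/-- the local data of `G₂(5)` -/
theorem loc_T0 : Loc (Cfsg.Lie.G2 (ZMod 5)) T0 e0 := by
  obtain ⟨γ, hγ⟩ := H103.GT.exists_wa (K := ZMod 5)
  obtain ⟨δ, hδ⟩ := H103.GT.exists_wb (K := ZMod 5)
  have ha : ∀ x : (T0 : Subgroup (Cfsg.Lie.G2 (ZMod 5))), e0 x ∈ A5 →
      ∃ y : (T0 : Subgroup (Cfsg.Lie.G2 (ZMod 5))), (y : Cfsg.Lie.G2 (ZMod 5)) =
        GT.na * (x : Cfsg.Lie.G2 (ZMod 5)) * (GT.na)⁻¹ ∧ e0 y ∈ A5 := by
    intro x hx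
    refine ⟨e0.symm ((γ ⟨e0 x, hx⟩ : A5) : U5), ?_, ?_⟩
    · rw [coe_e0_symm, ← GT.na_emb hγ, eq_emb x]
    · rw [e0.apply_symm_apply]
      exact (γ ⟨e0 x, hx⟩).2
  have hu : (⟨0, 0, 0, 0, 1, 0⟩ : U5) ∈ A5 := rfl
  have hg : ((γ ⟨(⟨0, 0, 0, 0, 1, 0⟩ : U5), hu⟩ : A5) : U5).b = 1 := hγ.b _
  have hxy : ((e0.symm ((γ ⟨(⟨0, 0, 0, 0, 1, 0⟩ : U5), hu⟩ : A5) : U5) : (T0 : Subgroup (Cfsg.Lie.G2 (ZMod 5)))) :
      Cfsg.Lie.G2 (ZMod 5)) = GT.na * ((e0.symm (⟨0, 0, 0, 0, 1, 0⟩ : U5) :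
        (T0 : Subgroup (Cfsg.Lie.G2 (ZMod 5)))) : Cfsg.Lie.G2 (ZMod 5)) * (GT.na)⁻¹ := by
    rw [coe_e0_symm, coe_e0_symm, ← GT.na_emb hγ]
  refine ⟨⟨GT.na, ha, _, _, ?_, hxy, ?_⟩, ⟨GT.na, ha, _, _, ?_, hxy, ?_⟩, ⟨GT.nb,
    e0.symm (⟨0, 0, 0, 0, 0, 1⟩ : U5), e0.symm ((δ ⟨(⟨0, 0, 0, 0, 0, 1⟩ : U5), rfl⟩ : B5) : U5), ?_, ?_, ?_⟩⟩
  · rw [e0.apply_symm_apply]
    exact ⟨rfl, rfl, rfl, rfl⟩
  · rw [e0.apply_symm_apply]
    rintro ⟨-, h, -⟩
    rw [hg] at h
    exact one_ne_zero h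
  · rw [e0.apply_symm_apply]
    exact ⟨rfl, rfl, rfl⟩
  · rw [e0.apply_symm_apply]
    rintro ⟨-, h, -⟩
    rw [hg] at h
    exact one_ne_zero h
  · rw [e0.apply_symm_apply]
    exact ⟨rfl, rfl, rfl, rfl, rfl⟩
  · rw [coe_e0_symm, coe_e0_symm, ← GT.nb_emb hδ]
  · rw [e0.apply_symm_apply]
    rintro ⟨-, -, -, -, h⟩
    have h1 := hδ.e ⟨(⟨0, 0, 0, 0, 0, 1⟩ : U5), rfl⟩
    rw [h] at h1
    revert h1
    decide

end Cfsg.Agent.H913.Q5
end

-- part: H35/Q5/LyNine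
section
/-!
# S5211, block `q = 5`, row `Ly` (helper35): `720 ∣ |N(E)/C(E)|`

`F : LyFive L`: the part `2.A₆` of `C(t) = 2.A₁₁` on the six points fixed by the 5-cycle `f` centralizes `f`, normalizes `E` and
acts faithfully on `E`.
-/

set_option autoImplicit false

namespace Cfsg.Agent.H35.Q5

open Subgroup Equiv Cfsg Cfsg.Agent.SporRec.TwoAn Cfsg.Agent.SporRec.LyType Cfsg.Agent.SporRec.LyFive

/-- a normal subgroup of a double cover of a simple alternating group not containing `z` is trivial -/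
theorem Cover.eq_bot {α : Type*} [Fintype α] [DecidableEq α] {C : Type*} [Group C] (K : Cover α C) (h5 : 5 ≤ Fintype.card α)
    {N : Subgroup C} (hN : N.Normal) (hz : K.z ∉ N) : N = ⊥ := by
  have hs : IsSimpleGroup ↥(alternatingGroup α) := alternatingGroup.isSimpleGroup (by rwa [Nat.card_eq_fintype_card])
  let φ : C →* ↥(alternatingGroup α) := K.π.codRestrict (alternatingGroup α) K.mem_alternating
  have hφ : Function.Surjective φ := by
    intro σ
    obtain ⟨g, hg⟩ := K.exists_lift σ.2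
    exact ⟨g, Subtype.ext hg⟩
  rcases hs.eq_bot_or_eq_top_of_normal (N.map φ) (hN.map φ hφ) with h | h
  · rw [eq_bot_iff]
    intro n hn
    have h1 : φ n ∈ N.map φ := mem_map_of_mem φ hn
    rw [h, mem_bot] at h1
    have h2 : K.π n = 1 := congrArg Subtype.val h1
    rcases (K.ker n).1 h2 with h3 | h3
    · rw [h3]; exact one_mem _
    · rw [h3] at hn; exact absurd hn hz
  · exfalso
    obtain ⟨e⟩ : Nonempty (Fin 4 ↪ α) := Function.Embedding.nonempty_of_card_le (by rw [Fintype.card_fin]; omega)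
    have hne : ∀ {i j : Fin 4}, i ≠ j → e i ≠ e j := fun h h' => h (e.injective h')
    have h1 : (⟨swap (e 0) (e 1) * swap (e 2) (e 3), Cover.swap_mul_swap_mem _ _ _ _ (hne (by decide)) (hne (by decide))⟩ :
        ↥(alternatingGroup α)) ∈ N.map φ := by
      rw [h]; trivial
    obtain ⟨n, hn, hne'⟩ := h1
    have h2 : K.π n = swap (e 0) (e 1) * swap (e 2) (e 3) := congrArg Subtype.val hne'
    have h3 := K.dbl (e 0) (e 1) (e 2) (e 3) (hne (by decide)) (hne (by decide)) (hne (by decide)) (hne (by decide))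
      (hne (by decide)) (hne (by decide)) n h2
    exact hz (h3 ▸ mul_mem hn hn)

theorem Cover.card {α : Type*} [Fintype α] [DecidableEq α] {C : Type*} [Group C] [Finite C] (K : Cover α C)
    (h2 : 2 ≤ Fintype.card α) : Nat.card C = (Fintype.card α).factorial := by
  let φ : C →* ↥(alternatingGroup α) := K.π.codRestrict (alternatingGroup α) K.mem_alternating
  have hφ : Function.Surjective φ := by
    intro σ
    obtain ⟨g, hg⟩ := K.exists_lift σ.2
    exact ⟨g, Subtype.ext hg⟩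
  have hker : φ.ker = zpowers K.z := by
    ext g
    rw [MonoidHom.mem_ker]
    constructor
    · intro h
      have h2 : K.π g = 1 := congrArg Subtype.val h
      rcases (K.ker g).1 h2 with h3 | h3
      · rw [h3]; exact one_mem _
      · rw [h3]; exact mem_zpowers _
    · rintro ⟨k, rfl⟩
      show φ (K.z ^ k) = 1
      rw [map_zpow]
      have : φ K.z = 1 := Subtype.ext K.π_z
      rw [this, one_zpow]
  have h1 := Subgroup.card_eq_card_quotient_mul_card_subgroup φ.ker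
  rw [Nat.card_congr (QuotientGroup.quotientKerEquivOfSurjective φ hφ).toEquiv, hker, Nat.card_zpowers, K.orderOf_z] at h1
  have : Nontrivial α := Fintype.one_lt_card_iff_nontrivial.1 (by omega)
  rw [h1, mul_comm, Nat.card_eq_fintype_card, two_mul_card_alternatingGroup, Fintype.card_perm]

variable {G : Type*} [Group G] [Finite G] {L : LyType G}

theorem t_not_central (F : LyFive L) : ¬ ∀ e ∈ F.E, e * L.t = L.t * e := by
  intro h
  have h1 : F.E ≤ zpowers F.f := fun e he => F.cent_t e he (h e he)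
  have h2 := Subgroup.card_le_of_le h1
  rw [F.card_E, Nat.card_zpowers] at h2
  have h3 : orderOf F.f ≤ 5 := Nat.le_of_dvd (by norm_num) (orderOf_dvd_of_pow_eq_one F.f_pow)
  omega

/-- **`2.A₆` acts faithfully on `E`** -/
theorem dvd_relIndex (F : LyFive L) : 720 ∣ (centralizer (F.E : Set G)).relIndex (normalizer (F.E : Set G)) := by
  classical
  let f' : ↥(centralizer ({L.t} : Set G)) := ⟨F.f, L.mem_iff.2 F.f_comm⟩
  let p : Fin 11 → Prop := fun x => L.K.π f' x = x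
  have hcard : Fintype.card (Subtype p) = 6 := by
    have h1 : (L.K.π f').support.card = 5 := by
      rw [← Perm.sum_cycleType, F.f_cycle]
      rfl
    have h2 : Fintype.card {x // ¬ p x} = 5 := by
      rw [Fintype.card_subtype]
      exact h1
    have h3 : Fintype.card (Subtype p) + Fintype.card {x // ¬ p x} = 11 := by
      rw [← Fintype.card_sum, Fintype.card_congr (Equiv.sumCompl p), Fintype.card_fin]
    omega
  have hK := L.K.restrict p
  have hKz : ((L.K.restrict p).z : ↥(centralizer ({L.t} : Set G))) = L.K.z := rfl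
  have hcomm : ∀ g : L.K.sub p, ((g : ↥(centralizer ({L.t} : Set G))) : G) * F.f = F.f * (g : ↥(centralizer ({L.t} : Set G))) := by
    intro g
    have h1 : (g : ↥(centralizer ({L.t} : Set G))) * f' = f' * g := by
      refine L.K.commute_of_disjoint fun x => ?_
      by_cases hx : p x
      · exact Or.inr hx
      · exact Or.inl (g.2 x hx)
    exact congrArg Subtype.val h1
  have hnorm : ∀ g : L.K.sub p, ((g : ↥(centralizer ({L.t} : Set G))) : G) ∈ normalizer (F.E : Set G) := by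
    have key : ∀ g : L.K.sub p, ∀ e ∈ F.E, ((g : ↥(centralizer ({L.t} : Set G))) : G) * e *
        ((g : ↥(centralizer ({L.t} : Set G))) : G)⁻¹ ∈ F.E := by
      intro g
      refine F.norm_E _ ?_
      rw [hcomm g, mul_inv_cancel_right]
      exact mem_zpowers _
    intro g
    rw [mem_normalizer_iff]
    intro e
    refine ⟨key g e, fun he => ?_⟩
    have h1 := key g⁻¹ _ he
    have h2 : ((g⁻¹ : L.K.sub p) : ↥(centralizer ({L.t} : Set G))) = ((g : ↥(centralizer ({L.t} : Set G))))⁻¹ := rfl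
    rw [h2, Subgroup.coe_inv] at h1
    have h3 : (((g : ↥(centralizer ({L.t} : Set G))) : G))⁻¹ * (((g : ↥(centralizer ({L.t} : Set G))) : G) * e *
        (((g : ↥(centralizer ({L.t} : Set G))) : G))⁻¹) * ((((g : ↥(centralizer ({L.t} : Set G))) : G))⁻¹)⁻¹ = e := by group
    rwa [h3] at h1
  -- the homomorphism into the quotient
  have hCn : ((centralizer (F.E : Set G)).subgroupOf (normalizer (F.E : Set G))).Normal := by
    refine ⟨fun c hc n => ?_⟩
    rw [mem_subgroupOf] at hc ⊢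
    rw [mem_centralizer_iff] at hc ⊢
    intro e he
    have hn := (mem_normalizer_iff.1 ((normalizer (F.E : Set G)).inv_mem n.2) e).1 he
    rw [inv_inv] at hn
    have h1 := hc _ hn
    show e * ((n : G) * c * (n : G)⁻¹) = (n : G) * c * (n : G)⁻¹ * e
    calc e * ((n : G) * c * (n : G)⁻¹) = (n : G) * (((n : G)⁻¹ * e * n) * c) * (n : G)⁻¹ := by group
      _ = (n : G) * (c * ((n : G)⁻¹ * e * n)) * (n : G)⁻¹ := by rw [h1]
      _ = (n : G) * c * (n : G)⁻¹ * e := by group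
  let ψ : L.K.sub p →* ↥(normalizer (F.E : Set G)) :=
    ((centralizer ({L.t} : Set G)).subtype.comp (L.K.sub p).subtype).codRestrict (normalizer (F.E : Set G)) hnorm
  let χ := (QuotientGroup.mk' ((centralizer (F.E : Set G)).subgroupOf (normalizer (F.E : Set G)))).comp ψ
  have hinj : Function.Injective χ := by
    rw [← MonoidHom.ker_eq_bot_iff]
    refine Cover.eq_bot (L.K.restrict p) (by rw [hcard]; norm_num) inferInstance fun hz => t_not_central F ?_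
    rw [MonoidHom.mem_ker] at hz
    have h1 := (QuotientGroup.eq_one_iff _).1 hz
    rw [mem_subgroupOf, mem_centralizer_iff] at h1
    intro e he
    have h2 := h1 e he
    have h3 : ((ψ (L.K.restrict p).z : ↥(normalizer (F.E : Set G))) : G) = L.t := L.hz
    rw [h3] at h2
    exact h2
  have h1 := Subgroup.card_dvd_of_injective χ hinj
  rw [Cover.card (L.K.restrict p) (by rw [hcard]; norm_num), hcard] at h1
  exact h1

theorem nine_dvd (F : LyFive L) : 9 ∣ (centralizer (F.E : Set G)).relIndex (normalizer (F.E : Set G)) :=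
  Dvd.dvd.trans (by norm_num) (dvd_relIndex F)

end Cfsg.Agent.H35.Q5
end

-- part: H913/Q5/RowLy
section
/-!
# S5211, block q = 5: the row of the Lyons group
-/

set_option autoImplicit false

namespace Cfsg.Agent.H913.Q5

open Cfsg Cfsg.Agent.H24.Q5 Cfsg.Agent.H779.G2 Cfsg.Agent.SporRec.LyType Cfsg.Agent.SporRec.LyFive
seal Cfsg.Agent.H779.G2.GU.instMul Cfsg.Agent.H779.G2.GU.instInv

/-- a 5-subgroup of order `5⁵` with commutators in a group of order 5, in terms of `U5` -/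
theorem QG_eq (hA : ∀ (M : Subgroup U5), M.index = 5 → ∀ z : U5, z ^ 5 = 1 →
      (∀ x ∈ M, ∀ y ∈ M, x * y * x⁻¹ * y⁻¹ ∈ Subgroup.zpowers z) → M = A5)
    {G : Type} [Group G] [Finite G] {T : Sylow 5 G} {e : (T : Subgroup G) ≃* U5} {E : Subgroup G} {f : G}
    (hE : Nat.card E = 3125) (hET : E ≤ (T : Subgroup G)) (hf : f ^ 5 = 1) (hfE : f ∈ E)
    (hc : ∀ x ∈ E, ∀ y ∈ E, x * y * x⁻¹ * y⁻¹ ∈ Subgroup.zpowers f) : QG T e = E := by
  have hmem : ∀ u : U5, u ∈ (E.subgroupOf (T : Subgroup G)).map e.toMonoidHom ↔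
      ((e.symm u : (T : Subgroup G)) : G) ∈ E := by
    intro u
    rw [Subgroup.mem_map_equiv, Subgroup.mem_subgroupOf]
  have hcard : Nat.card ((E.subgroupOf (T : Subgroup G)).map e.toMonoidHom) = 3125 := by
    rw [Subgroup.card_map_of_injective e.injective, Nat.card_congr (Subgroup.subgroupOfEquivOfLe hET).toEquiv, hE]
  have hM : (E.subgroupOf (T : Subgroup G)).map e.toMonoidHom = A5 := by
    apply hA _ _ (e ⟨f, hET hfE⟩)
    · rw [← map_pow, show (⟨f, hET hfE⟩ : (T : Subgroup G)) ^ 5 = 1 from Subtype.ext hf, map_one]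
    · intro x hx y hy
      rw [hmem] at hx hy
      obtain ⟨k, hk⟩ := hc _ hx _ hy
      refine ⟨k, ?_⟩
      show (e ⟨f, hET hfE⟩) ^ k = _
      rw [← map_zpow]
      apply e.symm.injective
      rw [MulEquiv.symm_apply_apply]
      apply Subtype.ext
      rw [map_mul, map_mul, map_mul, map_inv, map_inv]
      exact hk
    · have h := ((E.subgroupOf (T : Subgroup G)).map e.toMonoidHom).card_mul_index
      rw [hcard, card_U5] at h
      omega
  ext g
  rw [mem_QG, ← hM]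
  constructor
  · rintro ⟨x, hx, rfl⟩
    rw [hmem, e.symm_apply_apply] at hx
    exact hx
  · intro hg
    refine ⟨⟨g, hET hg⟩, ?_, rfl⟩
    rw [hmem, e.symm_apply_apply]
    exact hg

theorem exists_hom_ly : ∃ j : Cfsg.Lie.G2 (ZMod 5) →* Cfsg.Spor.Ly, Function.Injective j := by
  obtain ⟨e⟩ := H638.G2Iso.equiv (F := ZMod 5)
  refine ⟨SporRec.LyG2.LyEmb.η.comp (SporRec.LyG2.G14.equivChev.symm.toMonoidHom.comp e.toMonoidHom), ?_⟩
  intro x y h
  exact e.injective (SporRec.LyG2.G14.equivChev.symm.injective (SporRec.LyG2.LyEmb.η_injective h))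

/-- **Row `Ly`**, from the uniqueness of `Q_a` -/
theorem stRowLy_of (hA : ∀ (M : Subgroup U5), M.index = 5 → ∀ z : U5, z ^ 5 = 1 →
      (∀ x ∈ M, ∀ y ∈ M, x * y * x⁻¹ * y⁻¹ ∈ Subgroup.zpowers z) → M = A5) : StRowLy := by
  have hfin : Finite Cfsg.Spor.Ly := Cfsg.Agent.Ly.Setup.finite_ly
  obtain ⟨j, hj⟩ := exists_hom_ly
  obtain ⟨T, e, -, -, hloc, -, -⟩ := loc_push j hj (by rw [Cfsg.Agent.Ly.Setup.card_ly]; norm_num) loc_T0
  obtain ⟨M⟩ := TypeM.FactsLy.exists_mt_ly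
  let L : LyType Cfsg.Spor.Ly := { t := M.t, K := M.K, hz := M.hz, one := M.one }
  obtain ⟨f, hf⟩ := SporRec.LyFiveFinal.exists_five L
  obtain ⟨-, F, -, -⟩ := SporRec.LyFiveFinal.exists_lyFive hf
  have hE : IsPGroup 5 F.E := IsPGroup.of_card (n := 5) (by rw [F.card_E]; norm_num)
  obtain ⟨T', hT'⟩ := hE.exists_le_sylow
  obtain ⟨g, hg⟩ := MulAction.exists_smul_eq Cfsg.Spor.Ly T' T
  have hle : F.E.map (MulAut.conj g).toMonoidHom ≤ (T : Subgroup Cfsg.Spor.Ly) := by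
    rw [← hg]
    rintro _ ⟨x, hx, rfl⟩
    exact ⟨x, hT' hx, rfl⟩
  have hinj : Function.Injective (MulAut.conj g).toMonoidHom := (MulAut.conj g).injective
  have hQ : QG T e = F.E.map (MulAut.conj g).toMonoidHom := by
    refine QG_eq hA (f := g * F.f * g⁻¹) ?_ hle ?_ ⟨F.f, F.f_mem, rfl⟩ ?_
    · rw [Subgroup.card_map_of_injective hinj, F.card_E]
    · rw [conj_pow, F.f_pow, mul_one, mul_inv_cancel]
    · rintro _ ⟨x, hx, rfl⟩ _ ⟨y, hy, rfl⟩
      obtain ⟨k, hk⟩ := F.comm_E x hx y hy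
      refine ⟨k, ?_⟩
      show (g * F.f * g⁻¹) ^ k = _
      rw [conj_zpow, show F.f ^ k = x * y * x⁻¹ * y⁻¹ from hk, ← map_inv, ← map_inv, ← map_mul, ← map_mul, ← map_mul]
      rfl
  refine ⟨Cfsg.Spor.Ly, inferInstance, hfin, T, e, hloc, ?_⟩
  show 9 ∣ autN T e
  rw [autN, hQ]
  exact (H35.Q5.nine_dvd F).trans (relIndex_dvd _ hinj _)

end Cfsg.Agent.H913.Q5
end

-- part: H913/Q5/RowLyFin
section
/-!
# S5211, block q = 5: the row of the Lyons group (final)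
-/

set_option autoImplicit false

namespace Cfsg.Agent.H913.Q5

open Cfsg Cfsg.Agent.H24.Q5

/-- **Row `Ly`** -/
theorem stRowLy : StRowLy := stRowLy_of (fun M hM z hz h => H35.Q5.eq_A5 M hM z hz h)

end Cfsg.Agent.H913.Q5
end

-- part: H24/Q5/Final
section
/-!
# S5211, block q = 5: everything plugged in except the rows `HN`, `Aut(HN)`, `B`
-/

set_option autoImplicit false

namespace Cfsg.Agent.H24.Q5

open Cfsg Cfsg.Agent.H779.G2
seal Cfsg.Agent.H779.G2.GU.instMul Cfsg.Agent.H779.G2.GU.instInv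

universe u

theorem stM5 : StM5 :=
  H309.Q5.stM5_of H35.Q5.stM1 (H117.Q5.stM2s H35.Q5.stM1) (H117.Q5.stM2 H35.Q5.stM1) H473.Q5.stM6

theorem stM : StM :=
  H770.QF.stM_of (H117.Q5.stM2 H35.Q5.stM1) (H689.Q5.stM3 H35.Q5.stM1) H29.Q5M.stM4 stM5 H473.Q5.stM6

theorem stFive : StFive :=
  H772.G2.stFive stM (H689.Q5.stM3 H35.Q5.stM1) H473.Q5.stM6 Tr.stF2 Tr.stF3 H353.GT.stLb5

theorem stMain5_of (H : H103.GT.Pieces.{0}) (rHN : StRowHN) (rHN2 : StRowHN2) (rB : StRowB) : StMain5.{u} :=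
  H772.G2.stMain5 (H103.GT.stGood_of H) stM (H689.Q5.stM3 H35.Q5.stM1) H473.Q5.stM6 Tr.stF2 Tr.stF3 H353.GT.stLb5
    H650.GA.stGrp H546.PU.stSame H650.GR.rowG2 rHN rHN2 H913.Q5.stRowLy rB

end Cfsg.Agent.H24.Q5
end

private theorem dce_2c60a52457e8 : _root_.True := by
  try have : _root_.True := by simp only [_root_.Cfsg.Agent.H35.Q5.hm.eq_1]
  try have : _root_.True := by simp only [_root_.Cfsg.Agent.H117.Q5.phi.eq_1]
  try have : _root_.True := by simp only [_root_.Cfsg.Agent.H35.Q5.Dg.eq_1]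
  try have : _root_.True := by simp only [_root_.Cfsg.Agent.H117.Q5.phi.congr_simp]
  try have : _root_.True := by simp only [_root_.Cfsg.Agent.H473.Q5.dec.eq_1]
  try have : _root_.True := by simp only [_root_.Cfsg.Agent.H117.Q5.ep.eq_1]
  try have : _root_.True := by simp only [_root_.Cfsg.Agent.H117.Q5.lg.eq_1]
  try have : _root_.True := by simp only [_root_.Cfsg.Agent.H24.Q5.mA.eq_1]
  exact _root_.True.intro
end

-- part: H103/GT/Lb_mg
section
prune_inst 0x4100400082200000000801020200000580000320060000040e00b02024083400080010038a0041012022a0120090060020000504000000000000000000400000008100690480000000000000004000000000000000000000000000000000000000000000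
set_option linter.all false
open scoped Cfsg.Agent.FastGrp

-- part: H904/GT/Three
section
/-!
# S5211, (LB-3): `StLb` for `p = 3` (helper904)
-/

set_option autoImplicit false
set_option linter.unusedSectionVars false
set_option linter.unusedSimpArgs false

namespace Cfsg.Agent.H904.GT

open Matrix Cfsg Cfsg.FusionSystem Cfsg.Agent.H756.PU Cfsg.Agent.H7.PU.Core Cfsg.Agent.H779.G2
seal Cfsg.Agent.H779.G2.GU.instMul Cfsg.Agent.H779.G2.GU.instInv
open Cfsg.Agent.H802 (exists_conjAut mem_autInducedBy_iff)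

universe u

variable {K : Type u} [Field K] {p n : ℕ}

theorem IsTb.el {δ : MulAut (Qb K)} {s t : K} (hδ : IsTb δ s t) (a c d e f : K) :
    δ (el a c d e f) = GT.el (s * a) (s * t * c) (s ^ 2 * t * d) (s ^ 3 * t * e) (s ^ 3 * t ^ 2 * f) := by
  apply ext'
  · rw [hδ.a]; rfl
  · rw [hδ.c]; rfl
  · rw [hδ.d]; rfl
  · rw [hδ.e]; rfl
  · rw [hδ.f]; rfl

theorem conj_e3 (h3 : (3 : K) = 0) (q y : Qb K) : ((q * y * q⁻¹ : Qb K) : GU K).e = (y : GU K).e := by
  obtain ⟨z, hz⟩ : ∃ z, z = q * y * q⁻¹ := ⟨_, rfl⟩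
  have h1 : z * q = q * y := by rw [hz]; group
  have h2 := congrArg (fun w : Qb K => (w : GU K).e) h1
  simp only [mul_e'] at h2
  rw [← hz]
  rw [h3] at h2
  linear_combination h2

theorem conj_f3 (h3 : (3 : K) = 0) (q y : Qb K) : ((q * y * q⁻¹ : Qb K) : GU K).f = (y : GU K).f := by
  obtain ⟨z, hz⟩ : ∃ z, z = q * y * q⁻¹ := ⟨_, rfl⟩
  have h1 : z * q = q * y := by rw [hz]; group
  have h2 := congrArg (fun w : Qb K => (w : GU K).f) h1
  simp only [mul_f'] at h2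
  rw [← hz]
  have h6 : (6 : K) = 0 := by linear_combination 2 * h3
  rw [h3, h6] at h2
  linear_combination h2

/-- inner automorphisms fix the centre, `p = 3` -/
theorem inn_fix3 (h2 : (2 : K) ≠ 0) (h3 : (3 : K) = 0) {i : MulAut (Qb K)} (hi : i ∈ Inn (Qb K)) {x : Qb K}
    (hx : uu (x : GU K) = 0) : i x = x := by
  obtain ⟨q, rfl⟩ := hi
  rw [← central_iff3 h2 h3] at hx
  show q * x * q⁻¹ = x
  rw [← hx q, mul_inv_cancel_right]

theorem half {x : K} (h2 : (2 : K) ≠ 0) (h : 2 * x = 0) : x = 0 := (mul_eq_zero.1 h).resolve_left h2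

/-- the shape of `κ` -/
theorem kap3 {Γ : Subgroup (MulAut (Qb K))} {D : Subgroup (MulAut (GU K))} (h : LbH K p n Γ D) (h3 : p = 3)
    (hF : Full D) {w g : MulAut (Qb K)} (hw : IsWb w) (hg : g ∈ Γ) (hgw : pi h.hyp h.odd g = pi h.hyp h.odd w) :
    ∃ l m E F : K, ∀ x : Qb K, (((g * w⁻¹) x : Qb K) : GU K).a = (x : GU K).a ∧
      (((g * w⁻¹) x : Qb K) : GU K).c = (x : GU K).c ∧
      (((g * w⁻¹) x : Qb K) : GU K).d = (x : GU K).d + l * (x : GU K).a + m * (x : GU K).c ∧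
      (((g * w⁻¹) x : Qb K) : GU K).e = E * (x : GU K).e ∧
      (((g * w⁻¹) x : Qb K) : GU K).f = F * (x : GU K).f := by
  have h2' := two_ne h.hyp h.odd
  have h3' := three_eq h.hyp h3
  have h6' : (6 : K) = 0 := by linear_combination 2 * h3'
  have := h.hyp.fin
  have hequi := fun {s t : K} (hs : s ≠ 0) (ht : t ≠ 0) => h.equi hF hw hg hgw hs ht
  have hk : pi h.hyp h.odd (g * w⁻¹) = 1 := by rw [map_mul, map_inv, hgw, mul_inv_cancel]
  rw [pi_eq_one_iff] at hk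
  generalize g * w⁻¹ = κ at hequi hk
  have ha : ∀ x, ((κ x : Qb K) : GU K).a = (x : GU K).a := fun x => (hk x).1
  have hc : ∀ x, ((κ x : Qb K) : GU K).c = (x : GU K).c := fun x => (hk x).2
  obtain ⟨zd, hzd⟩ : ∃ zd : Qb K → K, ∀ x, zd x = ((κ x : Qb K) : GU K).d - (x : GU K).d := ⟨_, fun _ => rfl⟩
  obtain ⟨ze, hze⟩ : ∃ ze : Qb K → K, ∀ x, ze x = ((κ x : Qb K) : GU K).e - (x : GU K).e := ⟨_, fun _ => rfl⟩
  obtain ⟨zf, hzf⟩ : ∃ zf : Qb K → K, ∀ x, zf x = ((κ x : Qb K) : GU K).f - (x : GU K).f := ⟨_, fun _ => rfl⟩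
  have ad : Ad zd := by
    intro x y
    rw [hzd, hzd, hzd, map_mul, mul_d', mul_d', hc, ha]
    ring
  have ae : Ad ze := by
    intro x y
    rw [hze, hze, hze, map_mul, mul_e', mul_e', h3']
    ring
  have af : Ad zf := by
    intro x y
    rw [hzf, hzf, hzf, map_mul, mul_f', mul_f', h3', h6']
    ring
  have key : ∀ {s t : K}, s ≠ 0 → t ≠ 0 → ∃ q : Qb K, ∀ a c d e f : K,
      zd (el (s * a) (s * t * c) (s ^ 2 * t * d) (s ^ 3 * t * e) (s ^ 3 * t ^ 2 * f)) =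
        s ^ 2 * t * zd (el a c d e f) + 2 * ((q : GU K).c * (s * a) - (q : GU K).a * (s * t * c)) ∧
      ze (el (s * a) (s * t * c) (s ^ 2 * t * d) (s ^ 3 * t * e) (s ^ 3 * t ^ 2 * f)) = s ^ 3 * t * ze (el a c d e f) ∧
      zf (el (s * a) (s * t * c) (s ^ 2 * t * d) (s ^ 3 * t * e) (s ^ 3 * t ^ 2 * f)) =
        s ^ 3 * t ^ 2 * zf (el a c d e f) := by
    intro s t hs ht
    obtain ⟨δ, hδ, q, hq⟩ := hequi hs ht
    refine ⟨q, fun a c d e f => ?_⟩
    rw [← hδ.el]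
    refine ⟨?_, ?_, ?_⟩
    · rw [hzd, hzd, hq, conj_d, hδ.a, hδ.c, hδ.d, hδ.d, ha, hc]
      simp only [el_a, el_c]
      ring
    · rw [hze, hze, hq, conj_e3 h3', hδ.e, hδ.e]
      ring
    · rw [hzf, hzf, hq, conj_f3 h3', hδ.f, hδ.f]
      ring
  have n1 : (-1 : K) ≠ 0 := neg_ne_zero.2 one_ne_zero
  obtain ⟨r, hr0, hr⟩ := Cfsg.Agent.H7.PU.Shear.exists_sq_ne (K := K) (by rw [h.hyp.card]; have := h.five; omega)
  -- (1, -1)
  obtain ⟨q1, k1⟩ := key (s := 1) (t := -1) one_ne_zero n1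
  -- (-1, -1)
  obtain ⟨q2, k2⟩ := key (s := -1) (t := -1) n1 n1
  -- (-1, 1)
  obtain ⟨q3, k3⟩ := key (s := -1) (t := 1) n1 one_ne_zero
  -- (r, r⁻¹)
  obtain ⟨q4, k4⟩ := key (s := r) (t := r⁻¹) hr0 (inv_ne_zero hr0)
  have ze0 : ∀ {f : Qb K → K}, Ad f → f (el 0 0 0 0 0) = 0 := fun hf => hf.one
  have Ea : ∀ a, ze (el a 0 0 0 0) = 0 := by
    intro a
    have e1 := (k1 a 0 0 0 0).2.1
    simp only [mul_zero, one_mul, one_pow, mul_neg, mul_one] at e1
    apply half h2'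
    linear_combination e1
  have Ec : ∀ c, ze (el 0 c 0 0 0) = 0 := by
    intro c
    have e1 := (k4 0 c 0 0 0).2.1
    have e2 : r * r⁻¹ * c = c := by field_simp
    have e3 : r ^ 3 * r⁻¹ = r ^ 2 := by field_simp
    simp only [mul_zero, e2, e3] at e1
    have e4 : (r⁻¹ - r) * ze (el 0 c 0 0 0) = 0 := by
      field_simp
      linear_combination e1
    exact (mul_eq_zero.1 e4).resolve_left hr
  have Ee : ∀ e, ze (el 0 0 0 e 0) = ze (el 0 0 0 1 0) * e := by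
    intro e
    by_cases he : e = 0
    · rw [he, mul_zero]
      exact ze0 ae
    · obtain ⟨q, k⟩ := key (s := 1) (t := e) one_ne_zero he
      have e1 := (k 0 0 0 1 0).2.1
      simp only [mul_zero, one_mul, one_pow, mul_one] at e1
      rw [e1]
      ring
  have Ef : ∀ f, ze (el 0 0 0 0 f) = 0 := by
    intro f
    have e1 := (k1 0 0 0 0 f).2.1
    simp only [mul_zero, one_mul, one_pow, mul_neg, mul_one] at e1
    have e2 : ((-1 : K) ^ 2) * f = f := by ring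
    rw [e2] at e1
    apply half h2'
    linear_combination e1
  have Fa : ∀ a, zf (el a 0 0 0 0) = 0 := by
    intro a
    obtain ⟨q, k⟩ := key (s := 1) (t := r) one_ne_zero hr0
    have e1 := (k a 0 0 0 0).2.2
    simp only [mul_zero, one_mul, one_pow] at e1
    have e4 : (r⁻¹ - r) * zf (el a 0 0 0 0) = 0 := by
      field_simp
      linear_combination e1
    exact (mul_eq_zero.1 e4).resolve_left hr
  have Fc : ∀ c, zf (el 0 c 0 0 0) = 0 := by
    intro c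
    have e1 := (k2 0 c 0 0 0).2.2
    have e2 : (-1 : K) * -1 * c = c := by ring
    have e3 : (-1 : K) ^ 3 * (-1) ^ 2 = -1 := by ring
    simp only [mul_zero, e2, e3] at e1
    apply half h2'
    linear_combination e1
  have Fe : ∀ e, zf (el 0 0 0 e 0) = 0 := by
    intro e
    have e1 := (k1 0 0 0 e 0).2.2
    have e2 : (1 : K) ^ 3 * -1 * e = - e := by ring
    have e3 : (1 : K) ^ 3 * (-1) ^ 2 = 1 := by ring
    simp only [mul_zero, e2, e3, one_mul] at e1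
    rw [add_neg' (g := fun x => zf (el 0 0 0 x 0)) (fun x y => af.e_add x y)] at e1
    apply half h2'
    linear_combination -e1
  have Ff : ∀ f, zf (el 0 0 0 0 f) = zf (el 0 0 0 0 1) * f := by
    intro f
    by_cases he : f = 0
    · rw [he, mul_zero]
      exact ze0 af
    · obtain ⟨q, k⟩ := key (s := f⁻¹) (t := f ^ 2) (inv_ne_zero he) (pow_ne_zero 2 he)
      have e1 := (k 0 0 0 0 1).2.2
      have e2 : f⁻¹ ^ 3 * (f ^ 2) ^ 2 = f := by field_simp
      simp only [mul_zero, e2, mul_one] at e1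
      rw [e1]
      ring
  have De : ∀ e, zd (el 0 0 0 e 0) = 0 := by
    intro e
    have e1 := (k3 0 0 0 e 0).1
    have e2 : (-1 : K) ^ 3 * 1 * e = - e := by ring
    have e3 : (-1 : K) ^ 2 * 1 = 1 := by ring
    simp only [mul_zero, e2, e3, one_mul, sub_zero, add_zero] at e1
    rw [add_neg' (g := fun x => zd (el 0 0 0 x 0)) (fun x y => ad.e_add x y)] at e1
    apply half h2'
    linear_combination -e1
  have Df : ∀ f, zd (el 0 0 0 0 f) = 0 := by
    intro f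
    have e1 := (k1 0 0 0 0 f).1
    have e2 : (1 : K) ^ 3 * (-1) ^ 2 * f = f := by ring
    have e3 : (1 : K) ^ 2 * -1 = -1 := by ring
    simp only [mul_zero, e2, e3, sub_zero, add_zero] at e1
    apply half h2'
    linear_combination e1
  have Dd : ∀ d, zd (el 0 0 d 0 0) = 0 := by
    intro d
    have e2 := ad.comm (el 0 (d / 2) 0 0 0) (el 1 0 0 0 0)
    have e1 : el 0 0 d 0 0 * (el 1 0 0 0 0 * el 0 (d / 2) 0 0 0) = el 0 (d / 2) 0 0 0 * el 1 0 0 0 0 := by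
      apply ext'
      · simp only [mul_a', el_a]; ring
      · simp only [mul_c', el_c]; ring
      · simp only [mul_d', mul_a', el_a, el_c, el_d]; field_simp; ring
      · simp only [mul_e', h3']; simp only [el_e]; ring
      · simp only [mul_f', h3', h6']; simp only [el_f]; ring
    have e3 : el 0 (d / 2) 0 0 0 * el 1 0 0 0 0 * (el 0 (d / 2) 0 0 0)⁻¹ * (el 1 0 0 0 0)⁻¹ = el 0 0 d 0 0 := by
      rw [← e1]
      group
    rwa [e3] at e2
  have Da : ∀ a, zd (el a 0 0 0 0) = (q1 : GU K).c * a := by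
    intro a
    have e1 := (k1 a 0 0 0 0).1
    have e3 : (1 : K) ^ 2 * -1 = -1 := by ring
    simp only [mul_zero, e3, sub_zero, one_mul] at e1
    rw [← sub_eq_zero]
    apply half h2'
    linear_combination e1
  have Dc : ∀ c, zd (el 0 c 0 0 0) = - (q2 : GU K).a * c := by
    intro c
    have e1 := (k2 0 c 0 0 0).1
    have e2 : (-1 : K) * -1 * c = c := by ring
    have e3 : (-1 : K) ^ 2 * -1 = -1 := by ring
    simp only [mul_zero, e2, e3, zero_sub] at e1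
    rw [← sub_eq_zero]
    apply half h2'
    linear_combination e1
  refine ⟨(q1 : GU K).c, - (q2 : GU K).a, 1 + ze (el 0 0 0 1 0), 1 + zf (el 0 0 0 0 1), fun x => ⟨ha x, hc x, ?_, ?_, ?_⟩⟩
  · have e1 := ad.eq x
    rw [Da, Dc, Dd, De, Df, hzd] at e1
    linear_combination e1
  · have e1 := ae.eq x
    have e2 : ze (el 0 0 (x : GU K).d 0 0) = 0 := by
      have e3 := (k1 0 0 (x : GU K).d 0 0).2.1
      have e4 := (k2 0 0 (x : GU K).d 0 0).2.1
      simp only [mul_zero] at e3 e4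
      have e5 : (1 : K) ^ 2 * -1 * (x : GU K).d = - (x : GU K).d := by ring
      have e6 : (-1 : K) ^ 2 * -1 * (x : GU K).d = - (x : GU K).d := by ring
      rw [e5] at e3
      rw [e6, e3] at e4
      apply half h2'
      linear_combination -e4
    rw [Ea, Ec, e2, Ee, Ef, hze] at e1
    linear_combination e1
  · have e1 := af.eq x
    have e2 : zf (el 0 0 (x : GU K).d 0 0) = 0 := by
      have e3 := (k1 0 0 (x : GU K).d 0 0).2.2
      have e4 := (k2 0 0 (x : GU K).d 0 0).2.2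
      simp only [mul_zero] at e3 e4
      have e5 : (1 : K) ^ 2 * -1 * (x : GU K).d = - (x : GU K).d := by ring
      have e6 : (-1 : K) ^ 2 * -1 * (x : GU K).d = - (x : GU K).d := by ring
      rw [e5] at e3
      rw [e6, e3] at e4
      apply half h2'
      linear_combination e4
    rw [Fa, Fc, e2, Fe, Ff, hzf] at e1
    linear_combination e1

/-- conjugation by `x_β(r)` on `Z₃` -/
theorem conj_z3 {P : MulAut (Qb K)} {r : K} (hP : ∀ e : Qb K, ((P e : Qb K) : GU K) =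
    (⟨0, r, 0, 0, 0, 0⟩ : GU K) * e * (⟨0, r, 0, 0, 0, 0⟩ : GU K)⁻¹) (d e f : K) :
    P (el 0 0 d e f) = el 0 0 d e (f + r * e) := by
  apply Subtype.ext
  rw [hP]
  apply GU.ext
  · simp only [GU.mul_a, GU.inv_a, el_a]; ring
  · simp only [GU.mul_b, GU.inv_b, b_Qb]; ring
  · simp only [GU.mul_a, GU.mul_b, GU.mul_c, GU.inv_a, GU.inv_b, GU.inv_c, b_Qb, el_a, el_c]; ring
  · simp only [GU.mul_a, GU.mul_b, GU.mul_c, GU.mul_d, GU.inv_a, GU.inv_b, GU.inv_c, GU.inv_d, b_Qb, el_a, el_c, el_d]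
    ring
  · simp only [GU.mul_a, GU.mul_b, GU.mul_c, GU.mul_d, GU.mul_e, GU.inv_a, GU.inv_b, GU.inv_c, GU.inv_d, GU.inv_e,
      b_Qb, el_a, el_c, el_d, el_e]
    ring
  · simp only [GU.mul_a, GU.mul_b, GU.mul_c, GU.mul_d, GU.mul_e, GU.mul_f, GU.inv_a, GU.inv_b, GU.inv_c, GU.inv_d,
      GU.inv_e, GU.inv_f, b_Qb, el_a, el_c, el_d, el_e, el_f]
    ring

theorem wb_mem3 {Γ : Subgroup (MulAut (Qb K))} {D : Subgroup (MulAut (GU K))} (h : LbH K p n Γ D) (h3 : p = 3)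
    (hF : Full D) {w : MulAut (Qb K)} (hw : IsWb w) : w ∈ Γ := by
  have h2' := two_ne h.hyp h.odd
  have h3' := three_eq h.hyp h3
  obtain ⟨g, hg, hgw⟩ := h.exists_g hw
  obtain ⟨l, m, E, F, hκ⟩ := kap3 h h3 hF hw hg hgw
  obtain ⟨y, hy⟩ : ∃ y : Qb K, y = el (-(m / 2)) (l / 2) 0 0 0 := ⟨_, rfl⟩
  have hya : (y : GU K).a = - (m / 2) := by rw [hy]; rfl
  have hyc : (y : GU K).c = l / 2 := by rw [hy]; rfl
  obtain ⟨ρ, hρ⟩ : ∃ ρ : MulAut (Qb K), ρ = (MulAut.conj y)⁻¹ * g := ⟨_, rfl⟩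
  have hρΓ : ρ ∈ Γ := by
    rw [hρ]
    exact mul_mem ((_root_.InvMemClass.inv_mem (h.Inn_le_G ⟨y, rfl⟩) :)) hg
  have hρx : ∀ x : Qb K, y * ρ x * y⁻¹ = (g * w⁻¹) (w x) := by
    intro x
    have e1 : MulAut.conj y * ρ = (g * w⁻¹) * w := by rw [hρ]; group
    have e2 := congrArg (fun θ : MulAut (Qb K) => θ x) e1
    exact e2
  have ra : ∀ x : Qb K, ((ρ x : Qb K) : GU K).a = - (x : GU K).c := by
    intro x
    rw [← conj_a y, hρx, (hκ _).1, hw.a]
  have rc : ∀ x : Qb K, ((ρ x : Qb K) : GU K).c = (x : GU K).a := by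
    intro x
    rw [← conj_c y, hρx, (hκ _).2.1, hw.c]
  have rd : ∀ x : Qb K, ((ρ x : Qb K) : GU K).d = (x : GU K).d - 2 * (x : GU K).a * (x : GU K).c := by
    intro x
    have e1 := conj_d y (ρ x)
    rw [hρx, (hκ _).2.2.1, hw.d, hw.a, hw.c, ra, rc, hya, hyc] at e1
    field_simp at e1
    linear_combination -e1
  have re : ∀ x : Qb K, ((ρ x : Qb K) : GU K).e = - (E * (x : GU K).f) := by
    intro x
    rw [← conj_e3 h3' y, hρx, (hκ _).2.2.2.1, hw.e, h3']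
    ring
  have rf : ∀ x : Qb K, ((ρ x : Qb K) : GU K).f = F * (x : GU K).e := by
    intro x
    rw [← conj_f3 h3' y, hρx, (hκ _).2.2.2.2, hw.f, h3']
    ring
  have hρel : ∀ d e f : K, ρ (el 0 0 d e f) = el 0 0 d (- (E * f)) (F * e) := by
    intro d e f
    apply ext'
    · rw [ra, el_c, el_a, neg_zero]
    · rw [rc, el_c, el_a]
    · rw [rd, el_a, el_c, el_d, el_d]; ring
    · rw [re, el_e, el_f]
    · rw [rf, el_e, el_f]
  have hE : E ≠ 0 := by
    intro h0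
    have e1 : ρ (el 0 0 0 0 1) = ρ 1 := by
      rw [hρel, h0, map_one]
      apply ext'
      · rfl
      · rfl
      · rfl
      · show - (0 * 1) = (0 : K)
        ring
      · show F * 0 = (0 : K)
        ring
    have e2 := ρ.injective e1
    have e3 := congrArg (fun w : Qb K => (w : GU K).f) e2
    exact one_ne_zero e3
  have hpρ : ∀ u, pi h.hyp h.odd ρ u = (u.2, - u.1) := by
    intro u
    rw [← uu_el u 0 0 0, pi_uu]
    exact Prod.ext (rc _) (ra _)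
  obtain ⟨P1, hP1, e1⟩ := exists_conj_aut (⟨0, 1, 0, 0, 0, 0⟩ : GU K)
  obtain ⟨P2, hP2, e2⟩ := exists_conj_aut (⟨0, -1, 0, 0, 0, 0⟩ : GU K)
  have p1 := pi_conj h.hyp h.odd e1
  have p2 := pi_conj h.hyp h.odd e2
  obtain ⟨i, hi⟩ : ∃ i, i = P1 * ρ * P1 * (ρ * P2 * ρ)⁻¹ := ⟨_, rfl⟩
  have hiΓ : i ∈ Γ := by
    rw [hi]
    exact mul_mem (mul_mem (mul_mem (h.par.indu hP1) hρΓ) (h.par.indu hP1))
      (_root_.InvMemClass.inv_mem (mul_mem (mul_mem hρΓ (h.par.indu hP2)) hρΓ))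
  have hii : i ∈ Inn (Qb K) := by
    apply h.ker' hiΓ
    rw [hi, map_mul, map_inv, mul_inv_eq_one]
    apply Cfsg.Agent.H7.PU.Core.ext'
    intro u
    rw [map_mul, map_mul, map_mul, map_mul, p1, p2, LinearEquiv.mul_apply, LinearEquiv.mul_apply,
      LinearEquiv.mul_apply, LinearEquiv.mul_apply, hpρ, hpρ, tau_apply, tau_apply, tau_apply, hpρ]
    apply Prod.ext
    · simp only; ring
    · simp only; ring
  have key : ∀ e f : K, P1 (ρ (P1 (el 0 0 0 e f))) = ρ (P2 (ρ (el 0 0 0 e f))) := by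
    intro e f
    have k1 : i * (ρ * P2 * ρ) = P1 * ρ * P1 := by rw [hi]; group
    have k2 := congrArg (fun θ : MulAut (Qb K) => θ (el 0 0 0 e f)) k1
    have k3 : i (ρ (P2 (ρ (el 0 0 0 e f)))) = P1 (ρ (P1 (el 0 0 0 e f))) := k2
    rw [← k3]
    apply inn_fix3 h2' h3' hii
    apply inv_Z3 h.hyp h.odd
    apply inv_Z3 h.hyp h.odd
    apply inv_Z3 h.hyp h.odd
    rfl
  have key2 : ∀ e f : K, E * (f + e) = E * (F * e + E * f) := by
    intro e f
    have k1 := key e f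
    rw [conj_z3 e1, hρel, conj_z3 e1, hρel, conj_z3 e2, hρel] at k1
    have k2 := congrArg (fun w : Qb K => (w : GU K).e) k1
    simp only [el_e] at k2
    linear_combination -k2
  have hE1 : E = 1 := by
    have := mul_left_cancel₀ hE (key2 0 1)
    linear_combination -this
  have hF1 : F = 1 := by
    have := mul_left_cancel₀ hE (key2 1 0)
    linear_combination -this
  have hρw : IsWb ρ := by
    refine ⟨ra, rc, rd, fun x => ?_, fun x => ?_⟩
    · rw [re, hE1, h3']; ring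
    · rw [rf, hF1, h3']; ring
  rw [IsWb_unique hw hρw]
  exact hρΓ

/-- **(LB-3)** `StLb` for `p = 3` -/
theorem stLb_three (h0 : StLb0.{u}) (hG : StGrp.{u}) {K : Type u} [Field K] {p n : ℕ} (h : HypG K p n) (h3 : p = 3)
    (h5 : 5 ≤ p ^ n) (Γ : Subgroup (MulAut (Qb K))) (D : Subgroup (MulAut (GU K))) (hp : Par p (Qb K) Γ D) :
    HasTor D (fun t => t⁻¹) (fun t => t ^ 2) ∧ (Full D → Γ = Gen IsWb D) := by
  have hL : LbH K p n Γ D := by
    refine ⟨h, by omega, h5, hp, ?_, hG⟩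
    subst h3
    refine (h0 h Γ hp.indu hp.syl hp.nn ?_).1
    intro γ hγ hn
    obtain ⟨x, d, hd, hx⟩ := hp.norm γ hγ hn
    exact ⟨MulAut.conj x * d, fun e => hx e⟩
  refine ⟨hL.hasTor, fun hF => ?_⟩
  obtain ⟨w, hw⟩ := (hG h).2.2.2.2.2.1
  exact hL.eq_Gen hw (wb_mem3 hL h3 hF hw)

end Cfsg.Agent.H904.GT
end

-- part: H10/GT/Base
section
/-!
# S5211, (Lb) for `p = 2`, `q ≥ 8`: coordinates on `Q_b` in characteristic two
-/

set_option autoImplicit false

namespace Cfsg.Agent.H10.GT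

open Cfsg Cfsg.FusionSystem Cfsg.Agent.H779.G2 Cfsg.Agent.H756.PU Cfsg.Agent.H802 Cfsg.Agent.H103.GT
seal Cfsg.Agent.H779.G2.GU.instMul Cfsg.Agent.H779.G2.GU.instInv

universe u

variable {K : Type u} [Field K]

/-- coordinates of an element of `Q_b` -/
def pa (g : Qb K) : K := (g : GU K).a
def pc (g : Qb K) : K := (g : GU K).c
def pd (g : Qb K) : K := (g : GU K).d
def pe (g : Qb K) : K := (g : GU K).e
def pf (g : Qb K) : K := (g : GU K).f

/-- the element of `Q_b` with given coordinates -/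
def mk (a c d e f : K) : Qb K := ⟨⟨a, 0, c, d, e, f⟩, rfl⟩

@[simp] theorem pa_mk (a c d e f : K) : pa (mk a c d e f) = a := rfl
@[simp] theorem pc_mk (a c d e f : K) : pc (mk a c d e f) = c := rfl
@[simp] theorem pd_mk (a c d e f : K) : pd (mk a c d e f) = d := rfl
@[simp] theorem pe_mk (a c d e f : K) : pe (mk a c d e f) = e := rfl
@[simp] theorem pf_mk (a c d e f : K) : pf (mk a c d e f) = f := rfl

theorem qext {x y : Qb K} (ha : pa x = pa y) (hc : pc x = pc y) (hd : pd x = pd y) (he : pe x = pe y)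
    (hf : pf x = pf y) : x = y := by
  apply Subtype.ext
  have hx : (x : GU K).b = 0 := x.2
  have hy : (y : GU K).b = 0 := y.2
  exact GU.ext ha (hx.trans hy.symm) hc hd he hf

@[simp] theorem pa_one : pa (1 : Qb K) = 0 := rfl
@[simp] theorem pc_one : pc (1 : Qb K) = 0 := rfl
@[simp] theorem pd_one : pd (1 : Qb K) = 0 := rfl
@[simp] theorem pe_one : pe (1 : Qb K) = 0 := rfl
@[simp] theorem pf_one : pf (1 : Qb K) = 0 := rfl

unseal Cfsg.Agent.H779.G2.GU.instMul Cfsg.Agent.H779.G2.GU.instInv in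
@[simp] theorem pa_mul (x y : Qb K) : pa (x * y) = pa x + pa y := rfl

@[simp] theorem pc_mul (x y : Qb K) : pc (x * y) = pc x + pc y := by
  have hx : (x : GU K).b = 0 := x.2
  simp only [pc, Subgroup.coe_mul, GU.mul_c, hx]
  ring

section char2

variable [CharP K 2]

theorem h2' : (2 : K) = 0 := by
  have := CharP.cast_eq_zero K 2
  exact_mod_cast this

@[simp] theorem pd_mul (x y : Qb K) : pd (x * y) = pd x + pd y := by
  have hx : (x : GU K).b = 0 := x.2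
  simp only [pd, Subgroup.coe_mul, GU.mul_d, hx]
  linear_combination ((x : GU K).c * (y : GU K).a) * h2' (K := K)

@[simp] theorem pe_mul (x y : Qb K) : pe (x * y) = pe x + pe y + pd x * pa y + pc x * pa y ^ 2 := by
  have hx : (x : GU K).b = 0 := x.2
  simp only [pd, pe, pa, pc, Subgroup.coe_mul, GU.mul_e, hx]
  linear_combination ((x : GU K).d * (y : GU K).a + (x : GU K).c * (y : GU K).a ^ 2) * h2' (K := K)

@[simp] theorem pf_mul (x y : Qb K) : pf (x * y) = pf x + pf y + pd x * pc y + pc x ^ 2 * pa y := by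
  have hx : (x : GU K).b = 0 := x.2
  have hy : (y : GU K).b = 0 := y.2
  simp only [pd, pf, pa, pc, Subgroup.coe_mul, GU.mul_f, hx, hy]
  linear_combination ((x : GU K).d * (y : GU K).c + (x : GU K).c ^ 2 * (y : GU K).a
    + 3 * (x : GU K).c * (y : GU K).a * (y : GU K).c) * h2' (K := K)

theorem pa_inv2 (x : Qb K) : pa x⁻¹ = pa x := by
  have h : pa (x⁻¹ * x) = 0 := by rw [inv_mul_cancel]; rfl
  rw [pa_mul] at h
  linear_combination h - pa x * h2' (K := K)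

theorem pc_inv2 (x : Qb K) : pc x⁻¹ = pc x := by
  have h : pc (x⁻¹ * x) = 0 := by rw [inv_mul_cancel]; rfl
  rw [pc_mul] at h
  linear_combination h - pc x * h2' (K := K)

theorem pd_inv2 (x : Qb K) : pd x⁻¹ = pd x := by
  have h : pd (x⁻¹ * x) = 0 := by rw [inv_mul_cancel]; rfl
  rw [pd_mul] at h
  linear_combination h - pd x * h2' (K := K)

/-- the commutator in coordinates -/
def ze (x y : Qb K) : K := pd x * pa y + pc x * pa y ^ 2 + pd y * pa x + pc y * pa x ^ 2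
def zf (x y : Qb K) : K := pd x * pc y + pc x ^ 2 * pa y + pd y * pc x + pc y ^ 2 * pa x

theorem mul_comm_z (x y : Qb K) : x * y = mk 0 0 0 (ze x y) (zf x y) * (y * x) := by
  apply qext
  · simp only [pa_mul, pa_mk]; ring
  · simp only [pc_mul, pc_mk]; ring
  · simp only [pd_mul, pd_mk]; ring
  · simp only [pa_mul, pe_mul, pd_mk, pc_mk, pe_mk, ze]
    linear_combination (-(pd y * pa x + pc y * pa x ^ 2)) * h2' (K := K)
  · simp only [pa_mul, pc_mul, pf_mul, pd_mk, pc_mk, pf_mk, zf]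
    linear_combination (-(pd y * pc x + pc y ^ 2 * pa x)) * h2' (K := K)

theorem comm_eq (x y : Qb K) : x * y * x⁻¹ * y⁻¹ = mk 0 0 0 (ze x y) (zf x y) := by
  rw [mul_inv_eq_iff_eq_mul, mul_inv_eq_iff_eq_mul, mul_assoc]
  exact mul_comm_z x y

omit [CharP K 2] in
theorem mk_eq_iff {e f e' f' : K} : mk 0 0 0 e f = mk 0 0 0 e' f' ↔ e = e' ∧ f = f' :=
  ⟨fun h => ⟨congrArg pe h, congrArg pf h⟩, fun h => by rw [h.1, h.2]⟩

theorem commute_iff (x y : Qb K) : x * y = y * x ↔ ze x y = 0 ∧ zf x y = 0 := by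
  have h1 : (1 : Qb K) = mk 0 0 0 0 0 := rfl
  constructor
  · intro h
    have h3 : x * y * x⁻¹ * y⁻¹ = 1 := by rw [h]; group
    rw [comm_eq, h1] at h3
    exact mk_eq_iff.1 h3
  · rintro ⟨h, h'⟩
    rw [mul_comm_z, h, h', ← h1, one_mul]

/-- `d* = d + ac` -/
def ds (x : Qb K) : K := pd x + pa x * pc x

theorem sq_eq (x : Qb K) : x * x = mk 0 0 0 (ds x * pa x) (ds x * pc x) := by
  apply qext
  · simp only [pa_mul, pa_mk]
    linear_combination pa x * h2' (K := K)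
  · simp only [pc_mul, pc_mk]
    linear_combination pc x * h2' (K := K)
  · simp only [pd_mul, pd_mk]
    linear_combination pd x * h2' (K := K)
  · simp only [pe_mul, pe_mk, ds]
    linear_combination pe x * h2' (K := K)
  · simp only [pf_mul, pf_mk, ds]
    linear_combination pf x * h2' (K := K)

theorem ds_mul (x y : Qb K) : ds (x * y) = ds x + ds y + (pa x * pc y + pa y * pc x) := by
  simp only [ds, pa_mul, pc_mul, pd_mul]
  ring

/-- the center of `Q_b` -/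
theorem central_iff (x : Qb K) : (∀ y : Qb K, x * y = y * x) ↔ pa x = 0 ∧ pc x = 0 ∧ pd x = 0 := by
  constructor
  · intro h
    obtain ⟨h1, h3⟩ := (commute_iff _ _).1 (h (mk 0 0 1 0 0))
    simp only [ze, zf, pa_mk, pc_mk, pd_mk] at h1 h3
    have ha : pa x = 0 := by linear_combination h1
    have hc : pc x = 0 := by linear_combination h3
    obtain ⟨h4, -⟩ := (commute_iff _ _).1 (h (mk 1 0 0 0 0))
    simp only [ze, pa_mk, pc_mk, pd_mk] at h4
    exact ⟨ha, hc, by linear_combination h4 - hc⟩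
  · rintro ⟨ha, hc, hd⟩ y
    rw [commute_iff]
    simp [ze, zf, ha, hc, hd]

end char2

/-- conjugation by `x : GU K` on `Q_b` -/
noncomputable def cj (x : GU K) : MulAut (Qb K) := MulAut.conjNormal x

theorem cj_apply (x : GU K) (y : Qb K) : ((cj x y : Qb K) : GU K) = x * (y : GU K) * x⁻¹ := MulAut.conjNormal_apply _ _

theorem cj_mem (x : GU K) : cj x ∈ autInducedBy ⊤ (Qb K) :=
  (mem_autInducedBy_iff _ _ _).2 ⟨x, Subgroup.mem_top _, fun y => by rw [cj_apply]⟩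

theorem eq_cj_of_mem {γ : MulAut (Qb K)} (h : γ ∈ autInducedBy ⊤ (Qb K)) : ∃ x : GU K, γ = cj x := by
  obtain ⟨x, -, hx⟩ := (mem_autInducedBy_iff _ _ _).1 h
  refine ⟨x, MulEquiv.ext fun y => Subtype.ext ?_⟩
  rw [hx, cj_apply]

theorem pa_cj (x : GU K) (y : Qb K) : pa (cj x y) = pa y := by
  have h : pa (cj x y) = (x * (y : GU K) * x⁻¹).a := congrArg GU.a (cj_apply x y)
  rw [h, cj_a]; rfl

theorem pc_cj (x : GU K) (y : Qb K) : pc (cj x y) = pc y + x.b * pa y := by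
  have h : pc (cj x y) = (x * (y : GU K) * x⁻¹).c := congrArg GU.c (cj_apply x y)
  have hy : (y : GU K).b = 0 := y.2
  rw [h, cj_c, hy]
  simp only [pa, pc]
  ring

end Cfsg.Agent.H10.GT
end

-- part: H10/GT/Inv
section
/-!
# S5211, (Lb) for `p = 2`, `q ≥ 8`: `Z₃` is invariant under all automorphisms of `Q_b`
-/

set_option autoImplicit false

namespace Cfsg.Agent.H10.GT

open Cfsg Cfsg.FusionSystem Cfsg.Agent.H779.G2 Cfsg.Agent.H756.PU Cfsg.Agent.H802 Cfsg.Agent.H103.GT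
seal Cfsg.Agent.H779.G2.GU.instMul Cfsg.Agent.H779.G2.GU.instInv

universe u

variable {K : Type u} [Field K] [CharP K 2]

theorem central_map (γ : MulAut (Qb K)) {x : Qb K} (h : pa x = 0 ∧ pc x = 0 ∧ pd x = 0) :
    pa (γ x) = 0 ∧ pc (γ x) = 0 ∧ pd (γ x) = 0 := by
  rw [← central_iff] at h ⊢
  intro y
  obtain ⟨y, rfl⟩ := γ.surjective y
  rw [← map_mul, ← map_mul, h]

theorem central_map_iff (γ : MulAut (Qb K)) {x : Qb K} :
    (pa (γ x) = 0 ∧ pc (γ x) = 0 ∧ pd (γ x) = 0) ↔ pa x = 0 ∧ pc x = 0 ∧ pd x = 0 := by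
  refine ⟨fun h => ?_, central_map γ⟩
  have := central_map γ⁻¹ h
  rwa [MulAut.inv_apply_self] at this

theorem comm_map (γ : MulAut (Qb K)) (x y : Qb K) :
    γ (mk 0 0 0 (ze x y) (zf x y)) = mk 0 0 0 (ze (γ x) (γ y)) (zf (γ x) (γ y)) := by
  rw [← comm_eq, ← comm_eq]
  simp only [map_mul, map_inv]

theorem comm_transfer (γ : MulAut (Qb K)) {x y x' y' : Qb K} :
    (ze (γ x) (γ y) = ze (γ x') (γ y') ∧ zf (γ x) (γ y) = zf (γ x') (γ y')) ↔ (ze x y = ze x' y' ∧ zf x y = zf x' y') := by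
  rw [← mk_eq_iff, ← mk_eq_iff, ← comm_map, ← comm_map]
  exact γ.injective.eq_iff

theorem sq_map (γ : MulAut (Qb K)) (x : Qb K) :
    γ (mk 0 0 0 (ds x * pa x) (ds x * pc x)) = mk 0 0 0 (ds (γ x) * pa (γ x)) (ds (γ x) * pc (γ x)) := by
  rw [← sq_eq, ← sq_eq, map_mul]

theorem no_bad {κ k : K} (hκ : κ ^ 4 ≠ κ) (hk0 : k ≠ 0) (hk1 : k ≠ 1) (γ : MulAut (Qb K))
    (h : ∀ x, pa x = 0 → pc x = 0 → pa (γ x) = 0 ∧ pd (γ x) = 0)
    (h' : ∀ x, pa (γ x) = 0 → pd (γ x) = 0 → pa x = 0 ∧ pc x = 0) : False := by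
  obtain ⟨g0, hg0⟩ := γ.surjective (mk 0 1 0 0 0)
  obtain ⟨g1, hg1⟩ := γ.surjective (mk 0 k 0 0 0)
  obtain ⟨g2, hg2⟩ := γ.surjective (mk 0 (κ ^ 2) 0 0 0)
  obtain ⟨x, hx⟩ := γ.surjective (mk 1 0 0 0 0)
  obtain ⟨y, hy⟩ := γ.surjective (mk κ 0 (κ ^ 4 + κ) 0 0)
  obtain ⟨a0, c0⟩ := h' g0 (by rw [hg0]; rfl) (by rw [hg0]; rfl)
  obtain ⟨a1, c1⟩ := h' g1 (by rw [hg1]; rfl) (by rw [hg1]; rfl)
  obtain ⟨a2, c2⟩ := h' g2 (by rw [hg2]; rfl) (by rw [hg2]; rfl)
  have hd0 : pd g0 ≠ 0 := by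
    intro hd
    have := (central_map γ ⟨a0, c0, hd⟩).2.1
    rw [hg0] at this
    exact one_ne_zero this
  obtain ⟨a3, d3⟩ := h (mk 0 0 (pd g1 * pd g2 / pd g0) 0 0) rfl rfl
  set g3 : Qb K := mk 0 0 (pd g1 * pd g2 / pd g0) 0 0 with hg3
  obtain ⟨e1, e2⟩ := (comm_transfer γ (x := g0) (y := y) (x' := g2) (y' := x)).1 (by
    rw [hg0, hg2, hx, hy]
    simp only [ze, zf, pa_mk, pc_mk, pd_mk]
    constructor
    · ring
    · linear_combination κ * h2' (K := K))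
  simp only [ze, zf, a0, c0, a2, c2] at e1 e2
  obtain ⟨e3, e4⟩ := (comm_transfer γ (x := g3) (y := x) (x' := g1) (y' := y)).2 (by
    simp only [ze, zf, a1, c1, hg3, pa_mk, pc_mk, pd_mk]
    constructor
    · field_simp
      linear_combination -(pd g1) * e1
    · field_simp
      linear_combination -(pd g1) * e2)
  rw [hx, hy, hg1] at e3 e4
  simp only [ze, zf, a3, d3, pa_mk, pc_mk, pd_mk] at e3 e4
  have e5 : (k ^ 2 + k) * (κ ^ 4 + κ) = 0 := by
    linear_combination e4 - (pc (γ g3) + k * κ ^ 2) * e3 + (k ^ 2 * κ + k * κ ^ 4 + k * κ) * h2' (K := K)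
  rcases mul_eq_zero.1 e5 with h5 | h5
  · have h6 : k * (k + 1) = 0 := by linear_combination h5
    rcases mul_eq_zero.1 h6 with h7 | h7
    · exact hk0 h7
    · exact hk1 (by linear_combination h7 - h2' (K := K))
  · exact hκ (by linear_combination h5 - κ * h2' (K := K))

/-- `Z₃` is invariant under all automorphisms of `Q_b` -/
theorem z3_inv [Finite K] {κ k : K} (hκ : κ ^ 4 ≠ κ) (hk0 : k ≠ 0) (hk1 : k ≠ 1) (γ : MulAut (Qb K)) {x : Qb K}
    (hx : pa x = 0) (hx' : pc x = 0) : pa (γ x) = 0 ∧ pc (γ x) = 0 := by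
  set! g : Qb K := mk 0 0 1 0 0 with hg
  have hz3 : ∀ x : Qb K, x * g = g * x ↔ pa x = 0 ∧ pc x = 0 := by
    intro x
    rw [commute_iff]
    simp [ze, zf, hg]
  have hsq : ∀ γ : MulAut (Qb K), ds (γ g) * pa (γ g) = 0 ∧ ds (γ g) * pc (γ g) = 0 := by
    intro γ
    have h1 := sq_map γ g
    have h3 : mk 0 0 0 (ds g * pa g) (ds g * pc g) = (1 : Qb K) := by
      simp only [hg, pa_mk, pc_mk, mul_zero]
      rfl
    rw [h3, map_one] at h1
    exact ⟨(congrArg pe h1).symm, (congrArg pf h1).symm⟩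
  have hnc : ∀ γ : MulAut (Qb K), ¬ (pa (γ g) = 0 ∧ pc (γ g) = 0 ∧ pd (γ g) = 0) := by
    intro γ h
    have := ((central_map_iff γ).1 h).2.2
    rw [hg] at this
    exact one_ne_zero this
  by_cases hv : pa (γ g) = 0 ∧ pc (γ g) = 0
  · have hd : pd (γ g) ≠ 0 := fun h => hnc γ ⟨hv.1, hv.2, h⟩
    have h1 : γ x * γ g = γ g * γ x := by
      rw [← map_mul, (hz3 x).2 ⟨hx, hx'⟩, map_mul]
    rw [commute_iff] at h1
    simp only [ze, zf, hv.1, hv.2] at h1
    constructor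
    · refine (mul_eq_zero.1 ?_).resolve_left hd
      linear_combination h1.1
    · refine (mul_eq_zero.1 ?_).resolve_left hd
      linear_combination h1.2
  · exfalso
    obtain ⟨θ, hθ, hθ'⟩ : ∃ θ : MulAut (Qb K), pa (θ (γ g)) = 0 ∧ pc (θ (γ g)) ≠ 0 := by
      by_cases ha : pa (γ g) = 0
      · exact ⟨1, ha, fun h => hv ⟨ha, h⟩⟩
      · obtain ⟨ω, hω⟩ := exists_wb (K := K)
        refine ⟨ω * cj (x2 (pc (γ g) / pa (γ g))), ?_, ?_⟩
        · show pa (ω (cj _ (γ g))) = 0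
          have h1 : pa (ω (cj (x2 (pc (γ g) / pa (γ g))) (γ g))) = - pc (cj (x2 (pc (γ g) / pa (γ g))) (γ g)) := hω.a _
          rw [h1, pc_cj]
          simp only [x2]
          field_simp
          linear_combination -(pc (γ g)) * h2' (K := K)
        · show pc (ω (cj _ (γ g))) ≠ 0
          have h1 : pc (ω (cj (x2 (pc (γ g) / pa (γ g))) (γ g))) = pa (cj (x2 (pc (γ g) / pa (γ g))) (γ g)) := hω.c _
          rw [h1, pa_cj]
          exact ha
    have hds : ds ((θ * γ) g) = 0 := (mul_eq_zero.1 (hsq (θ * γ)).2).resolve_right hθ'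
    have hpd : pd ((θ * γ) g) = 0 := by
      have h1 : pd ((θ * γ) g) + pa ((θ * γ) g) * pc ((θ * γ) g) = 0 := hds
      have h3 : pa ((θ * γ) g) = 0 := hθ
      rw [h3] at h1
      linear_combination h1
    have key : ∀ x : Qb K, (pa x = 0 ∧ pc x = 0) ↔ (pa ((θ * γ) x) = 0 ∧ pd ((θ * γ) x) = 0) := by
      intro x
      rw [← hz3]
      have h1 : x * g = g * x ↔ (θ * γ) x * (θ * γ) g = (θ * γ) g * (θ * γ) x := by
        rw [← map_mul, ← map_mul]
        exact (θ * γ).injective.eq_iff.symm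
      rw [h1, commute_iff]
      have h3 : pa ((θ * γ) g) = 0 := hθ
      have h4 : pc ((θ * γ) g) ≠ 0 := hθ'
      simp only [ze, zf, h3, hpd]
      constructor
      · rintro ⟨h5, h6⟩
        have h7 : pa ((θ * γ) x) ^ 2 = 0 := by
          refine (mul_eq_zero.1 (?_ : pc ((θ * γ) g) * pa ((θ * γ) x) ^ 2 = 0)).resolve_left h4
          linear_combination h5
        have h8 : pa ((θ * γ) x) = 0 := by simpa using h7
        refine ⟨h8, ?_⟩
        rw [h8] at h6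
        refine (mul_eq_zero.1 (?_ : pc ((θ * γ) g) * pd ((θ * γ) x) = 0)).resolve_left h4
        linear_combination h6
      · rintro ⟨h5, h6⟩
        rw [h5, h6]
        constructor <;> ring
    exact no_bad hκ hk0 hk1 (θ * γ) (fun x h1 h3 => (key x).1 ⟨h1, h3⟩) (fun x h1 h3 => (key x).2 ⟨h1, h3⟩)

end Cfsg.Agent.H10.GT
end

-- part: H10/GT/Semi
section
/-!
# S5211, (Lb) for `p = 2`, `q ≥ 8`: the semilinear action of automorphisms of `Q_b` on `Q_b / Z₃`
-/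

set_option autoImplicit false

namespace Cfsg.Agent.H10.GT

open Cfsg Cfsg.FusionSystem Cfsg.Agent.H779.G2 Cfsg.Agent.H756.PU Cfsg.Agent.H802 Cfsg.Agent.H103.GT
seal Cfsg.Agent.H779.G2.GU.instMul Cfsg.Agent.H779.G2.GU.instInv

universe u

/-- `Z₃` is invariant under all automorphisms of `Q_b` -/
def Z3Inv (K : Type u) [Field K] : Prop :=
  ∀ (γ : MulAut (Qb K)) (x : Qb K), pa x = 0 → pc x = 0 → pa (γ x) = 0 ∧ pc (γ x) = 0

variable {K : Type u} [Field K]

theorem v_congr (hZ : Z3Inv K) (γ : MulAut (Qb K)) {x y : Qb K} (ha : pa x = pa y) (hc : pc x = pc y) :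
    pa (γ x) = pa (γ y) ∧ pc (γ x) = pc (γ y) := by
  have e : x = y * (y⁻¹ * x) := by group
  have h1 : pa (y⁻¹ * x) = 0 := by
    have := congrArg pa e
    rw [pa_mul] at this
    linear_combination -this + ha
  have h2 : pc (y⁻¹ * x) = 0 := by
    have := congrArg pc e
    rw [pc_mul] at this
    linear_combination -this + hc
  obtain ⟨h3, h4⟩ := hZ γ _ h1 h2
  have h5 : γ x = γ y * γ (y⁻¹ * x) := by rw [← map_mul, ← e]
  rw [h5, pa_mul, pc_mul, h3, h4, add_zero, add_zero]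
  exact ⟨rfl, rfl⟩

theorem v_ne (hZ : Z3Inv K) (γ : MulAut (Qb K)) {x : Qb K} (h : pa (γ x) = 0 ∧ pc (γ x) = 0) : pa x = 0 ∧ pc x = 0 := by
  have := hZ γ⁻¹ _ h.1 h.2
  rwa [MulAut.inv_apply_self] at this

/-- the action on `Z₃ / Z₂` -/
def al (γ : MulAut (Qb K)) (d : K) : K := pd (γ (mk 0 0 d 0 0))

variable [CharP K 2]

theorem al_add (γ : MulAut (Qb K)) (d d' : K) : al γ (d + d') = al γ d + al γ d' := by
  have e : (mk 0 0 (d + d') 0 0 : Qb K) = mk 0 0 d 0 0 * mk 0 0 d' 0 0 := by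
    apply qext <;> simp
  rw [al, e, map_mul, pd_mul]
  rfl

theorem al_ne (hZ : Z3Inv K) (γ : MulAut (Qb K)) {d : K} (hd : d ≠ 0) : al γ d ≠ 0 := by
  intro h
  obtain ⟨h1, h2⟩ := hZ γ (mk 0 0 d 0 0) rfl rfl
  exact hd ((central_map_iff γ).1 ⟨h1, h2, h⟩).2.2

/-- the action on `Z₂` -/
theorem act_Z2 (hZ : Z3Inv K) (γ : MulAut (Qb K)) (d : K) (x : Qb K) :
    γ (mk 0 0 0 (d * pa x) (d * pc x)) = mk 0 0 0 (al γ d * pa (γ x)) (al γ d * pc (γ x)) := by
  have h := comm_map γ (mk 0 0 d 0 0) x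
  obtain ⟨h1, h2⟩ := hZ γ (mk 0 0 d 0 0) rfl rfl
  simp only [ze, zf, h1, h2, pa_mk, pc_mk, pd_mk, mul_zero, zero_mul, add_zero, ne_eq, OfNat.ofNat_ne_zero,
    not_false_eq_true, zero_pow] at h
  exact h

theorem act_v (hZ : Z3Inv K) (γ : MulAut (Qb K)) (d : K) {x y : Qb K} (ha : pa y = d * pa x) (hc : pc y = d * pc x) :
    al γ 1 * pa (γ y) = al γ d * pa (γ x) ∧ al γ 1 * pc (γ y) = al γ d * pc (γ x) := by
  have h1 := act_Z2 hZ γ d x
  have h2 := act_Z2 hZ γ 1 y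
  rw [one_mul, one_mul, ha, hc, h1] at h2
  exact ⟨(congrArg pe h2).symm, (congrArg pf h2).symm⟩

/-- the action on `Q_b / Z₃` is semilinear -/
theorem semi [Finite K] (hZ : Z3Inv K) (γ : MulAut (Qb K)) : ∃ σ : K ≃+* K, ∀ (d : K) (x y : Qb K),
    pa y = d * pa x → pc y = d * pc x → pa (γ y) = σ d * pa (γ x) ∧ pc (γ y) = σ d * pc (γ x) := by
  have h1 : al γ 1 ≠ 0 := al_ne hZ γ one_ne_zero
  have key : ∀ (d : K) (x y : Qb K), pa y = d * pa x → pc y = d * pc x →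
      pa (γ y) = al γ d / al γ 1 * pa (γ x) ∧ pc (γ y) = al γ d / al γ 1 * pc (γ x) := by
    intro d x y ha hc
    obtain ⟨h3, h4⟩ := act_v hZ γ d ha hc
    constructor
    · field_simp
      linear_combination h3
    · field_simp
      linear_combination h4
  have hmul : ∀ d d' : K, al γ (d * d') / al γ 1 = al γ d / al γ 1 * (al γ d' / al γ 1) := by
    intro d d'
    have e1 := key (d * d') (mk 1 0 0 0 0) (mk (d * d') 0 0 0 0) (by simp) (by simp)
    have e2 := key d (mk d' 0 0 0 0) (mk (d * d') 0 0 0 0) (by simp) (by simp)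
    have e3 := key d' (mk 1 0 0 0 0) (mk d' 0 0 0 0) (by simp) (by simp)
    by_cases h5 : pa (γ (mk 1 0 0 0 0)) = 0
    · have h6 : pc (γ (mk 1 0 0 0 0)) ≠ 0 := by
        intro h6
        exact one_ne_zero (v_ne hZ γ ⟨h5, h6⟩).1
      refine mul_right_cancel₀ h6 ?_
      rw [← e1.2, e2.2, e3.2]
      ring
    · refine mul_right_cancel₀ h5 ?_
      rw [← e1.1, e2.1, e3.1]
      ring
  let φ : K →+* K :=
    { toFun := fun d => al γ d / al γ 1
      map_one' := div_self h1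
      map_mul' := hmul
      map_zero' := by
        have h3 : al γ (0 + 0) = al γ 0 + al γ 0 := al_add γ 0 0
        rw [add_zero] at h3
        have h4 : al γ 0 = 0 := by linear_combination -h3
        simp [h4]
      map_add' := fun d d' => by rw [al_add, add_div] }
  exact ⟨RingEquiv.ofBijective φ (Finite.injective_iff_bijective.1 φ.injective), fun d x y ha hc => key d x y ha hc⟩

/-- the action on `d*` -/
theorem ds_map (hZ : Z3Inv K) (γ : MulAut (Qb K)) (x : Qb K) : ds (γ x) = al γ (ds x) := by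
  by_cases hv : pa (γ x) = 0 ∧ pc (γ x) = 0
  · obtain ⟨h1, h2⟩ := v_ne hZ γ hv
    have e : x = mk 0 0 (pd x) 0 0 * mk 0 0 0 (pe x) (pf x) := by
      apply qext <;> simp [h1, h2]
    have h3 : pd (γ (mk 0 0 0 (pe x) (pf x))) = 0 := (central_map γ ⟨rfl, rfl, rfl⟩).2.2
    have h4 : γ x = γ (mk 0 0 (pd x) 0 0) * γ (mk 0 0 0 (pe x) (pf x)) := by rw [← map_mul, ← e]
    have h5 : pd (γ x) = al γ (pd x) := by
      rw [h4, pd_mul, h3, add_zero]
      rfl
    simp [ds, hv.1, hv.2, h1, h2, h5]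
  · have h1 := sq_map γ x
    rw [act_Z2 hZ γ (ds x) x] at h1
    obtain ⟨h2, h3⟩ := mk_eq_iff.1 h1
    by_cases ha : pa (γ x) = 0
    · have hc : pc (γ x) ≠ 0 := fun h => hv ⟨ha, h⟩
      exact (mul_right_cancel₀ hc h3).symm
    · exact (mul_right_cancel₀ ha h2).symm

/-! ### The kernel of the action on `Q_b / Z₃` -/

variable (K) in
omit [CharP K 2] in
/-- the kernel of the action on `Q_b / Z₃` -/
def Cg : Subgroup (MulAut (Qb K)) where
  carrier := {γ | ∀ g, pa (γ g) = pa g ∧ pc (γ g) = pc g}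
  one_mem' := fun _ => ⟨rfl, rfl⟩
  mul_mem' := by
    intro a b ha hb g
    exact ⟨(ha (b g)).1.trans (hb g).1, (ha (b g)).2.trans (hb g).2⟩
  inv_mem' := by
    intro a ha g
    have := ha (a⁻¹ g)
    rw [MulAut.apply_inv_self] at this
    exact ⟨this.1.symm, this.2.symm⟩

omit [CharP K 2] in
theorem Cg_normal (hZ : Z3Inv K) : (Cg K).Normal := by
  refine ⟨fun n hn γ g => ?_⟩
  have h1 := hn (γ⁻¹ g)
  have h2 := v_congr hZ γ h1.1 h1.2
  rw [MulAut.apply_inv_self] at h2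
  exact h2

theorem al_of_mem (hZ : Z3Inv K) {γ : MulAut (Qb K)} (hγ : γ ∈ Cg K) (d : K) : al γ d = d := by
  have h1 : ∀ d, al γ d = al γ 1 * d := by
    intro d
    have h3 := (act_v hZ γ d (x := mk 1 0 0 0 0) (y := mk d 0 0 0 0) (by simp) (by simp)).1
    rw [(hγ _).1, (hγ _).1] at h3
    simp only [pa_mk, mul_one] at h3
    exact h3.symm
  have h2 := ds_map hZ γ (mk 1 0 0 0 0 * mk 0 1 0 0 0)
  rw [map_mul, ds_mul, ds_mul, ds_map hZ, ds_map hZ, (hγ _).1, (hγ _).1, (hγ _).2, (hγ _).2] at h2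
  have h3 : ds (mk 1 0 0 0 0 : Qb K) = 0 := by simp [ds]
  have h4 : ds (mk 0 1 0 0 0 : Qb K) = 0 := by simp [ds]
  simp only [h3, h4, pa_mk, pc_mk, add_zero, zero_add, mul_one, mul_zero] at h2
  rw [h1 0] at h2
  have h5 : al γ 1 = 1 := by linear_combination -h2
  rw [h1, h5, one_mul]

theorem cg_pd (hZ : Z3Inv K) {γ : MulAut (Qb K)} (hγ : γ ∈ Cg K) (x : Qb K) : pd (γ x) = pd x := by
  have h := ds_map hZ γ x
  rw [al_of_mem hZ hγ] at h
  simp only [ds, (hγ x).1, (hγ x).2] at h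
  linear_combination h

theorem cg_fix (hZ : Z3Inv K) {γ : MulAut (Qb K)} (hγ : γ ∈ Cg K) {x : Qb K} (h : pa x = 0 ∧ pc x = 0 ∧ pd x = 0) :
    γ x = x := by
  have e : x = mk 0 0 0 (1 * pa (mk (pe x) (pf x) 0 0 0)) (1 * pc (mk (pe x) (pf x) 0 0 0)) := by
    apply qext <;> simp [h.1, h.2.1, h.2.2]
  have h2 := act_Z2 hZ γ 1 (mk (pe x) (pf x) 0 0 0)
  rw [← e, al_of_mem hZ hγ, (hγ _).1, (hγ _).2] at h2
  exact h2.trans e.symm

theorem cg_split (hZ : Z3Inv K) {γ : MulAut (Qb K)} (hγ : γ ∈ Cg K) (x : Qb K) :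
    ∃ h : Qb K, (pa h = 0 ∧ pc h = 0 ∧ pd h = 0) ∧ γ x = x * h := by
  refine ⟨x⁻¹ * γ x, ⟨?_, ?_, ?_⟩, by group⟩
  · rw [pa_mul, (hγ x).1, ← pa_mul, inv_mul_cancel, pa_one]
  · rw [pc_mul, (hγ x).2, ← pc_mul, inv_mul_cancel, pc_one]
  · rw [pd_mul, cg_pd hZ hγ, ← pd_mul, inv_mul_cancel, pd_one]

theorem sq_central {h : Qb K} (hh : pa h = 0 ∧ pc h = 0 ∧ pd h = 0) : h * h = 1 := by
  rw [sq_eq, hh.1, hh.2.1, mul_zero]
  rfl

theorem cg_sq (hZ : Z3Inv K) {γ : MulAut (Qb K)} (hγ : γ ∈ Cg K) : γ * γ = 1 := by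
  apply MulEquiv.ext
  intro x
  obtain ⟨h, hh, e⟩ := cg_split hZ hγ x
  show γ (γ x) = x
  rw [e, map_mul, e, cg_fix hZ hγ hh, mul_assoc, sq_central hh, mul_one]

theorem cg_comm (hZ : Z3Inv K) {γ δ : MulAut (Qb K)} (hγ : γ ∈ Cg K) (hδ : δ ∈ Cg K) : γ * δ = δ * γ := by
  apply MulEquiv.ext
  intro x
  obtain ⟨h, hh, e⟩ := cg_split hZ hγ x
  obtain ⟨k, hk, e'⟩ := cg_split hZ hδ x
  show γ (δ x) = δ (γ x)
  rw [e, e', map_mul, map_mul, e, e', cg_fix hZ hγ hk, cg_fix hZ hδ hh, mul_assoc, mul_assoc,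
    (central_iff h).2 hh k]

/-- the elements of `Γ` acting trivially on `Q_b / Z₃` are in `Aut_S(Q_b)` -/
theorem ker_le {Γ : Subgroup (MulAut (Qb K))} (hZ : Z3Inv K)
    (syl : ∀ P : Subgroup (MulAut (Qb K)), P ≤ Γ → IsPGroup 2 P → ∃ g ∈ Γ, ∀ x ∈ P, g * x * g⁻¹ ∈ autInducedBy ⊤ (Qb K))
    {u : MulAut (Qb K)} (hu : u ∈ Γ) (hu' : u ∈ Cg K) : u ∈ autInducedBy ⊤ (Qb K) := by
  have hp : IsPGroup 2 (Γ ⊓ Cg K : Subgroup (MulAut (Qb K))) := by
    intro g
    refine ⟨1, Subtype.ext ?_⟩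
    rw [pow_one, pow_two, Subgroup.coe_mul, Subgroup.coe_one]
    exact cg_sq hZ g.2.2
  obtain ⟨g, hg, h⟩ := syl _ inf_le_left hp
  have hn := Cg_normal hZ
  have h1 : g⁻¹ * u * g ∈ (Γ ⊓ Cg K : Subgroup (MulAut (Qb K))) := by
    refine ⟨Γ.mul_mem (Γ.mul_mem (Γ.inv_mem hg) hu) hg, ?_⟩
    have := hn.conj_mem u hu' g⁻¹
    rwa [inv_inv] at this
  have h2 := h _ h1
  have e : g * (g⁻¹ * u * g) * g⁻¹ = u := by group
  rwa [e] at h2

end Cfsg.Agent.H10.GT
end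

-- part: H10/GT/Tor
section
/-!
# S5211, (Lb) for `p = 2`, `q ≥ 8`: the subgroup `SL₂(q)` and its torus
-/

set_option autoImplicit false

namespace Cfsg.Agent.H10.GT

open Cfsg Cfsg.FusionSystem Cfsg.Agent.H779.G2 Cfsg.Agent.H756.PU Cfsg.Agent.H802 Cfsg.Agent.H103.GT
seal Cfsg.Agent.H779.G2.GU.instMul Cfsg.Agent.H779.G2.GU.instInv

universe u

variable {K : Type u} [Field K]

/-- the matrix of `γ` on `Q_b / Z₃` -/
structure Mat (γ : MulAut (Qb K)) (σ : K ≃+* K) (p r m w : K) : Prop where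
  det : p * w - r * m ≠ 0
  a : ∀ g, pa (γ g) = σ (pa g) * p + σ (pc g) * r
  c : ∀ g, pc (γ g) = σ (pa g) * m + σ (pc g) * w

theorem exists_mat [CharP K 2] [Finite K] (hZ : Z3Inv K) (γ : MulAut (Qb K)) :
    ∃ (σ : K ≃+* K) (p r m w : K), Mat γ σ p r m w := by
  obtain ⟨σ, hσ⟩ := semi hZ γ
  have hv : ∀ g, pa (γ g) = σ (pa g) * pa (γ (mk 1 0 0 0 0)) + σ (pc g) * pa (γ (mk 0 1 0 0 0)) ∧
      pc (γ g) = σ (pa g) * pc (γ (mk 1 0 0 0 0)) + σ (pc g) * pc (γ (mk 0 1 0 0 0)) := by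
    intro g
    obtain ⟨h1, h2⟩ := v_congr hZ γ (x := g) (y := mk (pa g) 0 0 0 0 * mk 0 (pc g) 0 0 0) (by simp) (by simp)
    obtain ⟨h3, h4⟩ := hσ (pa g) (mk 1 0 0 0 0) (mk (pa g) 0 0 0 0) (by simp) (by simp)
    obtain ⟨h5, h6⟩ := hσ (pc g) (mk 0 1 0 0 0) (mk 0 (pc g) 0 0 0) (by simp) (by simp)
    rw [h1, h2, map_mul, pa_mul, pc_mul, h3, h4, h5, h6]
    exact ⟨rfl, rfl⟩
  refine ⟨σ, _, _, _, _, ?_, fun g => (hv g).1, fun g => (hv g).2⟩
  set p := pa (γ (mk 1 0 0 0 0)) with hp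
  set r := pa (γ (mk 0 1 0 0 0)) with hr
  set m := pc (γ (mk 1 0 0 0 0)) with hm
  set w := pc (γ (mk 0 1 0 0 0)) with hw
  intro hdet
  have key : ∀ a c : K, a * p + c * r = 0 → a * m + c * w = 0 → a = 0 ∧ c = 0 := by
    intro a c h1 h2
    have h3 := v_ne hZ γ (x := mk (σ.symm a) (σ.symm c) 0 0 0) ⟨by rw [(hv _).1]; simpa only [_root_.Cfsg.Agent.H10.GT.pa_mk, _root_.RingEquiv.apply_symm_apply, _root_.Cfsg.Agent.H10.GT.pc_mk] using h1, by
      rw [(hv _).2]; simpa only [_root_.Cfsg.Agent.H10.GT.pa_mk, _root_.RingEquiv.apply_symm_apply, _root_.Cfsg.Agent.H10.GT.pc_mk] using h2⟩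
    simp only [pa_mk, pc_mk, EmbeddingLike.map_eq_zero_iff] at h3
    exact h3
  obtain ⟨hr0, hp0⟩ := key r (-p) (by ring) (by linear_combination -hdet)
  obtain ⟨hw0, hm0⟩ := key w (-m) (by linear_combination hdet) (by ring)
  obtain ⟨h1, -⟩ := key 1 0 (by linear_combination -hp0) (by linear_combination -hm0)
  exact one_ne_zero h1

theorem same_mem {γ δ : MulAut (Qb K)} (h : ∀ g, pa (γ g) = pa (δ g) ∧ pc (γ g) = pc (δ g)) : γ * δ⁻¹ ∈ Cg K := by
  intro g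
  have := h (δ⁻¹ g)
  rw [MulAut.apply_inv_self] at this
  exact this

theorem same_mem' (hZ : Z3Inv K) {γ δ : MulAut (Qb K)} (h : ∀ g, pa (γ g) = pa (δ g) ∧ pc (γ g) = pc (δ g)) :
    γ⁻¹ * δ ∈ Cg K := by
  intro g
  have h1 := h g
  have h2 := v_congr hZ γ⁻¹ h1.1.symm h1.2.symm
  rw [MulAut.inv_apply_self] at h2
  exact h2

variable {Γ : Subgroup (MulAut (Qb K))} {D : Subgroup (MulAut (GU K))}

theorem norm_of_fix [CharP K 2] [Finite K] (hZ : Z3Inv K) (h : Par 2 (Qb K) Γ D) {γ : MulAut (Qb K)} (hγ : γ ∈ Γ)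
    (hf : ∀ g, pa g = 0 → pa (γ g) = 0) : NormAut ⊤ γ := by
  intro x hx
  obtain ⟨y, rfl⟩ := eq_cj_of_mem hx
  obtain ⟨σ, p, r, m, w, hM⟩ := exists_mat hZ γ
  have hr : r = 0 := by
    have h1 := hM.a (mk 0 1 0 0 0)
    rw [hf _ rfl] at h1
    simp only [pa_mk, pc_mk, map_zero, map_one, zero_mul, one_mul, zero_add] at h1
    exact h1.symm
  have hp : p ≠ 0 := by
    intro hp
    exact hM.det (by rw [hr, hp]; ring)
  have h1 : γ * cj y * (cj (x2 (σ y.b * w / p)) * γ)⁻¹ ∈ Cg K := by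
    apply same_mem
    intro g
    rw [MulAut.mul_apply, MulAut.mul_apply, hM.a, hM.c, pa_cj, pa_cj, pc_cj, pc_cj, hM.a, hM.c, hr]
    constructor
    · ring
    · rw [map_add, map_mul]
      simp only [x2]
      field_simp
      ring
  have h2 : γ * cj y * (cj (x2 (σ y.b * w / p)) * γ)⁻¹ ∈ Γ :=
    Γ.mul_mem (Γ.mul_mem hγ (h.indu hx)) (Γ.inv_mem (Γ.mul_mem (h.indu (cj_mem _)) hγ))
  have h3 := ker_le hZ h.syl h2 h1
  have e : γ * cj y * γ⁻¹ = γ * cj y * (cj (x2 (σ y.b * w / p)) * γ)⁻¹ * cj (x2 (σ y.b * w / p)) := by group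
  rw [e]
  exact mul_mem h3 (cj_mem _)

theorem exists_Y [CharP K 2] [Finite K] (hZ : Z3Inv K) (h : Par 2 (Qb K) Γ D) (y : K) :
    ∃ ρ ∈ Γ, ∀ g, pa (ρ g) = pa g + y * pc g ∧ pc (ρ g) = pc g := by
  obtain ⟨γ0, hγ0, hn⟩ : ∃ γ ∈ Γ, ¬ NormAut ⊤ γ := by
    by_contra hc
    push Not at hc
    exact h.nn hc
  obtain ⟨σ, p, r, m, w, hM⟩ := exists_mat hZ γ0
  have hr : r ≠ 0 := by
    intro hr
    refine hn (norm_of_fix hZ h hγ0 fun g hg => ?_)
    rw [hM.a, hg, hr]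
    simp
  set! γ1 := cj (x2 (w / r)) * γ0 with hγ1
  have hmem : γ1 ∈ Γ := Γ.mul_mem (h.indu (cj_mem _)) hγ0
  have ha : ∀ g, pa (γ1 g) = σ (pa g) * p + σ (pc g) * r := by
    intro g
    rw [hγ1, MulAut.mul_apply, pa_cj, hM.a]
  have hc : ∀ g, pc (γ1 g) = σ (pa g) * (m + w / r * p) := by
    intro g
    rw [hγ1, MulAut.mul_apply, pc_cj, hM.a, hM.c]
    simp only [x2]
    field_simp
    linear_combination (σ (pc g) * w * r) * h2' (K := K)
  have hm : m + w / r * p ≠ 0 := by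
    intro h0
    apply hM.det
    have h1 : m = - (w / r * p) := by linear_combination h0
    rw [h1]
    field_simp
    linear_combination (p * w) * h2' (K := K)
  refine ⟨γ1 * cj (x2 (σ.symm (y * (m + w / r * p) / r))) * γ1⁻¹,
    Γ.mul_mem (Γ.mul_mem hmem (h.indu (cj_mem _))) (Γ.inv_mem hmem), fun g => ?_⟩
  obtain ⟨g, rfl⟩ := γ1.surjective g
  rw [MulAut.mul_apply, MulAut.inv_apply_self, MulAut.mul_apply, ha, hc, hc, ha, pa_cj, pc_cj]
  refine ⟨?_, rfl⟩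
  simp only [x2, map_add, map_mul, RingEquiv.apply_symm_apply]
  rw [div_mul_eq_mul_div]
  field_simp
  ring

/-- the element `n(t)` of `SL₂(q)` -/
theorem exists_n [CharP K 2] [Finite K] (hZ : Z3Inv K) (h : Par 2 (Qb K) Γ D) {t : K} (ht : t ≠ 0) :
    ∃ ρ ∈ Γ, ∀ g, pa (ρ g) = t⁻¹ * pc g ∧ pc (ρ g) = t * pa g := by
  obtain ⟨η, hη, hη'⟩ := exists_Y hZ h t⁻¹
  refine ⟨cj (x2 t) * η * cj (x2 t), Γ.mul_mem (Γ.mul_mem (h.indu (cj_mem _)) hη) (h.indu (cj_mem _)), fun g => ?_⟩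
  rw [MulAut.mul_apply, MulAut.mul_apply, pa_cj, pc_cj, (hη' _).1, (hη' _).2, pa_cj, pc_cj]
  simp only [x2]
  constructor
  · field_simp
    linear_combination (t * pa g) * h2' (K := K)
  · field_simp
    linear_combination (pc g + t * pa g) * h2' (K := K)

theorem exists_diag [CharP K 2] [Finite K] (hZ : Z3Inv K) (h : Par 2 (Qb K) Γ D) {t : K} (ht : t ≠ 0) :
    ∃ ρ ∈ Γ, ∀ g, pa (ρ g) = t⁻¹ * pa g ∧ pc (ρ g) = t * pc g := by
  obtain ⟨η, hη, hη'⟩ := exists_n hZ h ht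
  obtain ⟨ζ, hζ, hζ'⟩ := exists_n hZ h (one_ne_zero (α := K))
  refine ⟨η * ζ, Γ.mul_mem hη hζ, fun g => ?_⟩
  rw [MulAut.mul_apply, (hη' _).1, (hη' _).2, (hζ' _).1, (hζ' _).2]
  simp

theorem no_gr [CharP K 2] {ρ : MulAut (GU K)} (h : IsGr ρ) : False := by
  have h3 := h.three
  have h1 : (1 : K) = 0 := by linear_combination h3 - h2' (K := K)
  exact one_ne_zero h1

theorem hasTor [CharP K 2] [Finite K] (hZ : Z3Inv K) (h : Par 2 (Qb K) Γ D) :
    HasTor D (fun t => t⁻¹) (fun t => t ^ 2) := by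
  intro t ht α hα
  obtain ⟨ρ, hρ, hρ'⟩ := exists_diag hZ h ht
  have hN : NormAut ⊤ ρ := norm_of_fix hZ h hρ fun g hg => by rw [(hρ' g).1, hg, mul_zero]
  obtain ⟨x, d, hd, hx⟩ := h.norm ρ hρ hN
  rcases mem_TT (h.D_le hd) with ⟨s, t', τ, hT⟩ | ⟨_, _, _, _, ρ', _, hgr, _⟩
  · have h1 : ∀ g : Qb K, t⁻¹ * pa g = s * τ (pa g) := by
      intro g
      rw [← (hρ' g).1]
      have := congrArg GU.a (hx g)
      rw [cj_a, hT.a] at this
      exact this
    have hs : s = t⁻¹ := by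
      have := h1 (mk 1 0 0 0 0)
      simp only [pa_mk, map_one, mul_one] at this
      exact this.symm
    have hτ : τ = RingEquiv.refl K := by
      apply RingEquiv.ext
      intro a
      have h2 := h1 (mk a 0 0 0 0)
      rw [hs] at h2
      simp only [pa_mk] at h2
      exact (mul_left_cancel₀ (inv_ne_zero ht) h2).symm
    have ht' : t' = t ^ 2 := by
      have h2 := congrArg GU.c (hx (mk 0 1 0 0 0))
      have h3 := (hρ' (mk 0 1 0 0 0)).2
      rw [cj_c, hT.a, hT.c, hT.b] at h2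
      have h4 : pc (ρ (mk 0 1 0 0 0)) = ((ρ (mk 0 1 0 0 0) : Qb K) : GU K).c := rfl
      rw [h4, h2] at h3
      simp only [mk, pc, hτ, hs, RingEquiv.coe_refl, id_eq, mul_zero, add_zero, mul_one] at h3
      field_simp at h3
      linear_combination h3
    have e : α = d := by
      refine tor_unique hα ?_
      rw [hs, hτ, ht'] at hT
      exact hT
    rw [e]
    exact hd
  · exact (no_gr hgr).elim

end Cfsg.Agent.H10.GT
end

-- part: H10/GT/Omega
section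
/-!
# S5211, (Lb) for `p = 2`, `q ≥ 8`: the Weyl element belongs to `Γ` if the torus does
-/

set_option autoImplicit false

namespace Cfsg.Agent.H10.GT

open Cfsg Cfsg.FusionSystem Cfsg.Agent.H779.G2 Cfsg.Agent.H756.PU Cfsg.Agent.H802 Cfsg.Agent.H103.GT
seal Cfsg.Agent.H779.G2.GU.instMul Cfsg.Agent.H779.G2.GU.instInv

universe u

/-! ### Averaging -/

section avg

variable {A : Type*} [Group A] {N C : Subgroup A} [hN : N.Normal] [hC : C.Normal]

theorem avg (hcc : ∀ x ∈ C, ∀ y ∈ C, x * y = y * x) (hsq : ∀ x ∈ C, x * x = 1) {u τ : A} (hu : u ∈ C)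
    (hcom : u * τ * u⁻¹ * τ⁻¹ ∈ N) {m : ℕ} (hm : Odd m) (hτ : τ ^ m = 1) :
    (u * τ) ^ m ∈ C ∧ (u * τ) ^ m * u⁻¹ ∈ N ∧ τ * (u * τ) ^ m = (u * τ) ^ m * τ := by
  have h1 : (u * τ) ^ m ∈ C := by
    rw [← QuotientGroup.eq_one_iff, QuotientGroup.mk_pow, QuotientGroup.mk_mul, (QuotientGroup.eq_one_iff u).2 hu,
      one_mul, ← QuotientGroup.mk_pow, hτ, QuotientGroup.mk_one]
  refine ⟨h1, ?_, ?_⟩
  · have hc : Commute (u : A ⧸ N) (τ : A ⧸ N) := by
      have h2 : ((u * τ * u⁻¹ * τ⁻¹ : A) : A ⧸ N) = 1 := (QuotientGroup.eq_one_iff _).2 hcom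
      rw [QuotientGroup.mk_mul, QuotientGroup.mk_mul, QuotientGroup.mk_mul, QuotientGroup.mk_inv,
        QuotientGroup.mk_inv] at h2
      show (u : A ⧸ N) * τ = τ * u
      rw [← mul_inv_eq_iff_eq_mul, ← mul_inv_eq_one]
      exact h2
    rw [← QuotientGroup.eq_one_iff, QuotientGroup.mk_mul, QuotientGroup.mk_pow, QuotientGroup.mk_mul, hc.mul_pow,
      ← QuotientGroup.mk_pow, ← QuotientGroup.mk_pow, hτ, QuotientGroup.mk_one, mul_one, ← QuotientGroup.mk_mul]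
    obtain ⟨k, rfl⟩ := hm
    rw [pow_succ, pow_mul, pow_two, hsq u hu, one_pow, one_mul, mul_inv_cancel, QuotientGroup.mk_one]
  · have h2 : τ * (u * τ) ^ m * τ⁻¹ = (τ * u) ^ m := by
      have : τ * u = τ * (u * τ) * τ⁻¹ := by group
      rw [this, conj_pow]
    have h3 : u⁻¹ * (u * τ) ^ m * u = (τ * u) ^ m := by
      have : τ * u = u⁻¹ * (u * τ) * u⁻¹⁻¹ := by group
      rw [this, conj_pow, inv_inv]
    have h4 : u⁻¹ * (u * τ) ^ m * u = (u * τ) ^ m := by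
      rw [mul_assoc, hcc _ h1 u hu]
      group
    have h5 : τ * (u * τ) ^ m * τ⁻¹ = (u * τ) ^ m := by rw [h2, ← h3, h4]
    rwa [mul_inv_eq_iff_eq_mul] at h5

end avg

variable {K : Type u} [Field K]

/-- inner automorphisms of `Q_b` -/
theorem inn_normal : ((MulAut.conj : Qb K →* MulAut (Qb K)).range).Normal := by
  refine ⟨?_⟩
  rintro _ ⟨x, rfl⟩ γ
  refine ⟨γ x, MulEquiv.ext fun y => ?_⟩
  simp only [MulAut.conj_apply, MulAut.mul_apply, map_mul, map_inv, MulAut.apply_inv_self]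

theorem exists_res {d : MulAut (GU K)} [Finite K] {s t : K} {τ : K ≃+* K} (h : IsTor d s t τ) :
    ∃ γ : MulAut (Qb K), IsR d γ := by
  refine ⟨mkAut (fun g : Qb K => ⟨d g, ?_⟩) ?_ ?_, fun e => rfl⟩
  · show (d g).b = 0
    have hg : (g : GU K).b = 0 := g.2
    rw [h.b, hg, map_zero, mul_zero]
  · intro x y
    exact Subtype.ext (map_mul d _ _)
  · intro x hx
    have h1 : d (x : GU K) = 1 := congrArg Subtype.val hx
    exact Subtype.ext ((map_eq_one_iff d d.injective).1 h1)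

section res

variable {d : MulAut (GU K)} {γ : MulAut (Qb K)} {s t : K} {τ : K ≃+* K}

theorem pa_res (h : IsTor d s t τ) (hr : IsR d γ) (g : Qb K) : pa (γ g) = s * τ (pa g) :=
  (congrArg GU.a (hr g)).trans (h.a g)

theorem pc_res (h : IsTor d s t τ) (hr : IsR d γ) (g : Qb K) : pc (γ g) = s * t * τ (pc g) :=
  (congrArg GU.c (hr g)).trans (h.c g)

theorem pd_res (h : IsTor d s t τ) (hr : IsR d γ) (g : Qb K) : pd (γ g) = s ^ 2 * t * τ (pd g) :=
  (congrArg GU.d (hr g)).trans (h.d g)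

theorem pe_res (h : IsTor d s t τ) (hr : IsR d γ) (g : Qb K) : pe (γ g) = s ^ 3 * t * τ (pe g) :=
  (congrArg GU.e (hr g)).trans (h.e g)

theorem pf_res (h : IsTor d s t τ) (hr : IsR d γ) (g : Qb K) : pf (γ g) = s ^ 3 * t ^ 2 * τ (pf g) :=
  (congrArg GU.f (hr g)).trans (h.f g)

end res

theorem res_pow {d : MulAut (GU K)} {γ : MulAut (Qb K)} (h : IsR d γ) (n : ℕ) : IsR (d ^ n) (γ ^ n) := by
  induction n with
  | zero => intro e; simp
  | succ n ih =>
    intro e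
    rw [pow_succ, pow_succ, MulAut.mul_apply, MulAut.mul_apply, ih, h]

theorem wb_tor [CharP K 2] {d d' : MulAut (GU K)} {γ γ' ω : MulAut (Qb K)} {s t : K}
    (h : IsTor d s t (RingEquiv.refl K)) (h' : IsTor d' (s * t) t⁻¹ (RingEquiv.refl K)) (hr : IsR d γ) (hr' : IsR d' γ')
    (hω : IsWb ω) : ω * γ = γ' * ω := by
  have ht := h.ne2
  have ha : ∀ g, pa (ω g) = pc g := fun g => (hω.a g).trans (by
    show - pc g = pc g
    linear_combination -(pc g) * h2' (K := K))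
  have hc : ∀ g, pc (ω g) = pa g := hω.c
  have hd : ∀ g, pd (ω g) = pd g := fun g => (hω.d g).trans (by
    show pd g - 2 * pa g * pc g = pd g
    linear_combination -(pa g * pc g) * h2' (K := K))
  have he : ∀ g, pe (ω g) = pf g + pa g * pc g ^ 2 := fun g => (hω.e g).trans (by
    show - pf g + 3 * pa g * pc g ^ 2 = pf g + pa g * pc g ^ 2
    linear_combination (-(pf g) + pa g * pc g ^ 2) * h2' (K := K))
  have hf : ∀ g, pf (ω g) = pe g + pa g ^ 2 * pc g := fun g => (hω.f g).trans (by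
    show pe g - 3 * pa g ^ 2 * pc g = pe g + pa g ^ 2 * pc g
    linear_combination (-2 * (pa g ^ 2 * pc g)) * h2' (K := K))
  apply MulEquiv.ext
  intro g
  rw [MulAut.mul_apply, MulAut.mul_apply]
  apply qext
  · rw [ha, pa_res h' hr', ha, pc_res h hr]
  · rw [hc, pc_res h' hr', hc, pa_res h hr]
    simp only [RingEquiv.coe_refl, id_eq]
    field_simp
  · rw [hd, pd_res h' hr', hd, pd_res h hr]
    simp only [RingEquiv.coe_refl, id_eq]
    field_simp
  · rw [he, pe_res h' hr', he, pf_res h hr, pa_res h hr, pc_res h hr]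
    simp only [RingEquiv.coe_refl, id_eq]
    field_simp
  · rw [hf, pf_res h' hr', hf, pe_res h hr, pa_res h hr, pc_res h hr]
    simp only [RingEquiv.coe_refl, id_eq]
    field_simp

theorem fix_of_comm [CharP K 2] (hZ : Z3Inv K) {u γ : MulAut (Qb K)} (hu : u ∈ Cg K) (hc : γ * u = u * γ)
    {d : MulAut (GU K)} {s t : K} (h : IsTor d s t (RingEquiv.refl K)) (hr : IsR d γ) (h1 : s ^ 3 * t ≠ 1)
    (h2 : s ^ 3 * t ^ 2 ≠ 1) {g : Qb K} (hg : γ g = g) (he : pe g = 0) (hf : pf g = 0) : u g = g := by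
  have e : γ (u g) = u g := by
    rw [← MulAut.mul_apply, hc, MulAut.mul_apply, hg]
  apply qext
  · exact (hu g).1
  · exact (hu g).2
  · exact cg_pd hZ hu g
  · have h3 := pe_res h hr (u g)
    rw [e] at h3
    simp only [RingEquiv.coe_refl, id_eq] at h3
    have h4 : (1 - s ^ 3 * t) * pe (u g) = 0 := by linear_combination h3
    rcases mul_eq_zero.1 h4 with h5 | h5
    · exact absurd (by linear_combination -h5) h1
    · rw [h5, he]
  · have h3 := pf_res h hr (u g)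
    rw [e] at h3
    simp only [RingEquiv.coe_refl, id_eq] at h3
    have h4 : (1 - s ^ 3 * t ^ 2) * pf (u g) = 0 := by linear_combination h3
    rcases mul_eq_zero.1 h4 with h5 | h5
    · exact absurd (by linear_combination -h5) h2
    · rw [h5, hf]

/-- an element of the kernel commuting with the three torus elements is trivial -/
theorem eq_one_of_comm [CharP K 2] (hZ : Z3Inv K) {u γ1 γ2 γ3 : MulAut (Qb K)} (hu : u ∈ Cg K)
    (hc1 : γ1 * u = u * γ1) (hc2 : γ2 * u = u * γ2) (hc3 : γ3 * u = u * γ3) {d1 d2 d3 : MulAut (GU K)} {t : K}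
    (ht : t ≠ 0) (ht1 : t ≠ 1)
    (h1 : IsTor d1 1 t (RingEquiv.refl K)) (h2 : IsTor d2 t⁻¹ t (RingEquiv.refl K))
    (h3 : IsTor d3 t (t ^ 2)⁻¹ (RingEquiv.refl K)) (hr1 : IsR d1 γ1) (hr2 : IsR d2 γ2) (hr3 : IsR d3 γ3) : u = 1 := by
  have ht2 : t ^ 2 ≠ 1 := by
    intro h
    have h4 : (t + 1) * (t + 1) = 0 := by linear_combination h + (t + 1) * h2' (K := K)
    have h5 : t + 1 = 0 := mul_self_eq_zero.1 h4
    exact ht1 (by linear_combination h5 - h2' (K := K))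
  have hti : t⁻¹ ≠ 1 := fun h => ht1 (inv_eq_one.1 h)
  have ea : ∀ a : K, u (mk a 0 0 0 0) = mk a 0 0 0 0 := by
    intro a
    refine fix_of_comm hZ hu hc1 h1 hr1 (by simpa using ht1) (by simpa only [_root_.one_pow, _root_.one_mul, _root_.ne_eq, _root_.sq_eq_one_iff, _root_.not_or] using ht2) ?_ rfl rfl
    apply qext
    · rw [pa_res h1 hr1]; simp
    · rw [pc_res h1 hr1]; simp
    · rw [pd_res h1 hr1]; simp
    · rw [pe_res h1 hr1]; simp
    · rw [pf_res h1 hr1]; simp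
  have ec : ∀ a : K, u (mk 0 a 0 0 0) = mk 0 a 0 0 0 := by
    intro a
    refine fix_of_comm hZ hu hc2 h2 hr2 ?_ ?_ ?_ rfl rfl
    · intro h
      field_simp at h
      exact ht2 h.symm
    · intro h
      field_simp at h
      exact ht1 h.symm
    apply qext
    · rw [pa_res h2 hr2]; simp
    · rw [pc_res h2 hr2]; simp [ht]
    · rw [pd_res h2 hr2]; simp
    · rw [pe_res h2 hr2]; simp
    · rw [pf_res h2 hr2]; simp
  have ed : ∀ a : K, u (mk 0 0 a 0 0) = mk 0 0 a 0 0 := by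
    intro a
    refine fix_of_comm hZ hu hc3 h3 hr3 ?_ ?_ ?_ rfl rfl
    · intro h
      field_simp at h
      exact ht1 h
    · intro h
      field_simp at h
      exact ht1 h.symm
    apply qext
    · rw [pa_res h3 hr3]; simp
    · rw [pc_res h3 hr3]; simp
    · rw [pd_res h3 hr3]; simp [ht]
    · rw [pe_res h3 hr3]; simp
    · rw [pf_res h3 hr3]; simp
  apply MulEquiv.ext
  intro g
  have hz : pa ((mk (pa g) 0 0 0 0 * mk 0 (pc g) 0 0 0 * mk 0 0 (pd g) 0 0)⁻¹ * g) = 0 ∧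
      pc ((mk (pa g) 0 0 0 0 * mk 0 (pc g) 0 0 0 * mk 0 0 (pd g) 0 0)⁻¹ * g) = 0 ∧
      pd ((mk (pa g) 0 0 0 0 * mk 0 (pc g) 0 0 0 * mk 0 0 (pd g) 0 0)⁻¹ * g) = 0 := by
    refine ⟨?_, ?_, ?_⟩
    · rw [pa_mul, pa_inv2]
      simp only [pa_mul, pa_mk]
      linear_combination (pa g) * h2' (K := K)
    · rw [pc_mul, pc_inv2]
      simp only [pc_mul, pc_mk]
      linear_combination (pc g) * h2' (K := K)
    · rw [pd_mul, pd_inv2]
      simp only [pd_mul, pd_mk]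
      linear_combination (pd g) * h2' (K := K)
  have e : g = mk (pa g) 0 0 0 0 * mk 0 (pc g) 0 0 0 * mk 0 0 (pd g) 0 0 *
      ((mk (pa g) 0 0 0 0 * mk 0 (pc g) 0 0 0 * mk 0 0 (pd g) 0 0)⁻¹ * g) := by group
  show u g = g
  conv_lhs => rw [e]
  rw [map_mul, cg_fix hZ hu hz, map_mul, map_mul, ea, ec, ed, ← e]

variable {Γ : Subgroup (MulAut (Qb K))} {D : Subgroup (MulAut (GU K))}

theorem com_mem [CharP K 2] (hZ : Z3Inv K) (h : Par 2 (Qb K) Γ D) (hF : Full D) {u w ω : MulAut (Qb K)} (hω : IsWb ω)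
    (hw : w ∈ Γ) (hu : u = w⁻¹ * ω) (huC : u ∈ Cg K) {d : MulAut (GU K)} {γ : MulAut (Qb K)} {s t : K}
    (hd : IsTor d s t (RingEquiv.refl K)) (hr : IsR d γ) [Finite K] :
    u * γ * u⁻¹ * γ⁻¹ ∈ (MulAut.conj : Qb K →* MulAut (Qb K)).range := by
  obtain ⟨d', hd'⟩ := exists_tor (s := s * t) (t := t⁻¹) (RingEquiv.refl K) (mul_ne_zero hd.ne1 hd.ne2)
    (inv_ne_zero hd.ne2)
  obtain ⟨γ', hr'⟩ := exists_res hd'
  have e1 := wb_tor hd hd' hr hr' hω
  have hγ : γ ∈ Γ := h.D_res d (hF _ _ _ hd) _ hr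
  have hγ' : γ' ∈ Γ := h.D_res d' (hF _ _ _ hd') _ hr'
  have e2 : u * γ * u⁻¹ * γ⁻¹ = w⁻¹ * γ' * w * γ⁻¹ := by
    rw [hu, mul_assoc w⁻¹ ω γ, e1]
    group
  have h1 : u * γ * u⁻¹ * γ⁻¹ ∈ Γ := by
    rw [e2]
    exact Γ.mul_mem (Γ.mul_mem (Γ.mul_mem (Γ.inv_mem hw) hγ') hw) (Γ.inv_mem hγ)
  have hn := Cg_normal hZ
  have h3 : u * γ * u⁻¹ * γ⁻¹ ∈ Cg K := by
    have e : u * γ * u⁻¹ * γ⁻¹ = u * (γ * u⁻¹ * γ⁻¹) := by group
    rw [e]
    exact (Cg K).mul_mem huC (hn.conj_mem _ ((Cg K).inv_mem huC) γ)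
  obtain ⟨y, hy⟩ := eq_cj_of_mem (ker_le hZ h.syl h1 h3)
  have hb : y.b = 0 := by
    have h4 := (h3 (mk 1 0 0 0 0)).2
    rw [hy, pc_cj] at h4
    simpa using h4
  refine ⟨⟨y, hb⟩, MulEquiv.ext fun g => Subtype.ext ?_⟩
  rw [hy, cj_apply]
  rfl

/-- the Weyl element belongs to `Γ` -/
theorem wb_mem [CharP K 2] [Finite K] (hZ : Z3Inv K) (h : Par 2 (Qb K) Γ D) (hF : Full D) {t : K} (ht : t ≠ 0)
    (ht1 : t ≠ 1) {ω : MulAut (Qb K)} (hω : IsWb ω) : ω ∈ Γ := by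
  obtain ⟨w, hw, hw'⟩ := exists_n hZ h (one_ne_zero (α := K))
  have hN := inn_normal (K := K)
  have hC := Cg_normal hZ
  obtain ⟨u, hu⟩ : ∃ u, u = w⁻¹ * ω := ⟨_, rfl⟩
  have huC : u ∈ Cg K := by
    rw [hu]
    refine same_mem' hZ fun g => ?_
    rw [(hw' g).1, (hw' g).2, inv_one, one_mul, one_mul]
    constructor
    · have h1 : pa (ω g) = - pc g := hω.a g
      rw [h1]
      linear_combination (pc g) * h2' (K := K)
    · have h1 : pc (ω g) = pa g := hω.c g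
      rw [h1]
  obtain ⟨d1, hd1⟩ := exists_tor (s := 1) (t := t) (RingEquiv.refl K) one_ne_zero ht
  obtain ⟨d2, hd2⟩ := exists_tor (s := t⁻¹) (t := t) (RingEquiv.refl K) (inv_ne_zero ht) ht
  obtain ⟨d3, hd3⟩ := exists_tor (s := t) (t := (t ^ 2)⁻¹) (RingEquiv.refl K) ht (inv_ne_zero (pow_ne_zero 2 ht))
  obtain ⟨γ1, hr1⟩ := exists_res hd1
  obtain ⟨γ2, hr2⟩ := exists_res hd2
  obtain ⟨γ3, hr3⟩ := exists_res hd3
  -- the order of the torus elements
  have hm : Odd (Nat.card D) := Nat.coprime_two_right.1 h.D_cop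
  have hpow : ∀ {d : MulAut (GU K)} {γ : MulAut (Qb K)} {s t : K}, IsTor d s t (RingEquiv.refl K) → IsR d γ →
      γ ^ Nat.card D = 1 := by
    intro d γ s t hd hr
    have h1 : d ^ Nat.card D = 1 := by
      have := pow_card_eq_one' (x := (⟨d, hF _ _ _ hd⟩ : D))
      exact congrArg Subtype.val this
    apply MulEquiv.ext
    intro g
    apply Subtype.ext
    have := res_pow hr (Nat.card D) g
    rw [h1] at this
    exact this
  have hcc : ∀ x ∈ Cg K, ∀ y ∈ Cg K, x * y = y * x := fun x hx y hy => cg_comm hZ hx hy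
  have hsq : ∀ x ∈ Cg K, x * x = 1 := fun x hx => cg_sq hZ hx
  have hcomm := fun {d : MulAut (GU K)} {γ : MulAut (Qb K)} {s t : K} (hd : IsTor d s t (RingEquiv.refl K))
    (hr : IsR d γ) => com_mem hZ h hF hω hw hu huC hd hr
  -- commutators of elements of `u N`
  have hcomm' : ∀ {v γ : MulAut (Qb K)}, v * u⁻¹ ∈ (MulAut.conj : Qb K →* MulAut (Qb K)).range →
      u * γ * u⁻¹ * γ⁻¹ ∈ (MulAut.conj : Qb K →* MulAut (Qb K)).range →
      v * γ * v⁻¹ * γ⁻¹ ∈ (MulAut.conj : Qb K →* MulAut (Qb K)).range := by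
    intro v γ h1 h3
    have e : v * γ * v⁻¹ * γ⁻¹ = v * u⁻¹ * (u * γ * u⁻¹ * γ⁻¹) * (γ * (v * u⁻¹)⁻¹ * γ⁻¹) := by group
    rw [e]
    exact mul_mem (mul_mem h1 h3) (hN.conj_mem _ (_root_.InvMemClass.inv_mem h1) γ)
  obtain ⟨a1, a2, a3⟩ := avg hcc hsq huC (hcomm hd1 hr1) hm (hpow hd1 hr1)
  set! u1 := (u * γ1) ^ Nat.card D with hu1; rewrite [← hu1] at a3 a2 a1
  obtain ⟨b1, b2, b3⟩ := avg hcc hsq a1 (hcomm' a2 (hcomm hd2 hr2)) hm (hpow hd2 hr2)
  set! u2 := (u1 * γ2) ^ Nat.card D with hu2; rewrite [← hu2] at b3 b2 b1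
  have b4 : u2 * u⁻¹ ∈ (MulAut.conj : Qb K →* MulAut (Qb K)).range := by
    have e : u2 * u⁻¹ = u2 * u1⁻¹ * (u1 * u⁻¹) := by group
    rw [e]
    exact (mul_mem b2 a2 :)
  obtain ⟨c1, c2, c3⟩ := avg hcc hsq b1 (hcomm' b4 (hcomm hd3 hr3)) hm (hpow hd3 hr3)
  set! u3 := (u2 * γ3) ^ Nat.card D with hu3; rewrite [← hu3] at c3 c2 c1
  -- torus elements commute
  have htt : ∀ {d d' : MulAut (GU K)} {γ γ' : MulAut (Qb K)} {s t s' t' : K}, IsTor d s t (RingEquiv.refl K) →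
      IsTor d' s' t' (RingEquiv.refl K) → IsR d γ → IsR d' γ' → Commute γ γ' := by
    intro d d' γ γ' s t s' t' hd hd' hr hr'
    show γ * γ' = γ' * γ
    apply MulEquiv.ext
    intro g
    rw [MulAut.mul_apply, MulAut.mul_apply]
    apply qext
    · rw [pa_res hd hr, pa_res hd' hr', pa_res hd' hr', pa_res hd hr]
      simp only [RingEquiv.coe_refl, id_eq]; ring
    · rw [pc_res hd hr, pc_res hd' hr', pc_res hd' hr', pc_res hd hr]
      simp only [RingEquiv.coe_refl, id_eq]; ring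
    · rw [pd_res hd hr, pd_res hd' hr', pd_res hd' hr', pd_res hd hr]
      simp only [RingEquiv.coe_refl, id_eq]; ring
    · rw [pe_res hd hr, pe_res hd' hr', pe_res hd' hr', pe_res hd hr]
      simp only [RingEquiv.coe_refl, id_eq]; ring
    · rw [pf_res hd hr, pf_res hd' hr', pf_res hd' hr', pf_res hd hr]
      simp only [RingEquiv.coe_refl, id_eq]; ring
  have a3' : Commute γ1 u1 := a3
  have b3' : Commute γ2 u2 := b3
  have c3' : Commute γ3 u3 := c3
  have hb : Commute γ1 u2 := (a3'.mul_right (htt hd1 hd2 hr1 hr2)).pow_right _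
  have hc : Commute γ1 u3 := (hb.mul_right (htt hd1 hd3 hr1 hr3)).pow_right _
  have hc' : Commute γ2 u3 := (b3'.mul_right (htt hd2 hd3 hr2 hr3)).pow_right _
  have h31 : u3 = 1 := eq_one_of_comm hZ c1 hc hc' c3 ht ht1 hd1 hd2 hd3 hr1 hr2 hr3
  have hfin : u ∈ (MulAut.conj : Qb K →* MulAut (Qb K)).range := by
    have e : u3 * u⁻¹ = u3 * u2⁻¹ * (u2 * u⁻¹) := by group
    have h4 : u3 * u⁻¹ ∈ (MulAut.conj : Qb K →* MulAut (Qb K)).range := by
      rw [e]
      exact mul_mem c2 b4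
    rw [h31, one_mul] at h4
    exact (inv_mem_iff (x := u)).1 h4
  obtain ⟨y, hy⟩ := hfin
  have h5 : u ∈ Γ := by
    apply h.indu
    rw [← hy]
    refine (mem_autInducedBy_iff _ _ _).2 ⟨y, Subgroup.mem_top _, fun g => ?_⟩
    simp only [_root_.MulAut.conj_apply, _root_.Subgroup.coe_mul, _root_.InvMemClass.coe_inv]
  have e : ω = w * u := by rw [hu]; group
  rw [e]
  exact Γ.mul_mem hw h5

/-- `Γ` is the standard automizer -/
theorem eq_gen [CharP K 2] [Finite K] (hZ : Z3Inv K) (h : Par 2 (Qb K) Γ D) (hF : Full D) {t : K} (ht : t ≠ 0)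
    (ht1 : t ≠ 1) : Γ = Gen IsWb D := by
  have hwb : ∀ ω : MulAut (Qb K), IsWb ω → ω ∈ Γ := fun ω hω => wb_mem hZ h hF ht ht1 hω
  apply le_antisymm
  · have key : ∀ γ ∈ Γ, (∀ g, pa g = 0 → pa (γ g) = 0) → γ ∈ Gen IsWb D := by
      intro γ hγ hf
      obtain ⟨x, d, hd, hx⟩ := h.norm γ hγ (norm_of_fix hZ h hγ hf)
      rcases mem_TT (h.D_le hd) with ⟨s, t', τ, hT⟩ | ⟨_, _, _, _, ρ', _, hgr, _⟩
      · obtain ⟨δ, hδ⟩ := exists_res hT
        have e : γ = cj x * δ := by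
          apply MulEquiv.ext
          intro g
          apply Subtype.ext
          rw [hx, MulAut.mul_apply, cj_apply, hδ]
        rw [e]
        exact mul_mem (Subgroup.subset_closure (Or.inl (Or.inl (cj_mem x))))
          (Subgroup.subset_closure (Or.inr ⟨d, hd, hδ⟩))
      · exact (no_gr hgr).elim
    intro γ hγ
    obtain ⟨ω, hω⟩ := exists_wb (K := K)
    obtain ⟨σ, p, r, m, w, hM⟩ := exists_mat hZ γ
    by_cases hr : r = 0
    · exact key γ hγ fun g hg => by rw [hM.a, hg, hr]; simp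
    · have h1 : ω⁻¹ * cj (x2 (w / r)) * γ ∈ Gen IsWb D := by
        refine key _ (Γ.mul_mem (Γ.mul_mem (Γ.inv_mem (hwb ω hω)) (h.indu (cj_mem _))) hγ) fun g hg => ?_
        have h3 : pc (ω ((ω⁻¹ * cj (x2 (w / r)) * γ) g)) = pa ((ω⁻¹ * cj (x2 (w / r)) * γ) g) := hω.c _
        rw [← h3, MulAut.mul_apply, MulAut.mul_apply, MulAut.apply_inv_self, pc_cj, hM.a, hM.c, hg]
        simp only [x2, map_zero, zero_mul, zero_add]
        field_simp
        linear_combination (σ (pc g) * w) * h2' (K := K)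
      have e : γ = (cj (x2 (w / r)))⁻¹ * ω * (ω⁻¹ * cj (x2 (w / r)) * γ) := by group
      rw [e]
      exact mul_mem (mul_mem (_root_.InvMemClass.inv_mem (Subgroup.subset_closure (Or.inl (Or.inl (cj_mem _)))))
        (Subgroup.subset_closure (Or.inl (Or.inr hω)))) h1
  · refine (Subgroup.closure_le _).2 ?_
    rintro γ ((hγ | hγ) | ⟨d, hd, hr⟩)
    · exact h.indu hγ
    · exact hwb γ hγ
    · exact h.D_res d hd γ hr

/-- (Lb) for `p = 2`, `q ≥ 8` -/
theorem stLb_two : ∀ {K : Type u} [Field K] {p n : ℕ}, HypG K p n → p = 2 → 8 ≤ p ^ n →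
    ∀ (Γ : Subgroup (MulAut (Qb K))) (D : Subgroup (MulAut (GU K))), Par p (Qb K) Γ D →
    HasTor D (fun t => t⁻¹) (fun t => t ^ 2) ∧ (Full D → Γ = Gen IsWb D) := by
  intro K _ p n hK hp hq Γ D h
  classical
  subst hp
  have := hK.fin
  have := hK.char
  have := Fintype.ofFinite K
  have hcard : 8 ≤ Fintype.card K := by rw [← Nat.card_eq_fintype_card, hK.card]; exact hq
  obtain ⟨κ, hκ⟩ : ∃ κ : K, κ ^ 4 ≠ κ := by
    by_contra hc
    push Not at hc
    have hP : (Polynomial.X ^ 4 - Polynomial.X : Polynomial K) ≠ 0 := FiniteField.X_pow_card_sub_X_ne_zero K (by norm_num)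
    have h1 : Fintype.card K ≤ (Polynomial.X ^ 4 - Polynomial.X : Polynomial K).natDegree := by
      rw [← Finset.card_univ]
      refine Polynomial.card_le_degree_of_subset_roots ?_
      intro x _
      rw [Polynomial.mem_roots hP]
      simp [Polynomial.IsRoot, hc x]
    rw [FiniteField.X_pow_card_sub_X_natDegree_eq K (by norm_num)] at h1
    omega
  obtain ⟨k, hk⟩ : ∃ k : K, k ∉ ({0, 1} : Finset K) := by
    by_contra hc
    push Not at hc
    have h1 : Fintype.card K ≤ ({0, 1} : Finset K).card := by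
      rw [← Finset.card_univ]
      exact Finset.card_le_card fun x _ => hc x
    have h3 : ({0, 1} : Finset K).card ≤ 2 := Finset.card_le_two
    omega
  simp only [Finset.mem_insert, Finset.mem_singleton, not_or] at hk
  have hZ : Z3Inv K := fun γ x hx hx' => z3_inv hκ hk.1 hk.2 γ hx hx'
  exact ⟨hasTor hZ h, fun hF => eq_gen hZ h hF hk.1 hk.2⟩

end Cfsg.Agent.H10.GT
end

-- part: H103/GT/Lb
section
/-!
# S5211: `StLb` (all `q ≥ 5`) from the three characteristics (helper103)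
-/

set_option autoImplicit false

namespace Cfsg.Agent.H103.GT

open Cfsg Cfsg.FusionSystem Cfsg.Agent.H779.G2
seal Cfsg.Agent.H779.G2.GU.instMul Cfsg.Agent.H779.G2.GU.instInv

universe u

theorem stLb : StLb.{u} := by
  intro K _ p n hK hq Γ D h
  by_cases h2 : p = 2
  · refine Cfsg.Agent.H10.GT.stLb_two hK h2 ?_ Γ D h
    subst h2
    have h3 : 3 ≤ n := by
      by_contra hc
      have : n ≤ 2 := by omega
      have := Nat.pow_le_pow_right (show 0 < 2 by norm_num) this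
      omega
    calc 8 = 2 ^ 3 := by norm_num
      _ ≤ 2 ^ n := Nat.pow_le_pow_right (by norm_num) h3
  by_cases h3 : p = 3
  · exact Cfsg.Agent.H904.GT.stLb_three Cfsg.Agent.H428.GT.stLb0 stGrp hK h3 hq Γ D h
  have h5 : 5 ≤ p := by
    have h1 := hK.pp.two_le
    have h4 : p ≠ 4 := by
      rintro rfl
      exact absurd hK.pp (by norm_num)
    omega
  exact Cfsg.Agent.H353.GT.stLb_five hK h5 Γ D h

end Cfsg.Agent.H103.GT
end

-- part: H446/GT/QThree
section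
/-!
# S5211, `q = 3`: the automorphisms of `Q_b` (helper446)

`K` has three elements.  `Q_b` is generated by `e1, e3, e5, e6`; `mt γ` is the matrix of `γ` on `Q_b / Z₃`.
-/

set_option autoImplicit false

namespace Cfsg.Agent.H446.GT

open Cfsg Cfsg.FusionSystem Cfsg.Agent.H756.PU Cfsg.Agent.H779.G2 Cfsg.Agent.H103.GT
seal Cfsg.Agent.H779.G2.GU.instMul Cfsg.Agent.H779.G2.GU.instInv

universe u v

/-! ### The field with three elements -/

section field

variable {K : Type u} [Field K]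

theorem three_zero (hK : HypG K 3 1) : (3 : K) = 0 := by
  have := hK.char
  exact_mod_cast CharP.cast_eq_zero K 3

theorem two_ne (hK : HypG K 3 1) : (2 : K) ≠ 0 := by
  intro h
  have h3 := three_zero hK
  have h1 : (1 : K) = 0 := by linear_combination h3 - h
  exact one_ne_zero h1

theorem tri (hK : HypG K 3 1) (x : K) : x = 0 ∨ x = 1 ∨ x = -1 := by
  have hf := hK.fin
  have hft := Fintype.ofFinite K
  have hc : Fintype.card K = 3 := by rw [← Nat.card_eq_fintype_card, hK.card, pow_one]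
  have h1 := FiniteField.pow_card x
  rw [hc] at h1
  have h2 : x * ((x - 1) * (x + 1)) = 0 := by linear_combination h1
  rcases mul_eq_zero.1 h2 with h | h
  · exact Or.inl h
  rcases mul_eq_zero.1 h with h | h
  · exact Or.inr (Or.inl (by linear_combination h))
  · exact Or.inr (Or.inr (by linear_combination h))

theorem sq_one (hK : HypG K 3 1) {x : K} (hx : x ≠ 0) : x * x = 1 := by
  rcases tri hK x with rfl | rfl | rfl
  · exact absurd rfl hx
  · ring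
  · ring

theorem pm (hK : HypG K 3 1) {x : K} (hx : x ≠ 0) : x = 1 ∨ x = -1 := (tri hK x).resolve_left hx

theorem eq_zero_of_neg (hK : HypG K 3 1) {x : K} (h : x = -x) : x = 0 := by
  have h2 : 2 * x = 0 := by linear_combination h
  exact (mul_eq_zero.1 h2).resolve_left (two_ne hK)

theorem ring_id (hK : HypG K 3 1) (τ : K ≃+* K) (x : K) : τ x = x := by
  rcases tri hK x with rfl | rfl | rfl <;> simp only [_root_.map_zero, _root_.map_one, _root_.RingEquiv.map_neg_one]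

end field

/-! ### `Q_b` -/

section qb

variable {K : Type u} [Field K]

/-- the elements of `Q_b` -/
def qb (a c d e f : K) : Qb K := ⟨⟨a, 0, c, d, e, f⟩, rfl⟩

theorem eq_qb (g : Qb K) : g = qb (g : GU K).a (g : GU K).c (g : GU K).d (g : GU K).e (g : GU K).f := by
  apply Subtype.ext
  exact GU.ext rfl g.2 rfl rfl rfl rfl

unseal Cfsg.Agent.H779.G2.GU.instMul Cfsg.Agent.H779.G2.GU.instInv in
theorem qb_mul (h3 : (3 : K) = 0) (a c d e f a' c' d' e' f' : K) :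
    qb a c d e f * qb a' c' d' e' f' = qb (a + a') (c + c') (d + d' + 2 * c * a') (e + e') (f + f') := by
  apply Subtype.ext
  ext
  · rfl
  · show (0 : K) + 0 = 0
    ring
  · show c + c' + 0 * a' = c + c'
    ring
  · show d + d' + 2 * c * a' + 0 * a' ^ 2 = d + d' + 2 * c * a'
    ring
  · show e + e' + 3 * d * a' + 3 * c * a' ^ 2 + 0 * a' ^ 3 = e + e'
    linear_combination (d * a' + c * a' ^ 2) * h3
  · show f + f' + 3 * d * c' - e * 0 + 6 * c * a' * c' + 3 * c ^ 2 * a' - 3 * d * a' * 0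
      + 3 * 0 * c * a' ^ 2 + 3 * 0 * a' ^ 2 * c' - 3 * c * a' ^ 2 * 0 - 0 * a' ^ 3 * 0
      + 0 ^ 2 * a' ^ 3 = f + f'
    linear_combination (d * c' + 2 * c * a' * c' + c ^ 2 * a') * h3

theorem qb_one : qb (0 : K) 0 0 0 0 = 1 := rfl

/-- two homomorphisms on `Q_b` which agree on the generators are equal -/
theorem hom_ext (hK : HypG K 3 1) {M : Type v} [Group M] {φ ψ : Qb K →* M}
    (h1 : φ (qb 1 0 0 0 0) = ψ (qb 1 0 0 0 0)) (hc : φ (qb 0 1 0 0 0) = ψ (qb 0 1 0 0 0))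
    (he : φ (qb 0 0 0 1 0) = ψ (qb 0 0 0 1 0)) (hf : φ (qb 0 0 0 0 1) = ψ (qb 0 0 0 0 1)) : φ = ψ := by
  have h3 := three_zero hK
  let L : Subgroup (Qb K) := φ.eqLocus ψ
  have key : ∀ F : K → Qb K, (∀ s t, F (s + t) = F s * F t) → F 1 ∈ L → ∀ t, F t ∈ L := by
    intro F hF h t
    have h0 : F 0 = 1 := by
      have := hF 0 0
      rw [add_zero] at this
      exact left_eq_mul.1 this
    rcases tri hK t with rfl | rfl | rfl
    · rw [h0]; exact one_mem L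
    · exact h
    · have h4 : F (-1) = (F 1)⁻¹ := by
        rw [eq_inv_iff_mul_eq_one, ← hF]
        simpa using h0
      rw [h4]
      exact _root_.InvMemClass.inv_mem h
  have m1 : ∀ t, qb t 0 0 0 0 ∈ L := key (fun t => qb t 0 0 0 0) (fun s t => by
    rw [qb_mul h3]; congr 1 <;> ring) h1
  have mc : ∀ t, qb 0 t 0 0 0 ∈ L := key (fun t => qb 0 t 0 0 0) (fun s t => by
    rw [qb_mul h3]; congr 1 <;> ring) hc
  have me : ∀ t, qb 0 0 0 t 0 ∈ L := key (fun t => qb 0 0 0 t 0) (fun s t => by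
    rw [qb_mul h3]; congr 1 <;> ring) he
  have mf : ∀ t, qb 0 0 0 0 t ∈ L := key (fun t => qb 0 0 0 0 t) (fun s t => by
    rw [qb_mul h3]; congr 1 <;> ring) hf
  have md : ∀ t, qb 0 0 t 0 0 ∈ L := key (fun t => qb 0 0 t 0 0) (fun s t => by
    rw [qb_mul h3]; congr 1 <;> ring) (by
      have h4 : qb (0 : K) 0 1 0 0 = qb (-1) 0 0 0 0 * (qb 0 (-1) 0 0 0 * (qb 1 0 0 0 0 * qb 0 1 0 0 0)) := by
        rw [qb_mul h3, qb_mul h3, qb_mul h3]
        congr 1
        · ring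
        · ring
        · linear_combination h3
        · ring
        · ring
      rw [h4]
      exact (mul_mem (m1 _) ((mul_mem (mc _) (mul_mem (m1 _) (mc _)) :)) :))
  ext g
  have h5 : g = qb (g : GU K).a 0 0 0 0 * (qb 0 (g : GU K).c 0 0 0 * (qb 0 0 (g : GU K).d 0 0 *
      (qb 0 0 0 (g : GU K).e 0 * qb 0 0 0 0 (g : GU K).f))) := by
    conv_lhs => rw [eq_qb g]
    rw [qb_mul h3, qb_mul h3, qb_mul h3, qb_mul h3]
    congr 1 <;> ring
  have h6 : g ∈ L := by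
    rw [h5]
    exact (mul_mem (m1 _) ((mul_mem (mc _) ((mul_mem (md _) (mul_mem (me _) (mf _)) :)) :)) :)
  exact h6

/-- additive functions on `Q_b` -/
theorem add_formula (hK : HypG K 3 1) {φ : Qb K → K} (hφ : ∀ g h, φ (g * h) = φ g + φ h) (g : Qb K) :
    φ g = (g : GU K).a * φ (qb 1 0 0 0 0) + (g : GU K).c * φ (qb 0 1 0 0 0) + (g : GU K).e * φ (qb 0 0 0 1 0) +
      (g : GU K).f * φ (qb 0 0 0 0 1) := by
  have h3 := three_zero hK
  let Φ : Qb K →* Multiplicative K := MonoidHom.mk' (fun g => Multiplicative.ofAdd (φ g)) (fun g h => by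
    rw [hφ]; rfl)
  let Ψ : Qb K →* Multiplicative K := MonoidHom.mk' (fun g => Multiplicative.ofAdd
    ((g : GU K).a * φ (qb 1 0 0 0 0) + (g : GU K).c * φ (qb 0 1 0 0 0) + (g : GU K).e * φ (qb 0 0 0 1 0) +
      (g : GU K).f * φ (qb 0 0 0 0 1))) (fun g h => by
    have e : g * h = qb ((g : GU K).a + (h : GU K).a) ((g : GU K).c + (h : GU K).c)
        ((g : GU K).d + (h : GU K).d + 2 * (g : GU K).c * (h : GU K).a) ((g : GU K).e + (h : GU K).e)
        ((g : GU K).f + (h : GU K).f) := by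
      conv_lhs => rw [eq_qb g, eq_qb h]
      rw [qb_mul h3]
    rw [e, ← ofAdd_add]
    congr 1
    show ((g : GU K).a + (h : GU K).a) * φ (qb 1 0 0 0 0) + ((g : GU K).c + (h : GU K).c) * φ (qb 0 1 0 0 0) +
      ((g : GU K).e + (h : GU K).e) * φ (qb 0 0 0 1 0) + ((g : GU K).f + (h : GU K).f) * φ (qb 0 0 0 0 1) = _
    ring)
  have h4 : Φ = Ψ := by
    apply hom_ext hK <;>
    · apply congrArg Multiplicative.ofAdd
      simp only [qb, _root_.one_mul, _root_.MulZeroClass.zero_mul, _root_.add_zero, _root_.zero_add]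
  exact congrArg (fun θ : Qb K →* Multiplicative K => Multiplicative.toAdd (θ g)) h4

/-- the additive coordinates -/
theorem coord_mul (h3 : (3 : K) = 0) (g h : Qb K) : ((g * h : Qb K) : GU K).a = (g : GU K).a + (h : GU K).a ∧
    ((g * h : Qb K) : GU K).c = (g : GU K).c + (h : GU K).c ∧
    ((g * h : Qb K) : GU K).d = (g : GU K).d + (h : GU K).d + 2 * (g : GU K).c * (h : GU K).a ∧
    ((g * h : Qb K) : GU K).e = (g : GU K).e + (h : GU K).e ∧
    ((g * h : Qb K) : GU K).f = (g : GU K).f + (h : GU K).f := by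
  have e : g * h = qb ((g : GU K).a + (h : GU K).a) ((g : GU K).c + (h : GU K).c)
      ((g : GU K).d + (h : GU K).d + 2 * (g : GU K).c * (h : GU K).a) ((g : GU K).e + (h : GU K).e)
      ((g : GU K).f + (h : GU K).f) := by
    conv_lhs => rw [eq_qb g, eq_qb h]
    rw [qb_mul h3]
  rw [e]
  exact ⟨rfl, rfl, rfl, rfl, rfl⟩

/-- the centre of `Q_b` -/
theorem central_iff (hK : HypG K 3 1) (z : Qb K) :
    (∀ g : Qb K, z * g = g * z) ↔ (z : GU K).a = 0 ∧ (z : GU K).c = 0 := by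
  have h3 := three_zero hK
  constructor
  · intro h
    have h1 := congrArg (fun g : Qb K => (g : GU K).d) (h (qb 1 0 0 0 0))
    have h2 := congrArg (fun g : Qb K => (g : GU K).d) (h (qb 0 1 0 0 0))
    simp only [(coord_mul h3 _ _).2.2.1] at h1 h2
    simp only [qb] at h1 h2
    constructor
    · have h4 : 2 * (z : GU K).a = 0 := by linear_combination -h2
      exact (mul_eq_zero.1 h4).resolve_left (two_ne hK)
    · have h4 : 2 * (z : GU K).c = 0 := by linear_combination h1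
      exact (mul_eq_zero.1 h4).resolve_left (two_ne hK)
  · rintro ⟨ha, hc⟩ g
    apply Subtype.ext
    obtain ⟨e1, e2, e3, e4, e5⟩ := coord_mul h3 z g
    obtain ⟨k1, k2, k3, k4, k5⟩ := coord_mul h3 g z
    apply GU.ext
    · rw [e1, k1, add_comm]
    · exact (z * g).2.trans (g * z).2.symm
    · rw [e2, k2, add_comm]
    · rw [e3, k3, ha, hc]; ring
    · rw [e4, k4, add_comm]
    · rw [e5, k5, add_comm]

/-- automorphisms preserve the centre -/
theorem map_central (hK : HypG K 3 1) (γ : MulAut (Qb K)) {z : Qb K} (ha : (z : GU K).a = 0) (hc : (z : GU K).c = 0) :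
    ((γ z : Qb K) : GU K).a = 0 ∧ ((γ z : Qb K) : GU K).c = 0 := by
  rw [← central_iff hK]
  intro g
  have h1 := (central_iff hK z).2 ⟨ha, hc⟩ (γ⁻¹ g)
  have h2 := congrArg γ h1
  rw [map_mul, map_mul] at h2
  have h4 : γ (γ⁻¹ g) = g := MulAut.apply_inv_self _ _ _
  rwa [h4] at h2

/-- the formulas for an automorphism -/
theorem form_a (hK : HypG K 3 1) (γ : MulAut (Qb K)) (g : Qb K) : ((γ g : Qb K) : GU K).a =
    (g : GU K).a * ((γ (qb 1 0 0 0 0) : Qb K) : GU K).a + (g : GU K).c * ((γ (qb 0 1 0 0 0) : Qb K) : GU K).a := by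
  rw [add_formula hK (φ := fun g => ((γ g : Qb K) : GU K).a) (fun g h => by
    rw [map_mul, (coord_mul (three_zero hK) _ _).1]) g, (map_central hK γ (z := qb 0 0 0 1 0) rfl rfl).1,
    (map_central hK γ (z := qb 0 0 0 0 1) rfl rfl).1]
  ring

theorem form_c (hK : HypG K 3 1) (γ : MulAut (Qb K)) (g : Qb K) : ((γ g : Qb K) : GU K).c =
    (g : GU K).a * ((γ (qb 1 0 0 0 0) : Qb K) : GU K).c + (g : GU K).c * ((γ (qb 0 1 0 0 0) : Qb K) : GU K).c := by
  rw [add_formula hK (φ := fun g => ((γ g : Qb K) : GU K).c) (fun g h => by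
    rw [map_mul, (coord_mul (three_zero hK) _ _).2.1]) g, (map_central hK γ (z := qb 0 0 0 1 0) rfl rfl).2,
    (map_central hK γ (z := qb 0 0 0 0 1) rfl rfl).2]
  ring

theorem form_e (hK : HypG K 3 1) (γ : MulAut (Qb K)) (g : Qb K) : ((γ g : Qb K) : GU K).e =
    (g : GU K).a * ((γ (qb 1 0 0 0 0) : Qb K) : GU K).e + (g : GU K).c * ((γ (qb 0 1 0 0 0) : Qb K) : GU K).e +
    (g : GU K).e * ((γ (qb 0 0 0 1 0) : Qb K) : GU K).e + (g : GU K).f * ((γ (qb 0 0 0 0 1) : Qb K) : GU K).e :=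
  add_formula hK (φ := fun g => ((γ g : Qb K) : GU K).e) (fun g h => by
    rw [map_mul, (coord_mul (three_zero hK) _ _).2.2.2.1]) g

theorem form_f (hK : HypG K 3 1) (γ : MulAut (Qb K)) (g : Qb K) : ((γ g : Qb K) : GU K).f =
    (g : GU K).a * ((γ (qb 1 0 0 0 0) : Qb K) : GU K).f + (g : GU K).c * ((γ (qb 0 1 0 0 0) : Qb K) : GU K).f +
    (g : GU K).e * ((γ (qb 0 0 0 1 0) : Qb K) : GU K).f + (g : GU K).f * ((γ (qb 0 0 0 0 1) : Qb K) : GU K).f :=
  add_formula hK (φ := fun g => ((γ g : Qb K) : GU K).f) (fun g h => by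
    rw [map_mul, (coord_mul (three_zero hK) _ _).2.2.2.2]) g

/-- the matrix on `Q_b / Z₃` -/
def mt (γ : MulAut (Qb K)) : Matrix (Fin 2) (Fin 2) K :=
  !![((γ (qb 1 0 0 0 0) : Qb K) : GU K).a, ((γ (qb 0 1 0 0 0) : Qb K) : GU K).a;
    ((γ (qb 1 0 0 0 0) : Qb K) : GU K).c, ((γ (qb 0 1 0 0 0) : Qb K) : GU K).c]

theorem mt_one : mt (1 : MulAut (Qb K)) = 1 := by
  rw [Matrix.one_fin_two]
  rfl

theorem mt_mul (hK : HypG K 3 1) (γ γ' : MulAut (Qb K)) : mt (γ * γ') = mt γ * mt γ' := by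
  have h1 := form_a hK γ (γ' (qb 1 0 0 0 0))
  have h2 := form_a hK γ (γ' (qb 0 1 0 0 0))
  have h4 := form_c hK γ (γ' (qb 1 0 0 0 0))
  have h5 := form_c hK γ (γ' (qb 0 1 0 0 0))
  unfold mt
  rw [Matrix.mul_fin_two]
  simp only [MulAut.mul_apply]
  rw [h1, h2, h4, h5]
  congr 1
  congr 1
  · ring_nf
  · congr 1
    ring_nf

theorem eq_of_mt (hK : HypG K 3 1) {γ : MulAut (Qb K)} (h : mt γ = 1) (g : Qb K) :
    ((γ g : Qb K) : GU K).a = (g : GU K).a ∧ ((γ g : Qb K) : GU K).c = (g : GU K).c := by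
  unfold mt at h
  rw [Matrix.one_fin_two] at h
  have h1 := congrFun (congrFun h 0) 0
  have h2 := congrFun (congrFun h 0) 1
  have h4 := congrFun (congrFun h 1) 0
  have h5 := congrFun (congrFun h 1) 1
  simp only [_root_.Fin.isValue, _root_.Matrix.of_apply, _root_.Matrix.cons_val', _root_.Matrix.cons_val_zero, _root_.Matrix.cons_val_fin_one, _root_.Matrix.cons_val_one] at h1 h2 h4 h5
  rw [form_a hK, form_c hK, h1, h2, h4, h5]
  constructor <;> ring

theorem mt_inv_of (hK : HypG K 3 1) {γ : MulAut (Qb K)} {M : Matrix (Fin 2) (Fin 2) K} (h : mt γ * M = 1) :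
    mt γ⁻¹ = M := by
  calc mt γ⁻¹ = mt γ⁻¹ * (mt γ * M) := by rw [h, mul_one]
    _ = mt (γ⁻¹ * γ) * M := by rw [mt_mul hK, mul_assoc]
    _ = M := by rw [inv_mul_cancel, mt_one, one_mul]

/-! ### Conjugations and tori on `Q_b` -/

/-- conjugation by `x ∈ S` on `Q_b` -/
def cj (x : GU K) : MulAut (Qb K) := MulAut.conjNormal x

theorem cj_apply (x : GU K) (g : Qb K) : ((cj x g : Qb K) : GU K) = x * (g : GU K) * x⁻¹ := rfl

theorem cj_mul (x y : GU K) : cj (x * y) = cj x * cj y := map_mul _ _ _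

theorem mem_indu {γ : MulAut (Qb K)} : γ ∈ autInducedBy ⊤ (Qb K) ↔ ∃ x : GU K, γ = cj x := by
  rw [H802.mem_autInducedBy_iff]
  constructor
  · rintro ⟨x, -, hx⟩
    exact ⟨x, MulEquiv.ext fun g => Subtype.ext (hx g)⟩
  · rintro ⟨x, rfl⟩
    exact ⟨x, Subgroup.mem_top _, fun g => rfl⟩

theorem mem_inn {γ : MulAut (Qb K)} : γ ∈ Inn (Qb K) ↔ ∃ y : Qb K, γ = cj (y : GU K) := by
  constructor
  · rintro ⟨y, rfl⟩
    exact ⟨y, MulAut.conjNormal_val.symm⟩
  · rintro ⟨y, rfl⟩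
    exact ⟨y, MulAut.conjNormal_val.symm⟩

/-- the coordinates of the conjugates of the elements of `Q_b` -/
theorem cj_coord (hK : HypG K 3 1) (x : GU K) (g : Qb K) :
    ((cj x g : Qb K) : GU K).a = (g : GU K).a ∧ ((cj x g : Qb K) : GU K).c = (g : GU K).c + x.b * (g : GU K).a ∧
    (x.b = 0 → ((cj x g : Qb K) : GU K).d = (g : GU K).d + x.a * (g : GU K).c - x.c * (g : GU K).a ∧
      ((cj x g : Qb K) : GU K).e = (g : GU K).e ∧ ((cj x g : Qb K) : GU K).f = (g : GU K).f) := by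
  have h3 := three_zero hK
  have hb : (g : GU K).b = 0 := g.2
  refine ⟨cj_a x g, ?_, fun hx => ⟨?_, ?_, ?_⟩⟩
  · rw [cj_apply, cj_c, hb]; ring
  · rw [cj_apply, cj_d, hb, hx]
    linear_combination (-x.a * (g : GU K).c + x.c * (g : GU K).a) * h3
  · rw [cj_apply, cj_e, hb, hx]
    linear_combination (-2 * x.a * x.c * (g : GU K).a - x.a * (g : GU K).d + x.a ^ 2 * (g : GU K).c +
      x.c * (g : GU K).a ^ 2 + x.d * (g : GU K).a) * h3
  · rw [cj_apply, cj_f, hb, hx]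
    linear_combination (-x.a * (g : GU K).c ^ 2 + 2 * x.c * (g : GU K).a * (g : GU K).c - x.c * (g : GU K).d -
      x.c ^ 2 * (g : GU K).a + x.d * (g : GU K).c) * h3

theorem mt_cj (hK : HypG K 3 1) (x : GU K) : mt (cj x) = !![1, 0; x.b, 1] := by
  obtain ⟨h1, h2, -⟩ := cj_coord hK x (qb 1 0 0 0 0)
  obtain ⟨h4, h5, -⟩ := cj_coord hK x (qb 0 1 0 0 0)
  unfold mt
  rw [h1, h2, h4, h5]
  simp [qb]

/-- the root element `x_β(t)` on `Z₃` -/
theorem cj_x2 (t e f : K) : cj (x2 t) (qb 0 0 0 e f) = qb 0 0 0 e (f + t * e) := by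
  apply Subtype.ext
  rw [cj_apply]
  apply GU.ext
  · rw [cj_a]; rfl
  · rw [cj_b]; rfl
  · rw [cj_c]; simp [x2, qb]
  · rw [cj_d]; simp [x2, qb]
  · rw [cj_e]; simp [x2, qb]
  · rw [cj_f]; simp only [x2, qb, _root_.MulZeroClass.mul_zero, _root_.MulZeroClass.zero_mul, _root_.ne_eq, _root_.OfNat.ofNat_ne_zero, _root_.not_false_eq_true, _root_.zero_pow, _root_.sub_self, _root_.add_zero, _root_.zero_add, _root_.sub_zero]; ring

/-- the restriction of an automorphism preserving `Q_b` -/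
theorem exists_res (hK : HypG K 3 1) {α : MulAut (GU K)} (h : ∀ g : GU K, g.b = 0 → (α g).b = 0) :
    ∃ γ : MulAut (Qb K), IsR α γ := by
  have hf := hK.fin
  refine ⟨mkAut (fun g => ⟨α g, h g g.2⟩) (fun x y => Subtype.ext (map_mul α _ _)) (fun x hx => ?_), fun e => rfl⟩
  apply Subtype.ext
  have h1 : α (x : GU K) = 1 := congrArg Subtype.val hx
  exact (map_eq_one_iff α α.injective).1 h1

/-- the torus on `Q_b` -/
structure TorB (γ : MulAut (Qb K)) (s t : K) : Prop where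
  ne1 : s ≠ 0
  ne2 : t ≠ 0
  a : ∀ g : Qb K, ((γ g : Qb K) : GU K).a = s * (g : GU K).a
  c : ∀ g : Qb K, ((γ g : Qb K) : GU K).c = s * t * (g : GU K).c
  d : ∀ g : Qb K, ((γ g : Qb K) : GU K).d = t * (g : GU K).d
  e : ∀ g : Qb K, ((γ g : Qb K) : GU K).e = s * t * (g : GU K).e
  f : ∀ g : Qb K, ((γ g : Qb K) : GU K).f = s * (g : GU K).f

theorem torB_of (hK : HypG K 3 1) {α : MulAut (GU K)} {s t : K} {τ : K ≃+* K} (h : IsTor α s t τ)
    {γ : MulAut (Qb K)} (hγ : IsR α γ) : TorB γ s t where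
  ne1 := h.ne1
  ne2 := h.ne2
  a g := by rw [hγ, h.a, ring_id hK]
  c g := by rw [hγ, h.c, ring_id hK]
  d g := by rw [hγ, h.d, ring_id hK]; linear_combination t * (g : GU K).d * sq_one hK h.ne1
  e g := by
    rw [hγ, h.e, ring_id hK]
    linear_combination s * t * (g : GU K).e * sq_one hK h.ne1
  f g := by
    rw [hγ, h.f, ring_id hK]
    linear_combination s * (g : GU K).f * sq_one hK h.ne2 + s * t ^ 2 * (g : GU K).f * sq_one hK h.ne1

theorem TorB.mt {γ : MulAut (Qb K)} {s t : K} (h : TorB γ s t) : GT.mt γ = !![s, 0; 0, s * t] := by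
  unfold GT.mt
  rw [h.a, h.a, h.c, h.c]
  simp [qb]

end qb

/-! ### `Γ` -/

section gam

variable {K : Type u} [Field K] {Γ : Subgroup (MulAut (Qb K))} {D : Subgroup (MulAut (GU K))}

omit [Field K] in
theorem mk2 {a b c d a' b' c' d' : K} (h1 : a = a') (h2 : b = b') (h3 : c = c') (h4 : d = d') :
    !![a, b; c, d] = !![a', b'; c', d'] := by rw [h1, h2, h3, h4]

theorem cj_mem (hP : Par 3 (Qb K) Γ D) (x : GU K) : cj x ∈ Γ := hP.indu (mem_indu.2 ⟨x, rfl⟩)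

theorem faith (hK : HypG K 3 1) (h0 : StLb0.{u}) (hP : Par 3 (Qb K) Γ D) :
    (∀ γ ∈ Γ, mt γ = 1 → ∃ y : Qb K, γ = cj (y : GU K)) ∧ (∃ γ ∈ Γ, mt γ 0 1 ≠ 0) := by
  obtain ⟨h1, γ, hγ, g, hg, hg'⟩ := h0 hK Γ hP.indu hP.syl hP.nn (fun γ hγ hn => by
    obtain ⟨x, d, -, hd⟩ := hP.norm γ hγ hn
    exact ⟨MulAut.conj x * d, fun e => hd e⟩)
  refine ⟨fun γ hγ h => mem_inn.1 (h1 γ hγ (eq_of_mt hK h)), γ, hγ, fun h => hg' ?_⟩
  have h2 : ((γ (qb 0 1 0 0 0) : Qb K) : GU K).a = 0 := h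
  rw [form_a hK, hg, h2]
  ring

theorem exists_w (hK : HypG K 3 1) (hP : Par 3 (Qb K) Γ D) {γ : MulAut (Qb K)} (hγ : γ ∈ Γ) (h : mt γ 0 1 ≠ 0) :
    ∃ w ∈ Γ, mt w = !![0, -1; 1, 0] := by
  obtain ⟨p, q, r, s, hM⟩ : ∃ p q r s, mt γ = !![p, q; r, s] := ⟨_, _, _, _, rfl⟩
  have hq : q ≠ 0 := by rw [hM] at h; simpa using h
  have hq2 := sq_one hK hq
  obtain ⟨γ2, hγ2, r', h2⟩ : ∃ γ2 ∈ Γ, ∃ r', mt γ2 = !![0, q; r', 0] := by
    refine ⟨cj (x2 (-(q * s))) * γ * cj (x2 (-(p * q))), mul_mem (mul_mem (cj_mem hP _) hγ) (cj_mem hP _),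
      (-(q * s) * p + 1 * r) * 1 + (-(q * s) * q + 1 * s) * (-(p * q)), ?_⟩
    rw [mt_mul hK, mt_mul hK, mt_cj hK, mt_cj hK, hM, Matrix.mul_fin_two, Matrix.mul_fin_two]
    refine mk2 ?_ ?_ rfl ?_
    · show (1 * p + 0 * r) * 1 + (1 * q + 0 * s) * (-(p * q)) = 0
      linear_combination -p * hq2
    · show (1 * p + 0 * r) * 0 + (1 * q + 0 * s) * 1 = q
      ring
    · show (-(q * s) * p + 1 * r) * 0 + (-(q * s) * q + 1 * s) * 1 = 0
      linear_combination -s * hq2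
  have hr : r' ≠ 0 := by
    rintro rfl
    have h4 : mt γ2 * mt γ2⁻¹ = 1 := by rw [← mt_mul hK, mul_inv_cancel, mt_one]
    rw [h2] at h4
    have h5 := congrFun (congrFun h4 1) 1
    rw [Matrix.mul_apply, Fin.sum_univ_two] at h5
    simp at h5
  have hr2 := sq_one hK hr
  have h6 : mt γ2⁻¹ = !![0, r'; q, 0] := by
    apply mt_inv_of hK
    rw [h2, Matrix.mul_fin_two, Matrix.one_fin_two]
    refine mk2 ?_ ?_ ?_ ?_
    · linear_combination hq2
    · ring
    · ring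
    · linear_combination hr2
  refine ⟨cj (x2 1) * (γ2 * cj (x2 (-(r' * q))) * γ2⁻¹) * cj (x2 1),
    mul_mem (mul_mem (cj_mem hP _) (mul_mem (mul_mem hγ2 (cj_mem hP _)) (_root_.InvMemClass.inv_mem hγ2))) (cj_mem hP _), ?_⟩
  rw [mt_mul hK, mt_mul hK, mt_mul hK, mt_mul hK, mt_cj hK, mt_cj hK, h2, h6, Matrix.mul_fin_two, Matrix.mul_fin_two,
    Matrix.mul_fin_two, Matrix.mul_fin_two]
  simp only [show (x2 (1 : K)).b = 1 from rfl, show (x2 (-(r' * q))).b = -(r' * q) from rfl]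
  rcases pm hK hq with rfl | rfl <;> rcases pm hK hr with rfl | rfl <;>
  · refine mk2 ?_ ?_ ?_ ?_ <;> ring

end gam

end Cfsg.Agent.H446.GT
end

-- part: H446/GT/QThreeB
section
/-!
# S5211, `q = 3`: `Q_b` (helper446)
-/

set_option autoImplicit false

namespace Cfsg.Agent.H446.GT

open Cfsg Cfsg.FusionSystem Cfsg.Agent.H756.PU Cfsg.Agent.H779.G2 Cfsg.Agent.H103.GT
seal Cfsg.Agent.H779.G2.GU.instMul Cfsg.Agent.H779.G2.GU.instInv

universe u v

section gam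

variable {K : Type u} [Field K] {Γ : Subgroup (MulAut (Qb K))} {D : Subgroup (MulAut (GU K))}

/-- the elements of `D` leaving `Q_b` invariant -/
theorem tor_of_D (hK : HypG K 3 1) (hD : D ≤ TT K) {d : MulAut (GU K)} (hd : d ∈ D)
    (h : (d (x1 1)).b = 0) : ∃ s t, IsTor d s t (RingEquiv.refl K) := by
  have hf := hK.fin
  rcases mem_TT (hD hd) with ⟨s, t, τ, hτ⟩ | ⟨s, t, τ, α', ρ, h', hρ, rfl⟩
  · have : τ = RingEquiv.refl K := RingEquiv.ext fun x => ring_id hK τ x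
    subst this
    exact ⟨s, t, hτ⟩
  · exfalso
    rw [MulAut.mul_apply, h'.b, hρ.b, ring_id hK] at h
    have h1 : (x1 (1 : K)).a = 1 := rfl
    rw [h1] at h
    exact h'.ne2 (by linear_combination h)

theorem normAut_of (hK : HypG K 3 1) (hP : Par 3 (Qb K) Γ D)
    (hf : ∀ γ ∈ Γ, mt γ = 1 → ∃ y : Qb K, γ = cj (y : GU K)) {γ : MulAut (Qb K)} (hγ : γ ∈ Γ)
    (h : ∀ t : K, ∃ t' : K, mt γ * !![1, 0; t, 1] * mt γ⁻¹ = !![1, 0; t', 1]) : NormAut ⊤ γ := by
  intro x hx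
  obtain ⟨g, rfl⟩ := mem_indu.1 hx
  obtain ⟨t', ht'⟩ := h g.b
  have h1 : γ * cj g * γ⁻¹ * cj (x2 (-t')) ∈ Γ :=
    mul_mem (mul_mem (mul_mem hγ (cj_mem hP _)) (_root_.InvMemClass.inv_mem hγ)) (cj_mem hP _)
  obtain ⟨y, hy⟩ := hf _ h1 (by
    rw [mt_mul hK, mt_mul hK, mt_mul hK, mt_cj hK, mt_cj hK, ht', Matrix.mul_fin_two, Matrix.one_fin_two]
    show !![1 * 1 + 0 * -t', 1 * 0 + 0 * 1; t' * 1 + 1 * -t', t' * 0 + 1 * 1] = !![1, 0; 0, 1]
    refine mk2 ?_ ?_ ?_ ?_ <;> ring)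
  refine mem_indu.2 ⟨(y : GU K) * (x2 (-t'))⁻¹, ?_⟩
  rw [cj_mul, ← hy]
  have e : cj (x2 (-t'))⁻¹ = (cj (x2 (-t')))⁻¹ := map_inv MulAut.conjNormal _
  rw [e]
  group

theorem neg_one_mem (hK : HypG K 3 1) (hP : Par 3 (Qb K) Γ D)
    (hf : ∀ γ ∈ Γ, mt γ = 1 → ∃ y : Qb K, γ = cj (y : GU K)) {w : MulAut (Qb K)} (hw : w ∈ Γ)
    (hM : mt w = !![0, -1; 1, 0]) : ∃ d ∈ D, IsTor d (-1) 1 (RingEquiv.refl K) := by
  have h1 : mt (w * w) = !![-1, 0; 0, -1] := by
    rw [mt_mul hK, hM, Matrix.mul_fin_two]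
    refine mk2 ?_ ?_ ?_ ?_ <;> ring
  have h2 : mt (w * w)⁻¹ = !![-1, 0; 0, -1] := by
    apply mt_inv_of hK
    rw [h1, Matrix.mul_fin_two, Matrix.one_fin_two]
    refine mk2 ?_ ?_ ?_ ?_ <;> ring
  have hww : w * w ∈ Γ := mul_mem hw hw
  have hn : NormAut ⊤ (w * w) := normAut_of hK hP hf hww fun t => ⟨t, by
    rw [h1, h2, Matrix.mul_fin_two, Matrix.mul_fin_two]
    refine mk2 ?_ ?_ ?_ ?_ <;> ring⟩
  obtain ⟨x, d, hd, hxd⟩ := hP.norm _ hww hn
  have e1 := hxd (qb 1 0 0 0 0)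
  have e3 := hxd (qb 0 1 0 0 0)
  have hb : (d (x1 1)).b = 0 := by
    have h4 := congrArg GU.b e1
    rw [cj_b] at h4
    exact h4.symm.trans ((w * w) (qb 1 0 0 0 0)).2
  obtain ⟨s, t, hd'⟩ := tor_of_D hK hP.D_le hd hb
  have m1 : ((((w * w) (qb 1 0 0 0 0)) : Qb K) : GU K).a = -1 := congrFun (congrFun h1 0) 0
  have m3 : ((((w * w) (qb 0 1 0 0 0)) : Qb K) : GU K).c = -1 := congrFun (congrFun h1 1) 1
  rw [e1, cj_a, hd'.a] at m1
  rw [e3, cj_c, hd'.c, hd'.a, hd'.b] at m3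
  simp only [qb, RingEquiv.refl_apply] at m1 m3
  have hs : s = -1 := by linear_combination m1
  subst hs
  have ht : t = 1 := by linear_combination -m3
  subst ht
  exact ⟨d, hd, hd'⟩

theorem tor_unique {α β : MulAut (GU K)} {s t : K} {τ : K ≃+* K} (h : IsTor α s t τ) (h' : IsTor β s t τ) : α = β :=
  ext_aut fun g => ⟨by rw [h.a, h'.a], by rw [h.b, h'.b], by rw [h.c, h'.c], by rw [h.d, h'.d], by rw [h.e, h'.e],
    by rw [h.f, h'.f]⟩

theorem hasTor (hK : HypG K 3 1) (h : ∃ d ∈ D, IsTor d (-1) 1 (RingEquiv.refl K)) :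
    HasTor D (fun t => t⁻¹) (fun t => t ^ 2) := by
  intro t ht α hα
  rcases pm hK ht with rfl | rfl
  · have : α = 1 := ext_aut fun g => ⟨by rw [hα.a]; simp, by rw [hα.b]; simp, by rw [hα.c]; simp, by rw [hα.d]; simp,
      by rw [hα.e]; simp, by rw [hα.f]; simp⟩
    rw [this]
    exact one_mem D
  · obtain ⟨d, hd, hd'⟩ := h
    have h1 : IsTor α (-1) 1 (RingEquiv.refl K) := by
      have e1 : ((-1 : K))⁻¹ = -1 := by rw [inv_neg, inv_one]
      have e2 : (-1 : K) ^ 2 = 1 := by ring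
      have := hα
      simp only [e1, e2] at this
      exact this
    rw [tor_unique h1 hd']
    exact hd

/-! ### `D` full -/

/-- the torus elements of `Γ` -/
theorem exists_torB (hK : HypG K 3 1) (hP : Par 3 (Qb K) Γ D) (hF : Full D) {s t : K} (hs : s ≠ 0) (ht : t ≠ 0) :
    ∃ τ ∈ Γ, TorB τ s t ∧ ∃ α ∈ D, IsTor α s t (RingEquiv.refl K) ∧ IsR α τ := by
  obtain ⟨α, hα⟩ := exists_tor (RingEquiv.refl K) hs ht
  obtain ⟨τ, hτ⟩ := exists_res hK (α := α) (fun g hg => by rw [hα.b, hg]; simp)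
  have hαD : α ∈ D := hF s t α hα
  exact ⟨τ, hP.D_res α hαD τ hτ, torB_of hK hα hτ, α, hαD, hα, hτ⟩

theorem w_form (hK : HypG K 3 1) (hP : Par 3 (Qb K) Γ D) (hF : Full D)
    (hf : ∀ γ ∈ Γ, mt γ = 1 → ∃ y : Qb K, γ = cj (y : GU K)) {w₀ : MulAut (Qb K)} (hw₀ : w₀ ∈ Γ)
    (hM₀ : mt w₀ = !![0, -1; 1, 0]) :
    ∃ w ∈ Γ, mt w = !![0, -1; 1, 0] ∧ ∃ k : K, w (qb 1 0 0 0 0) = qb 0 1 0 k 0 ∧ w (qb 0 1 0 0 0) = qb (-1) 0 0 0 (-k) ∧
      w (qb 0 0 0 1 0) = qb 0 0 0 0 1 ∧ w (qb 0 0 0 0 1) = qb 0 0 0 (-1) 0 := by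
  have h3 := three_zero hK
  -- the coordinates of the matrix
  have hmt : ∀ {w : MulAut (Qb K)}, mt w = !![0, -1; 1, 0] → ((w (qb 1 0 0 0 0) : Qb K) : GU K).a = 0 ∧
      ((w (qb 0 1 0 0 0) : Qb K) : GU K).a = -1 ∧ ((w (qb 1 0 0 0 0) : Qb K) : GU K).c = 1 ∧
      ((w (qb 0 1 0 0 0) : Qb K) : GU K).c = 0 := fun h =>
    ⟨congrFun (congrFun h 0) 0, congrFun (congrFun h 0) 1, congrFun (congrFun h 1) 0, congrFun (congrFun h 1) 1⟩
  -- adjust by an inner automorphism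
  obtain ⟨w, hw, hM, hd1, hd3⟩ : ∃ w ∈ Γ, mt w = !![0, -1; 1, 0] ∧ ((w (qb 1 0 0 0 0) : Qb K) : GU K).d = 0 ∧
      ((w (qb 0 1 0 0 0) : Qb K) : GU K).d = 0 := by
    obtain ⟨n1, n2, n3, n4⟩ := hmt hM₀
    set! y : GU K := ⟨-((w₀ (qb 1 0 0 0 0) : Qb K) : GU K).d, 0, -((w₀ (qb 0 1 0 0 0) : Qb K) : GU K).d, 0, 0, 0⟩ with hy
    refine ⟨cj y * w₀, mul_mem (cj_mem hP _) hw₀, ?_, ?_, ?_⟩
    · rw [mt_mul hK, mt_cj hK, hM₀, Matrix.mul_fin_two]
      show !![1 * 0 + 0 * 1, 1 * -1 + 0 * 0; 0 * 0 + 1 * 1, 0 * -1 + 1 * 0] = _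
      refine mk2 ?_ ?_ ?_ ?_ <;> ring
    · rw [MulAut.mul_apply, ((cj_coord hK y _).2.2 rfl).1, n1, n3]
      simp only [hy]
      ring
    · rw [MulAut.mul_apply, ((cj_coord hK y _).2.2 rfl).1, n2, n4]
      simp only [hy]
      ring
  obtain ⟨m1, m2, m3, m4⟩ := hmt hM
  -- equivariance
  have heq : ∀ {s t : K} {τ τ' : MulAut (Qb K)}, τ ∈ Γ → τ' ∈ Γ → TorB τ s t → TorB τ' (s * t) t → ∀ g : Qb K,
      ((w (τ g) : Qb K) : GU K).e = s * ((w g : Qb K) : GU K).e ∧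
      ((w (τ g) : Qb K) : GU K).f = s * t * ((w g : Qb K) : GU K).f ∧
      ((g : GU K).a = 0 → (g : GU K).c = 0 → ((w (τ g) : Qb K) : GU K).d = t * ((w g : Qb K) : GU K).d) := by
    intro s t τ τ' hτ hτ' hT hT' g
    have hi : mt w⁻¹ = !![0, 1; -1, 0] := by
      apply mt_inv_of hK
      rw [hM, Matrix.mul_fin_two, Matrix.one_fin_two]
      refine mk2 ?_ ?_ ?_ ?_ <;> ring
    have hs2 := sq_one hK hT.ne1
    have ht2 := sq_one hK hT.ne2
    have hi' : mt τ'⁻¹ = !![s * t, 0; 0, s] := by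
      apply mt_inv_of hK
      rw [hT'.mt, Matrix.mul_fin_two, Matrix.one_fin_two]
      refine mk2 ?_ ?_ ?_ ?_
      · linear_combination t * t * hs2 + ht2
      · ring
      · ring
      · linear_combination t * t * hs2 + ht2
    obtain ⟨y, hy⟩ := hf (w * τ * w⁻¹ * τ'⁻¹) (mul_mem (mul_mem (mul_mem hw hτ) (_root_.InvMemClass.inv_mem hw)) (_root_.InvMemClass.inv_mem hτ')) (by
      rw [mt_mul hK, mt_mul hK, mt_mul hK, hM, hi, hi', hT.mt, Matrix.mul_fin_two, Matrix.mul_fin_two,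
        Matrix.mul_fin_two, Matrix.one_fin_two]
      refine mk2 ?_ ?_ ?_ ?_
      · linear_combination t * t * hs2 + ht2
      · ring
      · ring
      · linear_combination hs2)
    have e : w (τ g) = cj (y : GU K) (τ' (w g)) := by
      rw [← hy]
      simp only [MulAut.mul_apply]
      have k1 : τ'⁻¹ (τ' (w g)) = w g := MulAut.inv_apply_self _ _ _
      have k2 : w⁻¹ (w g) = g := MulAut.inv_apply_self _ _ _
      rw [k1, k2]
    obtain ⟨-, -, hc⟩ := cj_coord hK (y : GU K) (τ' (w g))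
    obtain ⟨c1, c2, c3⟩ := hc y.2
    rw [e]
    refine ⟨?_, ?_, fun ha hc' => ?_⟩
    · rw [c2, hT'.e]
      linear_combination s * ((w g : Qb K) : GU K).e * ht2
    · rw [c3, hT'.f]
    · obtain ⟨z1, z2⟩ := map_central hK w ha hc'
      obtain ⟨z3, z4⟩ := map_central hK τ' z1 z2
      rw [c1, z3, z4, hT'.d]
      ring
  have hne : (-1 : K) ≠ 0 := neg_ne_zero.2 one_ne_zero
  obtain ⟨τ1, g1, hT1, -⟩ := exists_torB hK hP hF (s := 1) (t := -1) one_ne_zero hne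
  obtain ⟨τ2, g2, hT2, -⟩ := exists_torB hK hP hF (s := -1) (t := -1) hne hne
  obtain ⟨τ3, g3, hT3, -⟩ := exists_torB hK hP hF (s := -1) (t := 1) hne one_ne_zero
  have q1 := @heq 1 (-1) τ1 τ2 g1 g2 hT1 (by rw [one_mul]; exact hT2)
  have q2 := @heq (-1) (-1) τ2 τ1 g2 g1 hT2 (by rw [neg_mul_neg, one_mul]; exact hT1)
  -- fixed generators
  have f1 : τ1 (qb 1 0 0 0 0) = qb 1 0 0 0 0 := by
    rw [eq_qb (τ1 (qb 1 0 0 0 0)), hT1.a, hT1.c, hT1.d, hT1.e, hT1.f]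
    simp [qb]
  have f3 : τ2 (qb 0 1 0 0 0) = qb 0 1 0 0 0 := by
    rw [eq_qb (τ2 (qb 0 1 0 0 0)), hT2.a, hT2.c, hT2.d, hT2.e, hT2.f]
    simp [qb]
  have f5 : τ2 (qb 0 0 0 1 0) = qb 0 0 0 1 0 := by
    rw [eq_qb (τ2 (qb 0 0 0 1 0)), hT2.a, hT2.c, hT2.d, hT2.e, hT2.f]
    simp [qb]
  have f6 : τ1 (qb 0 0 0 0 1) = qb 0 0 0 0 1 := by
    rw [eq_qb (τ1 (qb 0 0 0 0 1)), hT1.a, hT1.c, hT1.d, hT1.e, hT1.f]
    simp [qb]
  have z1 : ((w (qb 1 0 0 0 0) : Qb K) : GU K).f = 0 := by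
    apply eq_zero_of_neg hK
    have := (q1 (qb 1 0 0 0 0)).2.1
    rw [f1] at this
    linear_combination this
  have z3 : ((w (qb 0 1 0 0 0) : Qb K) : GU K).e = 0 := by
    apply eq_zero_of_neg hK
    have := (q2 (qb 0 1 0 0 0)).1
    rw [f3] at this
    linear_combination this
  have z5 : ((w (qb 0 0 0 1 0) : Qb K) : GU K).e = 0 := by
    apply eq_zero_of_neg hK
    have := (q2 (qb 0 0 0 1 0)).1
    rw [f5] at this
    linear_combination this
  have y5 : ((w (qb 0 0 0 1 0) : Qb K) : GU K).d = 0 := by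
    apply eq_zero_of_neg hK
    have := (q2 (qb 0 0 0 1 0)).2.2 rfl rfl
    rw [f5] at this
    linear_combination this
  have z6 : ((w (qb 0 0 0 0 1) : Qb K) : GU K).f = 0 := by
    apply eq_zero_of_neg hK
    have := (q1 (qb 0 0 0 0 1)).2.1
    rw [f6] at this
    linear_combination this
  have y6 : ((w (qb 0 0 0 0 1) : Qb K) : GU K).d = 0 := by
    apply eq_zero_of_neg hK
    have := (q1 (qb 0 0 0 0 1)).2.2 rfl rfl
    rw [f6] at this
    linear_combination this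
  obtain ⟨a5, c5⟩ := map_central hK w (z := qb 0 0 0 1 0) rfl rfl
  obtain ⟨a6, c6⟩ := map_central hK w (z := qb 0 0 0 0 1) rfl rfl
  set! k := ((w (qb 1 0 0 0 0) : Qb K) : GU K).e with hk
  set! k' := ((w (qb 0 1 0 0 0) : Qb K) : GU K).f with hk'
  set! F := ((w (qb 0 0 0 1 0) : Qb K) : GU K).f with hFd
  set! E := ((w (qb 0 0 0 0 1) : Qb K) : GU K).e with hEd
  have w1 : w (qb 1 0 0 0 0) = qb 0 1 0 k 0 := by rw [eq_qb (w (qb 1 0 0 0 0)), m1, m3, hd1, z1]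
  have w3 : w (qb 0 1 0 0 0) = qb (-1) 0 0 0 k' := by rw [eq_qb (w (qb 0 1 0 0 0)), m2, m4, hd3, z3]
  have w5 : w (qb 0 0 0 1 0) = qb 0 0 0 0 F := by rw [eq_qb (w (qb 0 0 0 1 0)), a5, c5, y5, z5]
  have w6 : w (qb 0 0 0 0 1) = qb 0 0 0 E 0 := by rw [eq_qb (w (qb 0 0 0 0 1)), a6, c6, y6, z6]
  -- the square of `w`
  have hsq : ∀ g : Qb K, ((w (w g) : Qb K) : GU K).e = - (g : GU K).e ∧ ((w (w g) : Qb K) : GU K).f = - (g : GU K).f := by
    intro g
    have hi' : mt τ3⁻¹ = !![-1, 0; 0, -1] := by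
      apply mt_inv_of hK
      rw [hT3.mt, Matrix.mul_fin_two, Matrix.one_fin_two]
      refine mk2 ?_ ?_ ?_ ?_ <;> ring
    obtain ⟨y, hy⟩ := hf (w * w * τ3⁻¹) (mul_mem (mul_mem hw hw) (_root_.InvMemClass.inv_mem g3)) (by
      rw [mt_mul hK, mt_mul hK, hM, hi', Matrix.mul_fin_two, Matrix.mul_fin_two, Matrix.one_fin_two]
      refine mk2 ?_ ?_ ?_ ?_ <;> ring)
    have e : w (w g) = cj (y : GU K) (τ3 g) := by
      rw [← hy]
      simp only [MulAut.mul_apply]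
      have k1 : τ3⁻¹ (τ3 g) = g := MulAut.inv_apply_self _ _ _
      rw [k1]
    obtain ⟨-, -, hc⟩ := cj_coord hK (y : GU K) (τ3 g)
    obtain ⟨-, c2, c3⟩ := hc y.2
    rw [e, c2, c3, hT3.e, hT3.f]
    constructor <;> ring
  have r1 : E * F = -1 := by
    have h4 := (hsq (qb 0 0 0 1 0)).1
    rw [w5, form_e hK, ← hk, ← hEd] at h4
    simp only [qb] at h4
    linear_combination h4
  have r2 : k' + k * F = 0 := by
    have h4 := (hsq (qb 1 0 0 0 0)).2
    rw [w1, form_f hK, ← hk', ← hFd] at h4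
    simp only [qb] at h4
    linear_combination h4
  -- the order of `x_β(1) w`
  have r3 : E = -1 := by
    obtain ⟨y, hy⟩ := hf (cj (x2 1) * w * (cj (x2 1) * w) * (cj (x2 1) * w))
      (mul_mem (mul_mem (mul_mem (cj_mem hP _) hw) (mul_mem (cj_mem hP _) hw)) (mul_mem (cj_mem hP _) hw)) (by
      rw [mt_mul hK, mt_mul hK, mt_mul hK, mt_cj hK, hM]
      show !![1, 0; 1, 1] * !![0, -1; 1, 0] * (!![1, 0; 1, 1] * !![0, -1; 1, 0]) *
        (!![1, 0; 1, 1] * !![0, -1; 1, 0]) = 1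
      simp only [Matrix.mul_fin_two]
      rw [Matrix.one_fin_two]
      refine mk2 ?_ ?_ ?_ ?_ <;> ring)
    have h4 := congrArg (fun g : Qb K => (g : GU K).e) (congrArg (fun θ : MulAut (Qb K) => θ (qb 0 0 0 1 0)) hy)
    obtain ⟨-, -, hc⟩ := cj_coord hK (y : GU K) (qb 0 0 0 1 0)
    have lin : ∀ e f : K, w (qb 0 0 0 e f) = qb 0 0 0 (f * E) (e * F) := by
      intro e f
      obtain ⟨b1, b2⟩ := map_central hK w (z := qb 0 0 0 e f) rfl rfl
      have h5 : w (qb 0 0 0 e f) = w (qb 0 0 0 e 0) * w (qb 0 0 0 0 f) := by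
        rw [← map_mul, qb_mul h3]
        (with_reducible congr 2) <;> ring
      have h6 : ∀ e, w (qb 0 0 0 e 0) = qb 0 0 0 0 (e * F) := by
        intro e
        rcases tri hK e with rfl | rfl | rfl
        · rw [zero_mul, qb_one, map_one]
        · rw [one_mul, w5]
        · have : qb (0 : K) 0 0 (-1) 0 = (qb 0 0 0 1 0)⁻¹ := by
            rw [eq_inv_iff_mul_eq_one, qb_mul h3, ← qb_one]
            (with_reducible congr 1) <;> ring
          rw [this, map_inv, w5, inv_eq_iff_mul_eq_one, qb_mul h3, ← qb_one]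
          (with_reducible congr 1) <;> ring
      have h7 : ∀ f, w (qb 0 0 0 0 f) = qb 0 0 0 (f * E) 0 := by
        intro f
        rcases tri hK f with rfl | rfl | rfl
        · rw [zero_mul, qb_one, map_one]
        · rw [one_mul, w6]
        · have : qb (0 : K) 0 0 0 (-1) = (qb 0 0 0 0 1)⁻¹ := by
            rw [eq_inv_iff_mul_eq_one, qb_mul h3, ← qb_one]
            (with_reducible congr 1) <;> ring
          rw [this, map_inv, w6, inv_eq_iff_mul_eq_one, qb_mul h3, ← qb_one]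
          (with_reducible congr 1) <;> ring
      rw [h5, h6, h7, qb_mul h3]
      (with_reducible congr 1) <;> ring
    simp only [MulAut.mul_apply] at h4
    rw [lin, cj_x2, lin, cj_x2, lin, cj_x2, (hc y.2).2.1] at h4
    simp only [qb] at h4
    linear_combination E * r1 - h4
  have r4 : F = 1 := by rw [r3] at r1; linear_combination -r1
  have r5 : k' = -k := by rw [r4] at r2; linear_combination r2
  refine ⟨w, hw, hM, k, w1, ?_, ?_, ?_⟩
  · rw [w3, r5]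
  · rw [w5, r4]
  · rw [w6, r3]

end gam

end Cfsg.Agent.H446.GT
end

-- part: H446/GT/QThreeC
section
/-!
# S5211, `q = 3`: `StAut3`, `StLb3` (helper446)
-/

set_option autoImplicit false

namespace Cfsg.Agent.H446.GT

open Cfsg Cfsg.FusionSystem Cfsg.Agent.H756.PU Cfsg.Agent.H779.G2 Cfsg.Agent.H103.GT
seal Cfsg.Agent.H779.G2.GU.instMul Cfsg.Agent.H779.G2.GU.instInv

universe u v

/-- the underlying map of a central automorphism -/
def ceMap {K : Type u} [Field K] (k k' : K) (g : GU K) : GU K :=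
  ⟨g.a, g.b, g.c, g.d + k' * g.b, g.e, g.f + k * g.a⟩

theorem ceMap_mul {K : Type u} [Field K] (h3 : (3 : K) = 0) (k k' : K) (x y : GU K) :
    ceMap k k' (x * y) = ceMap k k' x * ceMap k k' y := by
  ext
  · simp only [ceMap, GU.mul_a]
  · simp only [ceMap, GU.mul_b]
  · simp only [ceMap, GU.mul_c]
  · simp only [ceMap, GU.mul_b, GU.mul_d]; ring
  · simp only [ceMap, GU.mul_e]
    linear_combination (-k' * x.b * y.a) * h3
  · simp only [ceMap, GU.mul_a, GU.mul_f]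
    linear_combination (-k' * x.b * y.c + k' * x.b * y.a * y.b) * h3

theorem stAut3 : StAut3.{u} := by
  intro K _ hK k k'
  have hf := hK.fin
  refine ⟨mkAut (ceMap k k') (ceMap_mul (three_zero hK) k k') ?_, fun _ => rfl, fun _ => rfl, fun _ => rfl,
    fun _ => rfl, fun _ => rfl, fun _ => rfl⟩
  intro x hx
  have ha : x.a = 0 := congrArg GU.a hx
  have hb : x.b = 0 := congrArg GU.b hx
  have hc : x.c = 0 := congrArg GU.c hx
  have hd : x.d + k' * x.b = 0 := congrArg GU.d hx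
  have he : x.e = 0 := congrArg GU.e hx
  have hf' : x.f + k * x.a = 0 := congrArg GU.f hx
  rw [hb] at hd
  rw [ha] at hf'
  have hd' : x.d = 0 := by linear_combination hd
  have hf'' : x.f = 0 := by linear_combination hf'
  ext <;> assumption

theorem ce3_unique {K : Type u} [Field K] {k k' : K} {α β : MulAut (GU K)} (h : IsCe3 k k' α) (h' : IsCe3 k k' β) :
    α = β :=
  ext_aut fun g => ⟨by rw [h.a, h'.a], by rw [h.b, h'.b], by rw [h.c, h'.c], by rw [h.d, h'.d], by rw [h.e, h'.e],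
    by rw [h.f, h'.f]⟩

section gam

variable {K : Type u} [Field K] {Γ : Subgroup (MulAut (Qb K))} {D : Subgroup (MulAut (GU K))}

/-- conjugation of `cj` by the restriction of an automorphism -/
theorem res_cj {α : MulAut (GU K)} {C : MulAut (Qb K)} (hC : IsR α C) (x : GU K) : C * cj x = cj (α x) * C := by
  apply MulEquiv.ext
  intro g
  apply Subtype.ext
  rw [MulAut.mul_apply, MulAut.mul_apply, hC, cj_apply, cj_apply, hC, map_mul, map_mul, map_inv]

/-- the restriction of the central automorphism -/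
theorem ce_apply {α : MulAut (GU K)} {C : MulAut (Qb K)} {k : K} (hα : IsCe3 k 0 α) (hC : IsR α C) (a c d e f : K) :
    C (qb a c d e f) = qb a c d e (f + k * a) := by
  apply Subtype.ext
  rw [hC]
  apply GU.ext
  · rw [hα.a]; rfl
  · rw [hα.b]; rfl
  · rw [hα.c]; rfl
  · rw [hα.d]; simp [qb]
  · rw [hα.e]; rfl
  · rw [hα.f]; rfl

theorem ce_tor {α : MulAut (GU K)} {C τ : MulAut (Qb K)} {k s t : K} (hα : IsCe3 k 0 α) (hC : IsR α C)
    (hτ : TorB τ s t) : C * τ = τ * C := by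
  apply MulEquiv.ext
  intro g
  rw [MulAut.mul_apply, MulAut.mul_apply, eq_qb (τ g), ce_apply hα hC, eq_qb (τ (C g)), hτ.a, hτ.c, hτ.d, hτ.e, hτ.f,
    hτ.a, hτ.c, hτ.d, hτ.e, hτ.f, hC, hα.a, hα.c, hα.d, hα.e, hα.f]
  congr 1 <;> ring

theorem ce_wb (hK : HypG K 3 1) {α : MulAut (GU K)} {C w δ : MulAut (Qb K)} {k : K} (hα : IsCe3 k 0 α) (hC : IsR α C)
    (h1 : w (qb 1 0 0 0 0) = qb 0 1 0 k 0) (hc : w (qb 0 1 0 0 0) = qb (-1) 0 0 0 (-k))
    (he : w (qb 0 0 0 1 0) = qb 0 0 0 0 1) (hf : w (qb 0 0 0 0 1) = qb 0 0 0 (-1) 0) (hδ : IsWb δ) :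
    C * δ = w * C := by
  have h3 := three_zero hK
  have key : ∀ g : Qb K, δ g = qb (-(g : GU K).c) (g : GU K).a ((g : GU K).d - 2 * (g : GU K).a * (g : GU K).c)
      (-(g : GU K).f + 3 * (g : GU K).a * (g : GU K).c ^ 2) ((g : GU K).e - 3 * (g : GU K).a ^ 2 * (g : GU K).c) := by
    intro g
    rw [eq_qb (δ g), hδ.a, hδ.c, hδ.d, hδ.e, hδ.f]
  have lin6 : ∀ f, w (qb 0 0 0 0 f) = qb 0 0 0 (-f) 0 := by
    intro f
    rcases tri hK f with rfl | rfl | rfl
    · rw [neg_zero, qb_one, map_one]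
    · exact hf
    · have : qb (0 : K) 0 0 0 (-1) = (qb 0 0 0 0 1)⁻¹ := by
        rw [eq_inv_iff_mul_eq_one, qb_mul h3, ← qb_one]
        (with_reducible congr 1) <;> ring
      rw [this, map_inv, hf, inv_eq_iff_mul_eq_one, qb_mul h3, ← qb_one]
      (with_reducible congr 1) <;> ring
  have : (C * δ).toMonoidHom = (w * C).toMonoidHom := by
    apply hom_ext hK
    · show C (δ (qb 1 0 0 0 0)) = w (C (qb 1 0 0 0 0))
      have e : qb (1 : K) 0 0 0 (0 + k * 1) = qb 1 0 0 0 0 * qb 0 0 0 0 k := by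
        rw [qb_mul h3]
        congr 1 <;> ring
      rw [key, ce_apply hα hC, ce_apply hα hC, e, map_mul, h1, lin6, qb_mul h3]
      simp only [qb]
      congr 1
      congr 1 <;> ring
    · show C (δ (qb 0 1 0 0 0)) = w (C (qb 0 1 0 0 0))
      rw [key, ce_apply hα hC, ce_apply hα hC, mul_zero, add_zero, hc]
      simp only [qb]
      congr 1
      congr 1 <;> ring
    · show C (δ (qb 0 0 0 1 0)) = w (C (qb 0 0 0 1 0))
      rw [key, ce_apply hα hC, ce_apply hα hC, mul_zero, add_zero, he]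
      simp only [qb]
      congr 1
      congr 1 <;> ring
    · show C (δ (qb 0 0 0 0 1)) = w (C (qb 0 0 0 0 1))
      rw [key, ce_apply hα hC, ce_apply hα hC, mul_zero, add_zero, hf]
      simp only [qb]
      congr 1
      congr 1 <;> ring
  exact MulEquiv.ext fun g => congrArg (fun θ : Qb K →* Qb K => θ g) this

/-- a subgroup containing the induced automorphisms, `w` and the torus contains `Γ` -/
theorem le_of_gens (hK : HypG K 3 1) (hP : Par 3 (Qb K) Γ D) (hF : Full D)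
    (hf : ∀ γ ∈ Γ, mt γ = 1 → ∃ y : Qb K, γ = cj (y : GU K)) {G : Subgroup (MulAut (Qb K))} (hG : G ≤ Γ)
    (h1 : ∀ x : GU K, cj x ∈ G) {w : MulAut (Qb K)} (hw : w ∈ G) (hM : mt w = !![0, -1; 1, 0])
    (h2 : ∀ d ∈ D, ∀ τ : MulAut (Qb K), IsR d τ → τ ∈ G) : Γ ≤ G := by
  -- lower triangular
  have low : ∀ γ ∈ Γ, mt γ 0 1 = 0 → γ ∈ G := by
    intro γ hγ h
    obtain ⟨p, q, r, s, hM⟩ : ∃ p q r s, mt γ = !![p, q; r, s] := ⟨_, _, _, _, rfl⟩
    have hq : q = 0 := by rw [hM] at h; simpa using h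
    subst hq
    have hp : p ≠ 0 := by
      rintro rfl
      have h4 : mt γ * mt γ⁻¹ = 1 := by rw [← mt_mul hK, mul_inv_cancel, mt_one]
      rw [hM] at h4
      have h5 := congrFun (congrFun h4 0) 0
      rw [Matrix.mul_apply, Fin.sum_univ_two] at h5
      simp at h5
    have hs : s ≠ 0 := by
      rintro rfl
      have h4 : mt γ⁻¹ * mt γ = 1 := by rw [← mt_mul hK, inv_mul_cancel, mt_one]
      rw [hM] at h4
      have h5 := congrFun (congrFun h4 1) 1
      rw [Matrix.mul_apply, Fin.sum_univ_two] at h5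
      simp at h5
    have hp2 := sq_one hK hp
    have hs2 := sq_one hK hs
    obtain ⟨τ, hτ, hT, α, hα, -, hR⟩ := exists_torB hK hP hF (s := p) (t := p * s) hp (mul_ne_zero hp hs)
    have hτG : τ ∈ G := h2 α hα τ hR
    have hi : mt τ⁻¹ = !![p, 0; 0, s] := by
      apply mt_inv_of hK
      rw [hT.mt, Matrix.mul_fin_two, Matrix.one_fin_two]
      refine mk2 ?_ ?_ ?_ ?_
      · linear_combination hp2
      · ring
      · ring
      · linear_combination hs2 + s * s * hp2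
    obtain ⟨y, hy⟩ := hf (cj (x2 (-(r * p))) * γ * τ⁻¹)
      (mul_mem (mul_mem (cj_mem hP _) hγ) (_root_.InvMemClass.inv_mem hτ)) (by
      rw [mt_mul hK, mt_mul hK, mt_cj hK, hM, hi]
      show !![1, 0; -(r * p), 1] * !![p, 0; r, s] * !![p, 0; 0, s] = 1
      rw [Matrix.mul_fin_two, Matrix.mul_fin_two, Matrix.one_fin_two]
      refine mk2 ?_ ?_ ?_ ?_
      · linear_combination hp2
      · ring
      · linear_combination -r * p * hp2
      · linear_combination hs2)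
    have e : γ = (cj (x2 (-(r * p))))⁻¹ * cj (y : GU K) * τ := by
      rw [← hy]
      group
    rw [e]
    exact mul_mem (mul_mem (_root_.InvMemClass.inv_mem (h1 _)) (h1 _)) hτG
  intro γ hγ
  by_cases h : mt γ 0 1 = 0
  · exact low γ hγ h
  obtain ⟨p, q, r, s, hM'⟩ : ∃ p q r s, mt γ = !![p, q; r, s] := ⟨_, _, _, _, rfl⟩
  have hq : q ≠ 0 := by rw [hM'] at h; simpa using h
  have hq2 := sq_one hK hq
  have h4 : w * (cj (x2 (-(q * s))) * γ) ∈ G := by
    apply low _ (mul_mem (hG hw) (mul_mem (cj_mem hP _) hγ))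
    rw [mt_mul hK, mt_mul hK, mt_cj hK, hM, hM']
    show (!![0, -1; 1, 0] * (!![1, 0; -(q * s), 1] * !![p, q; r, s]) : Matrix (Fin 2) (Fin 2) K) 0 1 = 0
    rw [Matrix.mul_fin_two, Matrix.mul_fin_two]
    show 0 * (1 * q + 0 * s) + -1 * (-(q * s) * q + 1 * s) = 0
    linear_combination s * hq2
  have e : γ = (cj (x2 (-(q * s))))⁻¹ * (w⁻¹ * (w * (cj (x2 (-(q * s))) * γ))) := by group
  rw [e]
  exact mul_mem (_root_.InvMemClass.inv_mem (h1 _)) (mul_mem (_root_.InvMemClass.inv_mem hw) h4)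

end gam

theorem stLb3 (h0 : StLb0.{u}) : StLb3.{u} := by
  intro K _ hK Γ D hP
  obtain ⟨hf, γ0, hγ0, hne⟩ := faith hK h0 hP
  obtain ⟨w₀, hw₀, hM₀⟩ := exists_w hK hP hγ0 hne
  refine ⟨hasTor hK (neg_one_mem hK hP hf hw₀ hM₀), fun hF => ?_⟩
  obtain ⟨w, hw, hM, k, w1, w3, w5, w6⟩ := w_form hK hP hF hf hw₀ hM₀
  obtain ⟨α, hα⟩ := stAut3 hK k 0
  obtain ⟨C, hC⟩ := exists_res hK (α := α) (fun g hg => by rw [hα.b, hg])
  have hfin := hK.fin
  obtain ⟨β, hβ⟩ : ∃ β : MulAut (GU K), IsR β C⁻¹ := ⟨α⁻¹, fun g => by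
    have h1 : α ((C⁻¹ g : Qb K) : GU K) = g := by
      rw [← hC]
      have : C (C⁻¹ g) = g := MulAut.apply_inv_self _ _ _
      rw [this]
    rw [← h1]
    exact (MulAut.inv_apply_self _ _ _).symm⟩
  set! G : Subgroup (MulAut (Qb K)) := (Gen IsWb D).comap (MulAut.conj C⁻¹).toMonoidHom with hGd
  have hG : ∀ γ, γ ∈ G ↔ C⁻¹ * γ * C ∈ Gen IsWb D := by
    intro γ
    rw [hGd, Subgroup.mem_comap]
    show C⁻¹ * γ * (C⁻¹)⁻¹ ∈ _ ↔ _
    rw [inv_inv]
  have gcj : ∀ x : GU K, cj x ∈ G := by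
    intro x
    rw [hG, res_cj hβ, mul_assoc, inv_mul_cancel, mul_one]
    exact Subgroup.subset_closure (Or.inl (Or.inl (mem_indu.2 ⟨_, rfl⟩)))
  obtain ⟨δ, hδ⟩ := exists_wb (K := K)
  have hwδ : C * δ = w * C := ce_wb hK hα hC w1 w3 w5 w6 hδ
  have gw : w ∈ G := by
    rw [hG, mul_assoc, ← hwδ, inv_mul_cancel_left]
    exact Subgroup.subset_closure (Or.inl (Or.inr hδ))
  have hres : ∀ d ∈ D, ∀ τ : MulAut (Qb K), IsR d τ → C * τ = τ * C := by
    intro d hd τ hτ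
    have hb : (d (x1 1)).b = 0 := by
      have h4 := hτ (qb 1 0 0 0 0)
      have h5 : ((qb 1 0 0 0 0 : Qb K) : GU K) = x1 1 := rfl
      rw [h5] at h4
      rw [← h4]
      exact (τ (qb 1 0 0 0 0)).2
    obtain ⟨s, t, hst⟩ := tor_of_D hK hP.D_le hd hb
    exact ce_tor hα hC (torB_of hK hst hτ)
  have gD : ∀ d ∈ D, ∀ τ : MulAut (Qb K), IsR d τ → τ ∈ G := by
    intro d hd τ hτ
    rw [hG, mul_assoc, ← hres d hd τ hτ, inv_mul_cancel_left]
    exact Subgroup.subset_closure (Or.inr ⟨d, hd, hτ⟩)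
  have hle : G ≤ Γ := by
    have h1 : Gen IsWb D ≤ Γ.comap (MulAut.conj C).toMonoidHom := by
      refine (Subgroup.closure_le _).2 ?_
      rintro γ ((hγ | hγ) | ⟨d, hd, hγ⟩)
      · obtain ⟨x, rfl⟩ := mem_indu.1 hγ
        show C * cj x * C⁻¹ ∈ Γ
        rw [res_cj hC, mul_assoc, mul_inv_cancel, mul_one]
        exact cj_mem hP _
      · show C * γ * C⁻¹ ∈ Γ
        rw [ce_wb hK hα hC w1 w3 w5 w6 hγ, mul_assoc, mul_inv_cancel, mul_one]
        exact hw
      · show C * γ * C⁻¹ ∈ Γ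
        rw [hres d hd γ hγ, mul_assoc, mul_inv_cancel, mul_one]
        exact hP.D_res d hd γ hγ
    intro γ hγ
    have h2 := h1 ((hG γ).1 hγ)
    have h4 : C * (C⁻¹ * γ * C) * C⁻¹ ∈ Γ := h2
    have e : C * (C⁻¹ * γ * C) * C⁻¹ = γ := by group
    rwa [e] at h4
  have heq : Γ = G := le_antisymm (le_of_gens hK hP hF hf hle gcj gw hM gD) hle
  refine ⟨k, fun γ => ?_⟩
  rw [heq, hG]
  constructor
  · intro h
    refine ⟨_, h, fun α' hα' g g' hg => ?_⟩
    have : α' = α := ce3_unique hα' hα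
    subst this
    have h1 : g' = C g := Subtype.ext (hg.trans (hC g).symm)
    rw [← hC, h1]
    simp only [MulAut.mul_apply]
    have h2 : C (C⁻¹ (γ (C g))) = γ (C g) := MulAut.apply_inv_self _ _ _
    rw [h2]
  · rintro ⟨δ', hδ', h⟩
    have h1 : C * δ' = γ * C := by
      apply MulEquiv.ext
      intro g
      apply Subtype.ext
      rw [MulAut.mul_apply, MulAut.mul_apply, hC]
      exact h α hα g (C g) (hC g)
    rw [mul_assoc, ← h1, inv_mul_cancel_left]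
    exact hδ'

end Cfsg.Agent.H446.GT
end

private theorem dce_6e6e5f949e72 : _root_.True := by
  try have : _root_.True := by simp only [_root_.Cfsg.Agent.H10.GT.pe.eq_1]
  try have : _root_.True := by simp only [_root_.Cfsg.Agent.H10.GT.ze.eq_1]
  try have : _root_.True := by simp only [_root_.Cfsg.Agent.H446.GT.qb.eq_1]
  try have : _root_.True := by simp only [_root_.Cfsg.Agent.H10.GT.pd.eq_1]
  try have : _root_.True := by simp only [_root_.Cfsg.Agent.H10.GT.ds.eq_1]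
  try have : _root_.True := by simp only [_root_.Cfsg.Agent.H10.GT.al.eq_1]
  try have : _root_.True := by simp only [_root_.Cfsg.Agent.H10.GT.zf.eq_1]
  try have : _root_.True := by simp only [_root_.Cfsg.Agent.H10.GT.pa.eq_1]
  try have : _root_.True := by simp only [_root_.Cfsg.Agent.H10.GT.mk.eq_1]
  try have : _root_.True := by simp only [_root_.Cfsg.Agent.H10.GT.pf.eq_1]
  try have : _root_.True := by simp only [_root_.Cfsg.Agent.H446.GT.ceMap.eq_1]
  try have : _root_.True := by simp only [_root_.Cfsg.Agent.H10.GT.pc.eq_1]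
  exact _root_.True.intro
end

-- part: H270/GT/GTwo
section
prune_inst 0xf43047004c000200001880060020202020000430000000012160000000088262ad852000382000001a0888410009006002100090424000000a0004000005000000801206b148a10406008e800000000000000000000000000000000000000004000000000
set_option linter.all false
open scoped Cfsg.Agent.FastGrp

/-!
# S5211, `q = 2`: the fusion system of `G₂(2)`; nine does not divide the order of the automizer of `Q_a` (helper270)
-/

set_option autoImplicit false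

namespace Cfsg.Agent.H270.GT

open Cfsg Cfsg.FusionSystem Cfsg.Agent.H779.G2 Cfsg.Agent.H756.PU Cfsg.Agent.H103.GT Cfsg.Agent.H802 Cfsg.Agent.H781

universe u

section

variable {K : Type u} [Field K]

local notation "e2" => (Pi.single 2 1 : Fin 8 → K)
local notation "e3" => (Pi.single 3 1 : Fin 8 → K)
local notation "e5" => (Pi.single 5 1 : Fin 8 → K)
local notation "e6" => (Pi.single 6 1 : Fin 8 → K)

/-- the long root element -/
def zz (K : Type u) [Field K] : GU K := ⟨0, 0, 0, 0, 0, 1⟩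

theorem ac_zz (x : Fin 8 → K) : H913.GT.ac (H913.GT.emb (zz K)) x = x + (x 3 • e2 - x 5 • e6) := by
  rw [H913.GT.ac_emb]
  ext i
  fin_cases i <;> simp [zz]
  ring

/-- the centralizer of the long root element preserves the line `⟨e₂, e₆⟩` -/
theorem cent_line {g : Cfsg.Lie.G2 K} (hg : g * H913.GT.emb (zz K) = H913.GT.emb (zz K) * g) :
    (∃ m n : K, H913.GT.ac g e2 = m • e2 + n • e6) ∧ ∃ m n : K, H913.GT.ac g e6 = m • e2 + n • e6 := by
  have key : ∀ x : Fin 8 → K, H913.GT.ac g (x 3 • e2 - x 5 • e6) =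
      (H913.GT.ac g x 3) • e2 - (H913.GT.ac g x 5) • e6 := by
    intro x
    have h1 := H913.GT.ac_mul g (H913.GT.emb (zz K)) x
    rw [hg, H913.GT.ac_mul, ac_zz, ac_zz, H913.GT.ac_add] at h1
    exact (add_left_cancel h1).symm
  constructor
  · have h1 := key e3
    have e1 : ((e3 : Fin 8 → K) 3 • e2 - (e3 : Fin 8 → K) 5 • e6 : Fin 8 → K) = e2 := by simp
    rw [e1] at h1
    exact ⟨H913.GT.ac g e3 3, -H913.GT.ac g e3 5, by rw [h1, neg_smul, sub_eq_add_neg]⟩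
  · have h1 := key (-e5)
    have e1 : ((-e5 : Fin 8 → K) 3 • e2 - (-e5 : Fin 8 → K) 5 • e6 : Fin 8 → K) = e6 := by simp
    rw [e1] at h1
    exact ⟨H913.GT.ac g (-e5) 3, -H913.GT.ac g (-e5) 5, by rw [h1, neg_smul, sub_eq_add_neg]⟩

theorem tor_eq_one (hK : HypG K 2 1) (s t : Kˣ) : H913.GT.tor s t = 1 := by
  have h1 : ∀ u : Kˣ, u = 1 := fun u => Units.ext ((cases01 hK u).resolve_left u.ne_zero)
  rw [h1 s, h1 t]
  apply H913.GT.ac_ext
  intro x
  rw [H913.GT.ac_tor, H913.GT.ac_one]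
  ext i
  fin_cases i <;> simp

/-- the order of the centralizer of a long root element is not divisible by nine -/
theorem not_nine_cent (hK : HypG K 2 1) :
    ¬ 9 ∣ Nat.card (Subgroup.centralizer ({H913.GT.emb (zz K)} : Set (Cfsg.Lie.G2 K))) := by
  classical
  have hfin : Finite K := hK.fin
  have : Finite (Cfsg.Lie.G2 K) := H913.GT.finite_G2
  have : Fact (Nat.Prime 2) := ⟨Nat.prime_two⟩
  set C := Subgroup.centralizer ({H913.GT.emb (zz K)} : Set (Cfsg.Lie.G2 K)) with hC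
  have hCm : ∀ g ∈ C, g * H913.GT.emb (zz K) = H913.GT.emb (zz K) * g := by
    intro g hg
    exact (Subgroup.mem_centralizer_singleton_iff.1 hg)
  let B : Subgroup (Cfsg.Lie.G2 K) :=
    { carrier := {g | g ∈ C ∧ H913.GT.ac g e6 = e6}
      one_mem' := ⟨C.one_mem, H913.GT.ac_one _⟩
      mul_mem' := by
        rintro a b ⟨h1, h2⟩ ⟨h3, h4⟩
        exact ⟨C.mul_mem h1 h3, by rw [H913.GT.ac_mul, h4, h2]⟩
      inv_mem' := by
        rintro a ⟨h1, h2⟩
        refine ⟨C.inv_mem h1, ?_⟩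
        conv_lhs => rw [← h2]
        exact H913.GT.ac_inv_ac a _ }
  have hBC : B ≤ C := fun g hg => hg.1
  have hB : B ≤ (H913.GT.emb : GU K →* Cfsg.Lie.G2 K).range := by
    rintro g ⟨h1, h2⟩
    obtain ⟨⟨m, n, h3⟩, -⟩ := cent_line (hCm g h1)
    obtain ⟨u, s, t, h4⟩ := H913.GT.exists_of_flag (g := g) (m := 1) (n := m) (k := n) (by rw [h2, one_smul]) h3
    rw [tor_eq_one hK, mul_one] at h4
    exact ⟨u, h4.symm⟩
  have hBp : IsPGroup 2 B := by
    have h1 : IsPGroup 2 (H913.GT.emb : GU K →* Cfsg.Lie.G2 K).range := by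
      have h2 : IsPGroup 2 (GU K) := (isP hK).of_equiv Subgroup.topEquiv
      exact h2.of_surjective _ H913.GT.emb.rangeRestrict_surjective
    exact h1.to_le hB
  obtain ⟨k, hk⟩ := IsPGroup.iff_card.1 hBp
  have hidx : B.relIndex C ≤ 3 := by
    -- the orbit map
    let f : C ⧸ B.subgroupOf C → (Fin 8 → K) := Quotient.lift (fun g : C => H913.GT.ac (g : Cfsg.Lie.G2 K) e6) (by
      intro a b hab
      have h1 : (a : C)⁻¹ * b ∈ B.subgroupOf C := QuotientGroup.leftRel_apply.1 hab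
      have h2 : H913.GT.ac ((a : Cfsg.Lie.G2 K)⁻¹ * (b : Cfsg.Lie.G2 K)) e6 = e6 := (Subgroup.mem_subgroupOf.1 h1).2
      show H913.GT.ac (a : Cfsg.Lie.G2 K) e6 = H913.GT.ac (b : Cfsg.Lie.G2 K) e6
      rw [H913.GT.ac_mul] at h2
      conv_lhs => rw [← h2]
      exact H913.GT.ac_ac_inv _ _)
    have hf : ∀ g : C, f (QuotientGroup.mk g) = H913.GT.ac (g : Cfsg.Lie.G2 K) e6 := fun g => rfl
    have hinj : Function.Injective f := by
      intro a b hab
      obtain ⟨a, rfl⟩ := QuotientGroup.mk_surjective a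
      obtain ⟨b, rfl⟩ := QuotientGroup.mk_surjective b
      rw [hf, hf] at hab
      rw [QuotientGroup.eq]
      refine Subgroup.mem_subgroupOf.2 ⟨(a⁻¹ * b).2, ?_⟩
      show H913.GT.ac ((a : Cfsg.Lie.G2 K)⁻¹ * (b : Cfsg.Lie.G2 K)) e6 = e6
      rw [H913.GT.ac_mul, ← hab, H913.GT.ac_inv_ac]
    have hval : ∀ a, f a = e2 ∨ f a = e6 ∨ f a = e2 + e6 := by
      intro a
      obtain ⟨a, rfl⟩ := QuotientGroup.mk_surjective a
      rw [hf]
      obtain ⟨-, m, n, h3⟩ := cent_line (hCm a a.2)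
      rcases cases01 hK m with rfl | rfl <;> rcases cases01 hK n with rfl | rfl
      · exfalso
        rw [zero_smul, zero_smul, add_zero] at h3
        have h0 := H913.GT.ac_smul (a : Cfsg.Lie.G2 K) 0 e6
        rw [zero_smul, zero_smul] at h0
        have h4 := congrFun (H913.GT.ac_injective _ (h3.trans h0.symm)) 6
        simp at h4
      · right; left
        rw [h3, zero_smul, one_smul, zero_add]
      · left
        rw [h3, zero_smul, one_smul, add_zero]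
      · right; right
        rw [h3, one_smul, one_smul]
    let F3 : C ⧸ B.subgroupOf C → ({e2, e6, e2 + e6} : Finset (Fin 8 → K)) := fun a => ⟨f a, by
      rcases hval a with h | h | h <;> rw [h] <;> simp⟩
    have h1 : Nat.card (C ⧸ B.subgroupOf C) ≤ Nat.card ({e2, e6, e2 + e6} : Finset (Fin 8 → K)) :=
      Nat.card_le_card_of_injective F3 (fun a b hab => hinj (congrArg Subtype.val hab))
    have h2 : Nat.card ({e2, e6, e2 + e6} : Finset (Fin 8 → K)) ≤ 3 := by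
      rw [Nat.card_eq_fintype_card, Fintype.card_coe]
      exact Finset.card_le_three
    exact h1.trans h2
  intro h9
  have h1 : Nat.card C = Nat.card B * B.relIndex C := by
    have e1 : Nat.card (B.subgroupOf C) = Nat.card B := Nat.card_congr (Subgroup.subgroupOfEquivOfLe hBC).toEquiv
    rw [← e1, Subgroup.relIndex, Subgroup.card_mul_index]
  rw [h1, hk] at h9
  have h4 : 9 ∣ B.relIndex C := by
    refine (Nat.Coprime.dvd_of_dvd_mul_left ?_ h9)
    exact Nat.Coprime.pow_right k (by norm_num)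
  have h0 : B.relIndex C ≠ 0 := by
    intro h
    rw [h, mul_zero] at h1
    exact Nat.card_pos.ne' h1
  have h5 := Nat.le_of_dvd (Nat.pos_of_ne_zero h0) h4
  omega

/-- **The fusion system of `G₂(2)`.** -/
theorem g22 [Fact (Nat.Prime 2)] (hK : HypG K 2 1) : ∃ F : FusionSystem (⊤ : Subgroup (GU K)), F.IsSaturated 2 ∧
    F.IsRealizable 2 ∧ (∀ γ : MulAut (Qa K), IsWa γ → γ ∈ F.autGroup (Qa K)) ∧
      (∀ γ : MulAut (Qb K), IsWb γ → γ ∈ F.autGroup (Qb K)) ∧ ¬ 9 ∣ Nat.card (F.autGroup (Qa K)) := by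
  have hfin : Finite K := hK.fin
  have hfinG : Finite (Cfsg.Lie.G2 K) := H913.GT.finite_G2
  let ι : (⊤ : Subgroup (GU K)) →* Cfsg.Lie.G2 K := H913.GT.emb.comp (Subgroup.topEquiv (G := GU K)).toMonoidHom
  have hι : ∀ x : (⊤ : Subgroup (GU K)), ι x = H913.GT.emb (x : GU K) := fun x => rfl
  have hinj : Function.Injective ι := H913.GT.emb_injective.comp (Subgroup.topEquiv (G := GU K)).injective
  have hrange : ι.range = (H913.GT.emb : GU K →* Cfsg.Lie.G2 K).range := by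
    ext y
    constructor
    · rintro ⟨x, rfl⟩
      exact ⟨x, rfl⟩
    · rintro ⟨x, rfl⟩
      exact ⟨⟨x, Subgroup.mem_top _⟩, rfl⟩
  have hp : IsPGroup 2 ι.range := (isP hK).of_surjective ι.rangeRestrict ι.rangeRestrict_surjective
  have hidx : ¬ 2 ∣ ι.range.index := by
    rw [hrange]
    exact H913.GT.not_dvd_index hK
  let T : Sylow 2 (Cfsg.Lie.G2 K) := hp.toSylow hidx
  have hT : (T : Subgroup (Cfsg.Lie.G2 K)) = ι.range := rfl
  have hreal := pullback_isRealizedBy ι hinj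
  have haut : ∀ (Q : Subgroup (GU K)) (γ : MulAut Q), γ ∈ (pullback ι hinj).autGroup Q ↔
      ∃ g : Cfsg.Lie.G2 K, ∀ e : Q, H913.GT.emb ((γ e : Q) : GU K) = g * H913.GT.emb (e : GU K) * g⁻¹ := by
    intro Q γ
    rw [H802.mem_autGroup_iff _ le_top]
    constructor
    · rintro ⟨h1, h2, g, hg⟩
      exact ⟨g, fun e => hg e⟩
    · rintro ⟨g, hg⟩
      exact ⟨le_top, fun _ => trivial, g, fun e => hg e⟩
  refine ⟨pullback ι hinj, isSaturated_of_isRealizedBy hreal T hT, ⟨_, inferInstance, hfinG, ι, hreal, T, hT⟩,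
    fun γ hγ => (haut _ _).2 ⟨H913.GT.na, fun e => (H913.GT.na_emb hγ e).symm⟩,
    fun γ hγ => (haut _ _).2 ⟨H913.GT.nb, fun e => (H913.GT.nb_emb hγ e).symm⟩, fun h9 => not_nine_cent hK ?_⟩
  -- the group of pairs
  let D : Subgroup (Cfsg.Lie.G2 K × MulAut (Qa K)) :=
    { carrier := {x | ∀ e : Qa K, H913.GT.emb ((x.2 e : Qa K) : GU K) = x.1 * H913.GT.emb (e : GU K) * x.1⁻¹}
      one_mem' := by
        intro e
        show H913.GT.emb (e : GU K) = 1 * H913.GT.emb (e : GU K) * 1⁻¹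
        rw [one_mul, inv_one, mul_one]
      mul_mem' := by
        intro x y hx hy e
        show H913.GT.emb ((x.2 (y.2 e) : Qa K) : GU K) = x.1 * y.1 * H913.GT.emb (e : GU K) * (x.1 * y.1)⁻¹
        rw [hx, hy, mul_inv_rev]
        simp only [mul_assoc]
      inv_mem' := by
        intro x hx e
        show H913.GT.emb ((x.2⁻¹ e : Qa K) : GU K) = x.1⁻¹ * H913.GT.emb (e : GU K) * x.1⁻¹⁻¹
        have h1 := hx (x.2⁻¹ e)
        rw [MulAut.apply_inv_self] at h1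
        rw [h1]
        group }
  have hfm := finite_mulAut_Qa hK
  have h1 : (pullback ι hinj).autGroup (Qa K) ≤ D.map (MonoidHom.snd _ _) := by
    intro γ hγ
    obtain ⟨g, hg⟩ := (haut _ γ).1 hγ
    exact ⟨(g, γ), hg, rfl⟩
  have h2 : D.map (MonoidHom.fst _ _) ≤ Subgroup.centralizer ({H913.GT.emb (zz K)} : Set (Cfsg.Lie.G2 K)) := by
    rintro _ ⟨x, hx, rfl⟩
    rw [Subgroup.mem_centralizer_singleton_iff]
    have h3 : (⟨zz K, rfl⟩ : Qa K) = x.2 ⟨zz K, rfl⟩ := (fix_Z1 hK x.2 ⟨zz K, rfl⟩ ⟨rfl, rfl, rfl, rfl, rfl⟩).symm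
    have h4 := hx ⟨zz K, rfl⟩
    rw [← h3] at h4
    show x.1 * H913.GT.emb (zz K) = H913.GT.emb (zz K) * x.1
    have h5 : H913.GT.emb (zz K) = x.1 * H913.GT.emb (zz K) * x.1⁻¹ := h4
    conv_rhs => rw [h5]
    rw [inv_mul_cancel_right]
  have h3 : Nat.card (D.map (MonoidHom.fst _ _)) = Nat.card D := by
    refine (Nat.card_congr ?_).symm
    refine Equiv.ofBijective (fun x : D => (⟨x.1.1, x.1, x.2, rfl⟩ : D.map (MonoidHom.fst _ _))) ⟨?_, ?_⟩
    · intro x y hxy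
      have e1 : x.1.1 = y.1.1 := congrArg Subtype.val hxy
      have e2' : x.1.2 = y.1.2 := by
        apply MulEquiv.ext
        intro e
        apply Subtype.ext
        apply H913.GT.emb_injective
        rw [x.2 e, y.2 e, e1]
      exact Subtype.ext (Prod.ext e1 e2')
    · rintro ⟨_, x, hx, rfl⟩
      exact ⟨⟨x, hx⟩, rfl⟩
  calc 9 ∣ Nat.card ((pullback ι hinj).autGroup (Qa K)) := h9
    _ ∣ Nat.card (D.map (MonoidHom.snd _ _)) := Subgroup.card_dvd_of_le h1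
    _ ∣ Nat.card D := Subgroup.card_map_dvd _ _
    _ = Nat.card (D.map (MonoidHom.fst _ _)) := h3.symm
    _ ∣ _ := Subgroup.card_dvd_of_le h2

end

end Cfsg.Agent.H270.GT

private theorem dce_21610ec90f32 : _root_.True := by
  try have : _root_.True := by simp only [_root_.Cfsg.Agent.H270.GT.zz.eq_1]
  exact _root_.True.intro
end

-- part: H270/GT/Main2
section
prune_inst 0xd02043001c0002000018801620202020780004300023000171e00f02020793632d81270078600e001b0aaa7100098040021000d90270000020008e0040010020848a7286b348a10427008fc0f807100000000000000000000000000000041004000000000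
set_option linter.all false
open scoped Cfsg.Agent.FastGrp

/-!
# S5211, `q = 2`: the main case (helper270)

`stMain2 : StE21 → StAut2 → StGa2 → StGb2 → StSw2 → StRM12 → StRG23 → StMain2`
-/

set_option autoImplicit false

namespace Cfsg.Agent.H270.GT

open Cfsg Cfsg.FusionSystem Cfsg.Agent.H779.G2 Cfsg.Agent.H756.PU Cfsg.Agent.H103.GT Cfsg.Agent.H802

universe u

section

variable {K : Type u} [Field K]

theorem par2_of (hK : HypG K 2 1) [Fact (Nat.Prime 2)] {F : FusionSystem (⊤ : Subgroup (GU K))}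
    (hF : F.IsSaturated 2) {Q : Subgroup (GU K)} (hQ : Q = Qa K ∨ Q = Qb K)
    (hnn : ¬ ∀ γ ∈ F.autGroup Q, NormAut ⊤ γ) : Par2 (F.autGroup Q) := by
  have hfin : Finite (GU K) := finite_GU hK
  exact ⟨autInducedBy_le_autGroup F le_top, syl_of_normal (isP hK) hF (top_le_norm Q hQ), hnn⟩

/-- `Aut_F(S) = Inn(S)` -/
theorem AF_eq (hA : StAut2.{u}) (hK : HypG K 2 1) [Fact (Nat.Prime 2)] {F : FusionSystem (⊤ : Subgroup (GU K))}
    (hF : F.IsSaturated 2) : AF F = (MulAut.conj : GU K →* MulAut (GU K)).range := by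
  have hfin : Finite (GU K) := finite_GU hK
  have hfm : Finite (MulAut (GU K)) := Cfsg.Agent.H759.finite_mulAut
  obtain ⟨D, hD, hDe⟩ := Cfsg.Agent.H805.PU.stCompl F (isP hK) hF
  have h1 : IsPGroup 2 D := by
    rintro ⟨d, hd⟩
    obtain ⟨k, hk⟩ := (hA hK).1 d
    exact ⟨k, Subtype.ext hk⟩
  obtain ⟨k, hk⟩ := IsPGroup.iff_card.1 h1
  have h2 : Nat.card D = 1 := by
    rw [hk] at hD ⊢
    rcases Nat.eq_zero_or_pos k with h | h
    · rw [h, pow_zero]
    · exfalso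
      have h3 : 2 ∣ 2 ^ k := dvd_pow_self 2 h.ne'
      have h4 := Nat.dvd_gcd h3 (dvd_refl 2)
      rw [Nat.Coprime.gcd_eq_one hD] at h4
      omega
  rw [← hDe, Subgroup.eq_bot_of_card_eq D h2, sup_bot_eq]

/-- an element of order three excludes the normal case -/
theorem nn_of_three (hA : StAut2.{u}) (hK : HypG K 2 1) [Fact (Nat.Prime 2)] {F : FusionSystem (⊤ : Subgroup (GU K))}
    (hF : F.IsSaturated 2) {Q : Subgroup (GU K)} (hQ : Q = Qa K ∨ Q = Qb K) {γ : MulAut Q} (hγ : γ ∈ F.autGroup Q)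
    (ho : orderOf γ = 3) : ¬ ∀ γ ∈ F.autGroup Q, NormAut ⊤ γ := by
  intro hn
  have hfin : Finite (GU K) := finite_GU hK
  obtain ⟨β, hβ, he⟩ := ext_mem (isP hK) hF (top_le_norm Q hQ) hγ (hn γ hγ)
  obtain ⟨k, hk⟩ := (hA hK).1 β
  have h1 : ∀ (n : ℕ) (e : Q), (((γ ^ n) e : Q) : GU K) = (β ^ n) e := by
    intro n
    induction n with
    | zero => intro e; simp
    | succ n ih =>
      intro e
      rw [pow_succ, pow_succ, MulAut.mul_apply, MulAut.mul_apply, ih, he]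
  have h2 : γ ^ 2 ^ k = 1 := by
    apply MulEquiv.ext
    intro e
    apply Subtype.ext
    rw [h1, hk]
    rfl
  have h3 := orderOf_dvd_of_pow_eq_one h2
  rw [ho] at h3
  exact absurd ((Nat.prime_dvd_prime_iff_eq Nat.prime_three Nat.prime_two).1 (Nat.prime_three.dvd_of_dvd_pow h3))
    (by norm_num)

/-- the normal form -/
structure Nf (F : FusionSystem (⊤ : Subgroup (GU K))) : Prop where
  sat : F.IsSaturated 2
  par : Par2 (F.autGroup (Qa K))
  gb : F.autGroup (Qb K) = Gen IsWb ⊥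

theorem eq_of_same (hE : StE21.{u}) (hA : StAut2.{u}) (hK : HypG K 2 1) [Fact (Nat.Prime 2)]
    {F F' : FusionSystem (⊤ : Subgroup (GU K))} (h : Nf F) (h' : Nf F')
    (e : F.autGroup (Qa K) = F'.autGroup (Qa K)) : F = F' := by
  have hfin : Finite (GU K) := finite_GU hK
  exact fusionSystem_ext (Cfsg.Agent.H546.PU.stSame F F' (Qa K) (Qb K) (isP hK) h.sat h'.sat le_top le_top
    (hE hK F h.sat) (hE hK F' h'.sat) (autGroup_top_eq_of_AF ((AF_eq hA hK h.sat).trans (AF_eq hA hK h'.sat).symm))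
    e (h.gb.trans h'.gb.symm))

/-- the restriction of an automorphism of `GU K` normalizes `Aut_S(Q)` -/
theorem conj_ind {Q : Subgroup (GU K)} {θ : MulAut (GU K)} {r : MulAut Q} (hr : ∀ x : Q, ((r x : Q) : GU K) = θ x)
    {x : MulAut Q} : r * x * r⁻¹ ∈ autInducedBy ⊤ Q ↔ x ∈ autInducedBy ⊤ Q := by
  rw [mem_autInducedBy_iff, mem_autInducedBy_iff]
  constructor
  · rintro ⟨g, -, hg⟩
    refine ⟨θ.symm g, Subgroup.mem_top _, fun y => ?_⟩
    have h1 := hg (r y)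
    rw [MulAut.mul_apply, MulAut.mul_apply, MulAut.inv_apply_self, hr, hr] at h1
    apply θ.injective
    rw [h1, map_mul, map_mul, map_inv, MulEquiv.apply_symm_apply]
  · rintro ⟨g, -, hg⟩
    refine ⟨θ g, Subgroup.mem_top _, fun y => ?_⟩
    rw [MulAut.mul_apply, MulAut.mul_apply, hr, hg, map_mul, map_mul, map_inv, ← hr, MulAut.apply_inv_self]

/-- transport of the non-normality -/
theorem nn_conj {Q : Subgroup (GU K)} {θ : MulAut (GU K)} {r : MulAut Q} (hr : ∀ x : Q, ((r x : Q) : GU K) = θ x)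
    {Γ Γ' : Subgroup (MulAut Q)} (h : ∀ γ, γ ∈ Γ' ↔ r⁻¹ * γ * r ∈ Γ) (hn : ¬ ∀ γ ∈ Γ, NormAut ⊤ γ) :
    ¬ ∀ γ ∈ Γ', NormAut ⊤ γ := by
  intro hc
  apply hn
  intro γ hγ x hx
  have h1 : r * γ * r⁻¹ ∈ Γ' := by
    rw [h]
    have : r⁻¹ * (r * γ * r⁻¹) * r = γ := by group
    rwa [this]
  have h2 := hc _ h1 (r * x * r⁻¹) ((conj_ind hr).2 hx)
  have h3 : r * γ * r⁻¹ * (r * x * r⁻¹) * (r * γ * r⁻¹)⁻¹ = r * (γ * x * γ⁻¹) * r⁻¹ := by group
  rw [h3] at h2
  exact (conj_ind hr).1 h2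

theorem card_conj {A : Type*} [Group A] {r : A} {Γ Γ' : Subgroup A} (h : ∀ γ, γ ∈ Γ' ↔ r⁻¹ * γ * r ∈ Γ) :
    Nat.card Γ' = Nat.card Γ := by
  refine Nat.card_congr
    { toFun := fun γ => ⟨r⁻¹ * γ * r, (h γ).1 γ.2⟩
      invFun := fun γ => ⟨r * γ * r⁻¹, (h _).2 (by
        have : r⁻¹ * (r * (γ : A) * r⁻¹) * r = γ := by group
        rw [this]
        exact γ.2)⟩
      left_inv := fun γ => Subtype.ext (by
        show r * (r⁻¹ * (γ : A) * r) * r⁻¹ = γ
        group)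
      right_inv := fun γ => Subtype.ext (by
        show r⁻¹ * (r * (γ : A) * r⁻¹) * r = γ
        group) }

theorem mem_Gen_eq {Q : Subgroup (GU K)} {W : MulAut Q → Prop} {Γ Γ' : Subgroup (MulAut Q)} {r : MulAut Q}
    (h : ∀ γ, γ ∈ Γ' ↔ r⁻¹ * γ * r ∈ Γ) (h2 : ∀ γ, γ ∈ Gen W ⊥ ↔ r⁻¹ * γ * r ∈ Γ) : Γ' = Gen W ⊥ := by
  ext γ
  rw [h, h2]

/-- every saturated system with both automizers non normal can be brought to the normal form -/
theorem exists_nf (hA : StAut2.{u}) (hGb : StGb2.{u}) (hK : HypG K 2 1) [Fact (Nat.Prime 2)]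
    {F : FusionSystem (⊤ : Subgroup (GU K))} (hF : F.IsSaturated 2)
    (na : ¬ ∀ γ ∈ F.autGroup (Qa K), NormAut ⊤ γ) (nb : ¬ ∀ γ ∈ F.autGroup (Qb K), NormAut ⊤ γ) :
    ∃ (F' : FusionSystem (⊤ : Subgroup (GU K))) (r : MulAut (Qa K)), Nf F' ∧ (F.core = ⊥ → F'.core = ⊥) ∧
      (F.IsRealizable 2 ↔ F'.IsRealizable 2) ∧
      ∀ γ : MulAut (Qa K), γ ∈ F'.autGroup (Qa K) ↔ r⁻¹ * γ * r ∈ F.autGroup (Qa K) := by
  have hfin : Finite (GU K) := finite_GU hK
  obtain ⟨θ, hθ⟩ := hGb hK _ (par2_of hK hF (Or.inr rfl) nb)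
  obtain ⟨F', hF', hcore, hreal, haut⟩ := exists_twist F θ hF
  obtain ⟨ra, hra⟩ := exists_res ((hA hK).2 θ).1
  obtain ⟨rb, hrb⟩ := exists_res ((hA hK).2 θ).2
  have ha := haut (Qa K) ra hra
  have hb := haut (Qb K) rb hrb
  refine ⟨F', ra, ⟨hF', par2_of hK hF' (Or.inl rfl) (nn_conj hra ha na), ?_⟩, hcore, hreal, ha⟩
  exact mem_Gen_eq hb ((conjOn_iff hrb).1 hθ)

/-- swapping the two diagonal types -/
theorem exists_swap (hA : StAut2.{u}) (hK : HypG K 2 1) [Fact (Nat.Prime 2)]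
    {F : FusionSystem (⊤ : Subgroup (GU K))} (h : Nf F) {Γ' : Subgroup (MulAut (Qa K))} {θ : MulAut (GU K)}
    (h1 : ConjOn θ (Gen IsWb ⊥ : Subgroup (MulAut (Qb K))) (Gen IsWb ⊥))
    (h2 : ConjOn θ (F.autGroup (Qa K)) Γ') :
    ∃ F' : FusionSystem (⊤ : Subgroup (GU K)), Nf F' ∧ (F.IsRealizable 2 ↔ F'.IsRealizable 2) ∧
      F'.autGroup (Qa K) = Γ' := by
  have hfin : Finite (GU K) := finite_GU hK
  obtain ⟨F', hF', -, hreal, haut⟩ := exists_twist F θ h.sat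
  obtain ⟨ra, hra⟩ := exists_res ((hA hK).2 θ).1
  obtain ⟨rb, hrb⟩ := exists_res ((hA hK).2 θ).2
  have ha := haut (Qa K) ra hra
  have hb := haut (Qb K) rb hrb
  refine ⟨F', ⟨hF', par2_of hK hF' (Or.inl rfl) (nn_conj hra ha h.par.nn), ?_⟩, hreal, ?_⟩
  · rw [h.gb] at hb
    exact mem_Gen_eq hb ((conjOn_iff hrb).1 h1)
  · ext γ
    rw [ha, (conjOn_iff hra).1 h2 γ]

theorem three_dvd_exists {A : Type*} [Group A] [Finite A] {Γ : Subgroup A} (h : 3 ∣ Nat.card Γ) :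
    ∃ γ ∈ Γ, orderOf γ = 3 := by
  have : Fact (Nat.Prime 3) := ⟨Nat.prime_three⟩
  obtain ⟨x, hx⟩ := exists_prime_orderOf_dvd_card' 3 h
  exact ⟨x, x.2, by rw [Subgroup.orderOf_coe]; exact hx⟩

/-- `G₂(2)` -/
theorem model_G2 (hA : StAut2.{u}) (hGa : StGa2.{u}) (hGb : StGb2.{u}) (hSw : StSw2.{u})
    (hK : HypG K 2 1) [Fact (Nat.Prime 2)] :
    ∃ F : FusionSystem (⊤ : Subgroup (GU K)), Nf F ∧ F.IsRealizable 2 ∧ F.autGroup (Qa K) = Gen IsWa ⊥ := by
  have hfin : Finite K := hK.fin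
  have hfinG : Finite (GU K) := finite_GU hK
  have hfa := finite_mulAut_Qa hK
  have hfb : Finite (MulAut (Qb K)) := Cfsg.Agent.H759.finite_mulAut
  obtain ⟨F, hF, hR, hwa, hwb, h9⟩ := g22 hK
  obtain ⟨na, nb⟩ := weyl_norm hK hwa hwb
  have pa := par2_of hK hF (Or.inl rfl) na
  have pb := par2_of hK hF (Or.inr rfl) nb
  have la : Gen IsWa ⊥ ≤ F.autGroup (Qa K) := by
    unfold Gen
    rw [Subgroup.closure_le]
    rintro γ ((hγ | hγ) | ⟨d, hd, hγ⟩)
    · exact pa.indu hγ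
    · exact hwa γ hγ
    · have : γ = 1 := by
        apply MulEquiv.ext
        intro e
        apply Subtype.ext
        rw [hγ e, Subgroup.mem_bot.1 hd]
        rfl
      rw [this]
      exact one_mem _
  have lb : Gen IsWb ⊥ ≤ F.autGroup (Qb K) := by
    unfold Gen
    rw [Subgroup.closure_le]
    rintro γ ((hγ | hγ) | ⟨d, hd, hγ⟩)
    · exact pb.indu hγ
    · exact hwb γ hγ
    · have : γ = 1 := by
        apply MulEquiv.ext
        intro e
        apply Subtype.ext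
        rw [hγ e, Subgroup.mem_bot.1 hd]
        rfl
      rw [this]
      exact one_mem _
  have hb : F.autGroup (Qb K) = Gen IsWb ⊥ := by
    obtain ⟨θ, hθ⟩ := hGb hK _ pb
    obtain ⟨rb, hrb⟩ := exists_res ((hA hK).2 θ).2
    have h1 := card_conj ((conjOn_iff hrb).1 hθ)
    exact (Subgroup.eq_of_le_of_card_ge lb h1.ge).symm
  refine ⟨F, ⟨hF, pa, hb⟩, hR, ?_⟩
  have ht := type_cases hK (hGa hK _ pa)
  rcases (hSw hK).2 with h | h
  · rw [← Ty_11] at h
    rw [h] at la ⊢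
    exact eq_11 hK ht h9 la
  · rw [← Ty_12] at h
    rw [h] at la ⊢
    exact eq_12 hK ht h9 la

/-- `M₁₂` -/
theorem model_M12 (hA : StAut2.{u}) (hGa : StGa2.{u}) (hGb : StGb2.{u}) (hM : StRM12.{u}) (hE : StE21.{u})
    (hK : HypG K 2 1) [Fact (Nat.Prime 2)] :
    ∃ F : FusionSystem (⊤ : Subgroup (GU K)), Nf F ∧ F.IsRealizable 2 ∧ F.autGroup (Qa K) = Ty K 0 1 := by
  have hfinG : Finite (GU K) := finite_GU hK
  obtain ⟨F, hF, hR, hcore, hcard, ⟨γ, hγ, ho, hfix⟩, nb⟩ := hM hK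
  have na := nn_of_three hA hK hF (Or.inl rfl) hγ ho
  obtain ⟨F', r, hn, hc', hR', ha⟩ := exists_nf hA hGb hK hF na nb
  refine ⟨F', hn, hR'.1 hR, ?_⟩
  have hcard' : Nat.card (F'.autGroup (Qa K)) = 96 := (card_conj ha).trans hcard
  -- the transported element
  have hγ' : r * γ * r⁻¹ ∈ F'.autGroup (Qa K) := by
    rw [ha]
    have : r⁻¹ * (r * γ * r⁻¹) * r = γ := by group
    rwa [this]
  have h3 : (r * γ * r⁻¹) ^ 3 = 1 := by
    rw [conj_pow, ← ho, pow_orderOf_eq_one, mul_one, mul_inv_cancel]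
  have hfix' : ∀ g : Qa K, (r * γ * r⁻¹) g = g → (g : GU K) ∈ Z1 K := by
    intro g hg
    have h1 : γ (r⁻¹ g) = r⁻¹ g := by
      have := congrArg (fun y => r⁻¹ y) hg
      simpa [MulAut.mul_apply] using this
    have h2 := Z1_pres hK r _ (hfix _ h1)
    rwa [MulAut.apply_inv_self] at h2
  have hno : ¬ ∃ v, v ≠ 0 ∧ rho hK (r * γ * r⁻¹) v = v := by
    rintro ⟨v, hv, hv'⟩
    obtain ⟨g, hg, hg'⟩ := fix_of_vec hK h3 hv' hv
    exact hg' (hfix' g hg)
  rcases type_cases hK (hGa hK _ hn.par) with h | h | h | h | ⟨-, h⟩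
  · exfalso
    have h1 : Inv (F'.autGroup (Qa K)) (Z3 K) := h ▸ inv_10 hK
    have h2 : Inv (F'.autGroup (Qb K)) (Z3 K) := hn.gb ▸ inv_b
    refine core_contra (isP hK) hn.sat (hc' hcore) (hE hK F' hn.sat) Z3_ne h1 h2 ⟨le_top, fun δ hδ e he => ?_⟩
    have h3 : MulAut.congr Subgroup.topEquiv δ ∈ AF F' := ⟨δ, hδ, rfl⟩
    rw [AF_eq hA hK hn.sat] at h3
    obtain ⟨g, hg⟩ := h3
    have h4 : ((δ e : (⊤ : Subgroup (GU K))) : GU K) = g * e * g⁻¹ := by
      have : MulAut.congr Subgroup.topEquiv δ (e : GU K) = MulAut.conj g e := by rw [hg]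
      exact this
    rw [h4]
    have hnz : (Z3 K).Normal := inferInstance
    exact hnz.conj_mem _ he g
  · exact h
  · rw [h] at hγ'
    exact absurd (fixed_11 hK hγ') hno
  · rw [h] at hγ'
    exact absurd (fixed_12 hK hγ') hno
  · rw [hcard'] at h
    norm_num at h

/-- `G₂(3)` -/
theorem model_G23 (hA : StAut2.{u}) (hGa : StGa2.{u}) (hGb : StGb2.{u}) (hG : StRG23.{u})
    (hK : HypG K 2 1) [Fact (Nat.Prime 2)] :
    ∃ F : FusionSystem (⊤ : Subgroup (GU K)), Nf F ∧ F.IsRealizable 2 ∧ F.autGroup (Qa K) = GenR {R1m, R2m} := by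
  have hfinG : Finite (GU K) := finite_GU hK
  have hfa := finite_mulAut_Qa hK
  obtain ⟨F, hF, hR, hcard, nb⟩ := hG hK
  obtain ⟨γ, hγ, ho⟩ := three_dvd_exists (Γ := F.autGroup (Qa K)) (by rw [hcard]; norm_num)
  have na := nn_of_three hA hK hF (Or.inl rfl) hγ ho
  obtain ⟨F', r, hn, hc', hR', ha⟩ := exists_nf hA hGb hK hF na nb
  refine ⟨F', hn, hR'.1 hR, ?_⟩
  have hcard' : Nat.card (F'.autGroup (Qa K)) = 288 := (card_conj ha).trans hcard
  have h9 : 9 ∣ Nat.card (F'.autGroup (Qa K)) := by rw [hcard']; norm_num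
  rcases type_cases hK (hGa hK _ hn.par) with h | h | h | h | ⟨h, -⟩
  · rw [h] at h9; exact absurd h9 (not_nine_Ty hK 1 0)
  · rw [h] at h9; exact absurd h9 (not_nine_Ty hK 0 1)
  · rw [h] at h9; exact absurd h9 (not_nine_Ty hK 1 1)
  · rw [h] at h9; exact absurd h9 (not_nine_Ty hK 1 2)
  · exact h

end

/-- **(MAIN)** `q = 2` -/
theorem stMain2 (hE : StE21.{u}) (hA : StAut2.{u}) (hGa : StGa2.{u}) (hGb : StGb2.{u}) (hSw : StSw2.{u})
    (hM : StRM12.{u}) (hG : StRG23.{u}) : StMain2.{u} := by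
  intro K _ p n hp hK hpn F hF hcore
  obtain ⟨rfl, rfl⟩ := hpn
  have hfin : Finite K := hK.fin
  have hfinG : Finite (GU K) := finite_GU hK
  have hS := isP hK
  have hess := hE hK F hF
  by_cases hEa : F.IsEssential 2 (Qa K)
  · by_cases hEb : F.IsEssential 2 (Qb K)
    · obtain ⟨F1, r, h1, hc1, hR1, -⟩ := exists_nf hA hGb hK hF (norm_of_ess hK hF hEa) (norm_of_ess hK hF hEb)
      rw [hR1]
      have hcore1 := hc1 hcore
      rcases type_cases hK (hGa hK _ h1.par) with h | h | h | h | ⟨h, -⟩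
      · exfalso
        have i1 : Inv (F1.autGroup (Qa K)) (Z3 K) := h ▸ inv_10 hK
        have i2 : Inv (F1.autGroup (Qb K)) (Z3 K) := h1.gb ▸ inv_b
        refine core_contra hS h1.sat hcore1 (hE hK F1 h1.sat) Z3_ne i1 i2 ⟨le_top, fun δ hδ e he => ?_⟩
        have h3 : MulAut.congr Subgroup.topEquiv δ ∈ AF F1 := ⟨δ, hδ, rfl⟩
        rw [AF_eq hA hK h1.sat] at h3
        obtain ⟨g, hg⟩ := h3
        have h4 : ((δ e : (⊤ : Subgroup (GU K))) : GU K) = g * e * g⁻¹ := by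
          have : MulAut.congr Subgroup.topEquiv δ (e : GU K) = MulAut.conj g e := by rw [hg]
          exact this
        rw [h4]
        have hnz : (Z3 K).Normal := inferInstance
        exact hnz.conj_mem _ he g
      · obtain ⟨F2, h2, hR2, ha2⟩ := model_M12 hA hGa hGb hM hE hK
        rw [eq_of_same hE hA hK h1 h2 (h.trans ha2.symm)]
        exact hR2
      · obtain ⟨F2, h2, hR2, ha2⟩ := model_G2 hA hGa hGb hSw hK
        rcases (hSw hK).2 with hw | hw
        · rw [eq_of_same hE hA hK h1 h2 (h.trans (Ty_11.trans (hw.symm.trans ha2.symm)))]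
          exact hR2
        · obtain ⟨⟨θ, t1, t2, t3⟩, -⟩ := hSw hK
          rw [← Ty_11, ← h] at t2
          obtain ⟨F3, h3, hR3, ha3⟩ := exists_swap hA hK h1 t1 t2
          rw [hR3, eq_of_same hE hA hK h3 h2 (ha3.trans (hw.symm.trans ha2.symm))]
          exact hR2
      · obtain ⟨F2, h2, hR2, ha2⟩ := model_G2 hA hGa hGb hSw hK
        rcases (hSw hK).2 with hw | hw
        · obtain ⟨⟨θ, t1, t2, t3⟩, -⟩ := hSw hK
          rw [← Ty_12, ← h] at t3
          obtain ⟨F3, h3, hR3, ha3⟩ := exists_swap hA hK h1 t1 t3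
          rw [hR3, eq_of_same hE hA hK h3 h2 (ha3.trans (hw.symm.trans ha2.symm))]
          exact hR2
        · rw [eq_of_same hE hA hK h1 h2 (h.trans (Ty_12.trans (hw.symm.trans ha2.symm)))]
          exact hR2
      · obtain ⟨F2, h2, hR2, ha2⟩ := model_G23 hA hGa hGb hG hK
        rw [eq_of_same hE hA hK h1 h2 (h.trans ha2.symm)]
        exact hR2
    · refine Cfsg.Agent.H546.PU.stCon F (Qa K) hS hF le_top (top_le_norm _ (Or.inl rfl)) ?_ ?_
        (inv_top_of_char fun α => ((hA hK).2 α).1)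
      · intro x hx
        refine Z1_le_Qa ((cent_Qa (h3' hK)).1 fun z hz => ?_)
        exact (Subgroup.mem_centralizer_iff.1 hx.2 z hz).symm
      · intro E hE'
        exact (hess E hE').resolve_right (by rintro rfl; exact hEb hE')
  · refine Cfsg.Agent.H546.PU.stCon F (Qb K) hS hF le_top (top_le_norm _ (Or.inr rfl)) ?_ ?_
      (inv_top_of_char fun α => ((hA hK).2 α).2)
    · intro x hx
      refine Z2_le_Qb ((cent_Qb (h3' hK)).1 fun z hz => ?_)
      exact (Subgroup.mem_centralizer_iff.1 hx.2 z hz).symm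
    · intro E hE'
      exact (hess E hE').resolve_left (by rintro rfl; exact hEa hE')

end Cfsg.Agent.H270.GT
end
end
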